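import Cfsg.Agent.Lib.StrongCrit.Transfer
import Cfsg.Agent.Lib.BenderTrans.Central
import Cfsg.Agent.Lib.PF.OddOrder

/-!
Pure subgroups: subgroups all of whose involutions are members. With two centres and two commuting
involutions such a subgroup acts on its centres with each involution fixing one point, so Bender's
transitivity theorem holds for the permutation group induced there.
-/

set_option autoImplicit false

namespace CfsgLib.StrongCrit.W1

open CfsgLib.Involutions CfsgLib.BenderTrans CfsgLib.OddOrder MulAction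
open scoped Pointwise

universe u

variable {G : Type u} [Group G] {Ω : Type u} [MulAction G Ω] {Z : Set G}

/-- The subgroup generated by the members in `M`. -/
def memIn (Z : Set G) (M : Subgroup G) : Subgroup G := Subgroup.closure {t | t ∈ Z ∧ t ∈ M}

/-- The centres of the members in `M`. -/
def zCentres (Ω : Type u) [MulAction G Ω] (Z : Set G) (M : Subgroup G) : Set Ω :=
  {x | ∃ t ∈ M, t ∈ Z ∧ t • x = x}

/-- The members in `M` have at least two centres. -/
def ZMulti (Ω : Type u) [MulAction G Ω] (Z : Set G) (M : Subgroup G) : Prop :=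
  ∃ a ∈ zCentres Ω Z M, ∃ b ∈ zCentres Ω Z M, a ≠ b

/-- Two commuting members in `M`. -/
def ZFour (Z : Set G) (M : Subgroup G) : Prop :=
  ∃ s ∈ M, ∃ t ∈ M, s ∈ Z ∧ t ∈ Z ∧ s ≠ t ∧ Commute s t

/-- Induction: proper subgroups with several centres and commuting members generate, with their
members, groups in which all involutions are members. -/
def PureBelow (Ω : Type u) [MulAction G Ω] (Z : Set G) : Prop :=
  ∀ M : Subgroup G, M ≠ ⊤ → ZMulti Ω Z M → ZFour Z M → ∀ t ∈ memIn Z M, orderOf t = 2 → t ∈ Z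

/-- A subgroup with several centres and two commuting involutions all of whose involutions are
members. -/
structure IsPure (Ω : Type u) [MulAction G Ω] (Z : Set G) (M : Subgroup G) : Prop where
  invol : ∀ t ∈ M, orderOf t = 2 → t ∈ Z
  multi : Multi Ω M
  four : FourIn M

theorem memIn_le (Z : Set G) (M : Subgroup G) : memIn Z M ≤ M :=
  (Subgroup.closure_le M).2 fun _ ht => ht.2

theorem mem_memIn {M : Subgroup G} {t : G} (htZ : t ∈ Z) (htM : t ∈ M) : t ∈ memIn Z M :=
  Subgroup.subset_closure ⟨htZ, htM⟩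

section

variable (h : Setting Ω Z)
include h

/-- What normalises `M` normalises the group generated by its members. -/
theorem normalizer_le_normalizer_memIn [Finite G] {M : Subgroup G} :
    Subgroup.normalizer (M : Set G) ≤ Subgroup.normalizer (memIn Z M : Set G) := by
  intro g hg
  refine Coprime.mem_normalizer_of_forall_conj fun x hx => ?_
  have hle : (memIn Z M).map (MulAut.conj g).toMonoidHom ≤ memIn Z M := by
    rw [memIn, MonoidHom.map_closure, Subgroup.closure_le]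
    rintro _ ⟨t, ht, rfl⟩
    exact mem_memIn (h.conj_mem g t ht.1) (Coprime.mem_normalizer_conj hg ht.2)
  exact hle ⟨x, hx, rfl⟩

theorem isPure_memIn (hP : PureBelow Ω Z) {M : Subgroup G} (hne : M ≠ ⊤) (hM : ZMulti Ω Z M)
    (h4 : ZFour Z M) : IsPure Ω Z (memIn Z M) where
  invol := hP M hne hM h4
  multi := by
    obtain ⟨a, ⟨s, hs, hsZ, hsa⟩, b, ⟨t, ht, htZ, htb⟩, hab⟩ := hM
    exact ⟨a, ⟨s, mem_memIn hsZ hs, h.invol s hsZ, hsa⟩, b,
      ⟨t, mem_memIn htZ ht, h.invol t htZ, htb⟩, hab⟩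
  four := by
    obtain ⟨s, hs, t, ht, hsZ, htZ, hne, hc⟩ := h4
    exact ⟨s, mem_memIn hsZ hs, t, mem_memIn htZ ht, h.invol s hsZ, h.invol t htZ, hne, hc⟩

theorem centres_memIn (hP : PureBelow Ω Z) {M : Subgroup G} (hne : M ≠ ⊤) (hM : ZMulti Ω Z M)
    (h4 : ZFour Z M) : centres Ω (memIn Z M) = zCentres Ω Z M := by
  ext x
  exact ⟨fun ⟨t, ht, h2, hx⟩ => ⟨t, memIn_le Z M ht, hP M hne hM h4 t ht h2, hx⟩,
    fun ⟨t, ht, htZ, hx⟩ => ⟨t, mem_memIn htZ ht, h.invol t htZ, hx⟩⟩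

/-- A group of odd order normalising the group generated by the members of `M` may be added. -/
theorem isPure_sup [Finite G] (hP : PureBelow Ω Z) {M : Subgroup G} (hne : M ≠ ⊤)
    (hM : ZMulti Ω Z M) (h4 : ZFour Z M) {W : Subgroup G} (hW : Odd (Nat.card W))
    (hWn : W ≤ Subgroup.normalizer (memIn Z M : Set G)) : IsPure Ω Z (memIn Z M ⊔ W) := by
  have hL := isPure_memIn h hP hne hM h4
  refine ⟨fun t ht ht2 => hL.invol t ?_ ht2, ?_, ?_⟩
  · have hmul : (t : G) ∈ ((memIn Z M : Set G) * (W : Set G)) := by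
      rw [← Subgroup.coe_mul_of_right_le_normalizer_left _ _ hWn]
      exact ht
    obtain ⟨l, hl, w, hw, rfl⟩ := hmul
    have h1 : l * w * (l * w) = 1 := mul_self_eq_one ht2
    have hww : w * w ∈ memIn Z M := by
      have h2 : w * l * w⁻¹ ∈ memIn Z M := Coprime.mem_normalizer_conj (hWn hw) hl
      have e : w * w = (w * l * w⁻¹)⁻¹ * l⁻¹ := by
        have h3 : w * w = (w * l⁻¹ * w⁻¹) * (l⁻¹ * (l * w * (l * w))) := by group
        rw [h3, h1, mul_one]
        group
      rw [e]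
      exact mul_mem (inv_mem h2) (inv_mem hl)
    have hodd : Odd (orderOf w) := hW.of_dvd_nat (Subgroup.orderOf_dvd_natCard _ hw)
    obtain ⟨k, hk⟩ := RankOneInvol.exists_pow_sq_eq hodd
    have hwL : w ∈ memIn Z M := by
      rw [← hk, ← (Commute.refl w).mul_pow]
      exact pow_mem hww k
    exact mul_mem hl hwL
  · obtain ⟨a, ⟨s, hs, hs'⟩, b, ⟨t, ht, ht'⟩, hab⟩ := hL.multi
    exact ⟨a, ⟨s, Subgroup.mem_sup_left hs, hs'⟩, b, ⟨t, Subgroup.mem_sup_left ht, ht'⟩, hab⟩
  · obtain ⟨s, hs, t, ht, h'⟩ := hL.four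
    exact ⟨s, Subgroup.mem_sup_left hs, t, Subgroup.mem_sup_left ht, h'⟩

omit h in
/-- A subgroup with several centres of a subgroup with only members as involutions is pure. -/
theorem IsPure.mono {M N : Subgroup G} (hp : IsPure Ω Z M) (hle : N ≤ M) (hN : Multi Ω N)
    (h4 : FourIn N) : IsPure Ω Z N :=
  ⟨fun t ht => hp.invol t (hle ht), hN, h4⟩

end

namespace IsPure

variable {M : Subgroup G} (hp : IsPure Ω Z M) (h : Setting Ω Z)
include hp h

theorem exists_fix {t : G} (ht : t ∈ M) (ht2 : orderOf t = 2) :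
    ∃ x ∈ centres Ω M, t • x = x := by
  obtain ⟨x, hx⟩ := h.exists_fix t (hp.invol t ht ht2)
  exact ⟨x, ⟨t, ht, ht2, hx⟩, hx⟩

theorem unique {t : G} (ht : t ∈ M) (ht2 : orderOf t = 2) {x y : Ω} (hx : t • x = x)
    (hy : t • y = y) : x = y :=
  h.unique t (hp.invol t ht ht2) x y hx hy

theorem fix_of_commute {t g : G} {c : Ω} (ht : t ∈ M) (htc : t ∈ invAt G c) (hg : Commute g t) :
    g • c = c :=
  h.fix_of_commute ⟨hp.invol t ht htc.1, htc.2⟩ hg

/-- A pure subgroup acts on its centres with every involution fixing one point. -/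
theorem oneFix_sub [Finite G] : OneFix M (centres Ω M) where
  trans x y := by
    rcases eq_or_ne (x : Ω) y with e | hne
    · exact ⟨1, by rw [one_smul]; exact Subtype.ext e⟩
    · obtain ⟨s, hs, hs2, hsx⟩ := x.2
      obtain ⟨t, ht, ht2, hty⟩ := y.2
      obtain ⟨g, hg, -, hgxy⟩ := h.exists_conj_of_ne ⟨hp.invol s hs hs2, hsx⟩
        ⟨hp.invol t ht ht2, hty⟩ hne
      have hgM : g ∈ M := (Subgroup.closure_le M).2 (by rintro z (rfl | rfl) <;> assumption) hg
      exact ⟨⟨g, hgM⟩, Subtype.ext hgxy⟩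
  nontriv x := by
    obtain ⟨a, ha, b, hb, hab⟩ := hp.multi
    by_cases e : (x : Ω) = a
    · exact ⟨⟨b, hb⟩, fun e' => hab (by rw [← e, ← e'])⟩
    · exact ⟨⟨a, ha⟩, fun e' => e (by rw [← e'])⟩
  exists_inv := by
    obtain ⟨s, hs, -, -, hs2, -⟩ := hp.four
    exact ⟨⟨s, hs⟩, by rw [← Subgroup.orderOf_coe]; exact hs2⟩
  exists_fix t ht := by
    obtain ⟨x, hx, htx⟩ := hp.exists_fix h t.2 (by rw [Subgroup.orderOf_coe]; exact ht)
    exact ⟨⟨x, hx⟩, Subtype.ext htx⟩
  unique t ht x y hx hy := Subtype.ext (hp.unique h t.2 (by rw [Subgroup.orderOf_coe]; exact ht)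
    (congrArg Subtype.val hx) (congrArg Subtype.val hy))

theorem not_involution_of_two {x y : Ω} (hxy : x ≠ y) {g : G} (hg : g ∈ M ⊓ two G x y) :
    orderOf g ≠ 2 :=
  fun h2 => hxy (hp.unique h hg.1 h2 (mem_two_iff.1 hg.2).1 (mem_two_iff.1 hg.2).2)

theorem odd_two [Finite G] {x y : Ω} (hxy : x ≠ y) :
    Odd (Nat.card (M ⊓ two G x y : Subgroup G)) := by
  rw [← Nat.not_even_iff_odd]
  intro he
  obtain ⟨g, hg, hg2⟩ := exists_involution_of_even_card _ he
  exact hp.not_involution_of_two h hxy hg hg2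

theorem odd_kerIn [Finite G] : Odd (Nat.card (kerIn Ω M)) := by
  obtain ⟨a, ha, b, hb, hab⟩ := hp.multi
  exact (hp.odd_two h hab).of_dvd_nat
    (Subgroup.card_dvd_of_le (le_inf (kerIn_le M) (kerIn_le_two ha hb)))

/-- The midpoint involution of two involutions of `M`. -/
theorem exists_mid [Finite G] {s t : G} {x y : Ω} (hsM : s ∈ M) (hs : s ∈ invAt G x) (htM : t ∈ M)
    (ht : t ∈ invAt G y) (hxy : x ≠ y) :
    ∃ r ∈ M, r ∈ swaps G x y ∧ r * s * r⁻¹ = t ∧ r ∈ Subgroup.closure {s, t} := by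
  have h' := hp.oneFix_sub h
  let x' : centres Ω M := ⟨x, mem_centres hsM hs⟩
  let y' : centres Ω M := ⟨y, mem_centres htM ht⟩
  obtain ⟨r, hr, hrs, hcl⟩ := h'.exists_mid (s := ⟨s, hsM⟩) (t := ⟨t, htM⟩) (x := x') (y := y')
    ⟨by rw [← Subgroup.orderOf_coe]; exact hs.1, Subtype.ext hs.2⟩
    ⟨by rw [← Subgroup.orderOf_coe]; exact ht.1, Subtype.ext ht.2⟩
    (fun e => hxy (congrArg Subtype.val e))
  refine ⟨r, r.2, ⟨by rw [Subgroup.orderOf_coe]; exact hr.1, congrArg Subtype.val hr.2⟩,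
    congrArg Subtype.val hrs, ?_⟩
  have h1 : (r : G) ∈ (Subgroup.closure ({⟨s, hsM⟩, ⟨t, htM⟩} : Set M)).map M.subtype :=
    ⟨r, hcl, rfl⟩
  rwa [MonoidHom.map_closure, Set.image_pair] at h1

theorem exists_swap_centres [Finite G] {a b : Ω} (ha : a ∈ centres Ω M) (hb : b ∈ centres Ω M)
    (hab : a ≠ b) : ∃ r ∈ M, r ∈ swaps G a b := by
  obtain ⟨s, hsM, hs⟩ := ha
  obtain ⟨t, htM, ht⟩ := hb
  obtain ⟨r, hrM, hr, -, -⟩ := hp.exists_mid h hsM hs htM ht hab
  exact ⟨r, hrM, hr⟩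

theorem exists_conj_in [Finite G] {i j : G} (hiM : i ∈ M) (hjM : j ∈ M) (hi : orderOf i = 2)
    (hj : orderOf j = 2) : ∃ g ∈ M, g * i * g⁻¹ = j := by
  have h' := hp.oneFix_sub h
  obtain ⟨g, hg⟩ := isConj_iff.1 (h'.isConj_involutions (s := ⟨i, hiM⟩) (t := ⟨j, hjM⟩)
    (by rw [← Subgroup.orderOf_coe]; exact hi) (by rw [← Subgroup.orderOf_coe]; exact hj))
  exact ⟨g, g.2, congrArg Subtype.val hg⟩

/-- A subgroup normalised by `M` fixing one centre fixes all of them. -/
theorem fix_centres [Finite G] {V : Subgroup G} (hV : M ≤ Subgroup.normalizer (V : Set G)) {c : Ω}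
    (hc : c ∈ centres Ω M) (hfix : c ∈ BenderTrans.fixSet Ω V) :
    ∀ x ∈ centres Ω M, x ∈ BenderTrans.fixSet Ω V := by
  intro x hx
  rcases eq_or_ne x c with rfl | hne
  · exact hfix
  · obtain ⟨r, hrM, hr⟩ := hp.exists_swap_centres h hc hx hne.symm
    rw [← hr.2]
    exact BenderTrans.smul_mem_fixSet (hV hrM) hfix

theorem odd_card_ker_sect [Finite G] : Odd (Nat.card (sect Ω M).ker) := by
  rw [← Nat.not_even_iff_odd]
  intro he
  obtain ⟨g, hg⟩ := exists_prime_orderOf_dvd_card' (G := (sect Ω M).ker) 2 he.two_dvd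
  obtain ⟨a, ha, b, hb, hab⟩ := hp.multi
  have hg1 := sect_eq_one_iff.1 g.2
  exact hab (hp.unique h (g : M).2 (by rw [Subgroup.orderOf_coe, Subgroup.orderOf_coe, hg])
    (hg1 a ha) (hg1 b hb))

theorem exists_lift [Finite G] {s : Sect Ω M} (hs : orderOf s = 2) :
    ∃ t : M, orderOf t = 2 ∧ sect Ω M t = s := by
  obtain ⟨g, rfl⟩ := sect_surjective M s
  have hk : g * g ∈ (sect Ω M).ker := by
    rw [MonoidHom.mem_ker, map_mul, mul_self_eq_one hs]
  have hodd : Odd (orderOf (g * g)) :=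
    (hp.odd_card_ker_sect h).of_dvd_nat (Subgroup.orderOf_dvd_natCard _ hk)
  obtain ⟨k, hk2⟩ := hodd
  have hmap : sect Ω M (g ^ (2 * k + 1)) = sect Ω M g := by
    rw [map_pow, pow_succ, pow_mul, pow_two, mul_self_eq_one hs, one_pow, one_mul]
  refine ⟨g ^ (2 * k + 1), orderOf_eq_two_iff_mul.2 ⟨fun e => ne_one_of_involution hs ?_, ?_⟩, hmap⟩
  · rw [← hmap, e, map_one]
  · rw [← (Commute.refl g).mul_pow, ← hk2, pow_orderOf_eq_one]

theorem invol_sect [Finite G] {t : M} (ht : orderOf t = 2) : orderOf (sect Ω M t) = 2 := by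
  refine orderOf_eq_two_iff_mul.2 ⟨fun e => ?_, by rw [← map_mul, mul_self_eq_one ht, map_one]⟩
  have h1 := (hp.odd_card_ker_sect h).of_dvd_nat
    (Subgroup.orderOf_dvd_natCard _ (MonoidHom.mem_ker.2 e))
  rw [ht] at h1
  exact absurd h1 (by decide)

/-- The section of a pure subgroup. -/
theorem oneFix_sect [Finite G] : OneFix (Sect Ω M) (centres Ω M) where
  trans x y := by
    obtain ⟨g, hg⟩ := (hp.oneFix_sub h).trans x y
    exact ⟨sect Ω M g, hg⟩
  nontriv := (hp.oneFix_sub h).nontriv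
  exists_inv := by
    obtain ⟨t, ht⟩ := (hp.oneFix_sub h).exists_inv
    exact ⟨sect Ω M t, hp.invol_sect h ht⟩
  exists_fix s hs := by
    obtain ⟨t, ht, rfl⟩ := hp.exists_lift h hs
    exact (hp.oneFix_sub h).exists_fix t ht
  unique s hs x y hx hy := by
    obtain ⟨t, ht, rfl⟩ := hp.exists_lift h hs
    exact (hp.oneFix_sub h).unique t ht x y hx hy

theorem hasFour_sect [Finite G] : HasFour (Sect Ω M) := by
  obtain ⟨s, hsM, t, htM, hs, ht, hne, hc⟩ := hp.four
  have hs' : orderOf (⟨s, hsM⟩ : M) = 2 := by rw [← Subgroup.orderOf_coe]; exact hs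
  have ht' : orderOf (⟨t, htM⟩ : M) = 2 := by rw [← Subgroup.orderOf_coe]; exact ht
  have hc' : Commute (⟨s, hsM⟩ : M) ⟨t, htM⟩ := Subtype.ext hc
  refine ⟨_, _, hp.invol_sect h hs', hp.invol_sect h ht', fun e => ?_, hc'.map _⟩
  have hmem : (⟨s, hsM⟩ : M) * ⟨t, htM⟩ ∈ (sect Ω M).ker := by
    rw [MonoidHom.mem_ker, map_mul, e, mul_self_eq_one (hp.invol_sect h ht')]
  have h2 : orderOf ((⟨s, hsM⟩ : M) * ⟨t, htM⟩) = 2 := by
    refine orderOf_eq_two_iff_mul.2 ⟨fun e1 => hne ?_, ?_⟩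
    · have e2 : s * t = 1 := congrArg Subtype.val e1
      rw [eq_inv_of_mul_eq_one_left e2, inv_eq_self_of_involution ht]
    · rw [mul_assoc, ← mul_assoc (⟨t, htM⟩ : M), ← hc'.eq, mul_assoc (⟨s, hsM⟩ : M),
        mul_self_eq_one ht', mul_one, mul_self_eq_one hs']
  have h1 := (hp.odd_card_ker_sect h).of_dvd_nat (Subgroup.orderOf_dvd_natCard _ hmem)
  rw [h2] at h1
  exact absurd h1 (by decide)

theorem sect_mem_invAt [Finite G] {t : G} (htM : t ∈ M) {c : centres Ω M}
    (ht : t ∈ invAt G (c : Ω)) : sect Ω M ⟨t, htM⟩ ∈ invAt (Sect Ω M) c :=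
  ⟨hp.invol_sect h (by rw [← Subgroup.orderOf_coe]; exact ht.1), Subtype.ext ht.2⟩

theorem sect_mem_swaps [Finite G] {t : G} (htM : t ∈ M) {a b : centres Ω M}
    (ht : t ∈ swaps G (a : Ω) b) : sect Ω M ⟨t, htM⟩ ∈ swaps (Sect Ω M) a b :=
  ⟨hp.invol_sect h (by rw [← Subgroup.orderOf_coe]; exact ht.1), Subtype.ext ht.2⟩

/-- The transitivity theorem for the section. -/
theorem concl_sect [Finite G] [Finite Ω] : Concl (Sect Ω M) (centres Ω M) :=
  concl_of_card_le _ (Sect Ω M) (centres Ω M) le_rfl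
    (fun X i i' hX => @CfsgLib.PF.oddSolvable X i i' hX) (hp.oneFix_sect h) (hfaith_sect M)
    (hp.hasFour_sect h)

/-- An involution of the section centralises every invariant `q`-group at its centre and a further
point. -/
theorem centralFor_sect [Finite G] [Finite Ω] (q : ℕ) [Fact q.Prime] :
    CentralFor (Sect Ω M) (centres Ω M) q :=
  central_of_card_le _ (Sect Ω M) (centres Ω M) le_rfl
    (fun X i i' hX => @CfsgLib.PF.oddSolvable X i i' hX) (hp.oneFix_sect h) (hfaith_sect M)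
    (hp.hasFour_sect h) q

/-- Odd subgroups normalised by `M` and inside it fix all centres. -/
theorem le_kerIn_of_odd [Finite G] {C : Subgroup G} (hCM : C ≤ M)
    (hn : M ≤ Subgroup.normalizer (C : Set G)) (hodd : Odd (Nat.card C)) : C ≤ kerIn Ω M := by
  obtain ⟨s, hsM, t, htM, hs, ht, hst, hcomm⟩ := hp.four
  obtain ⟨d, -, hd⟩ := hp.exists_fix h hsM hs
  have htd : t • d = d := hp.fix_of_commute h hsM ⟨hs, hd⟩ hcomm.symm
  have hst2 : orderOf (s * t) = 2 := by
    refine orderOf_eq_two_iff_mul.2 ⟨fun e1 => hst ?_, ?_⟩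
    · rw [eq_inv_of_mul_eq_one_left e1, inv_eq_self_of_involution ht]
    · rw [mul_assoc, ← mul_assoc t, ← hcomm.eq, mul_assoc s, mul_self_eq_one ht, mul_one,
        mul_self_eq_one hs]
  have hnorm : ∀ {r : G}, orderOf r = 2 → r ∈ M → ∀ w ∈ C, r * w * r ∈ C := fun {r} hr hrM w hw => by
    have h1 := Coprime.mem_normalizer_conj (hn hrM) hw
    rwa [inv_eq_self_of_involution hr] at h1
  have hfix : ∀ {r : G}, r ∈ M → r ∈ invAt G d → ∀ w ∈ C, r * w * r = w → w ∈ stabilizer G d :=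
    fun {r} hrM hr w _ hw => hp.fix_of_commute h hrM hr (show w * r = r * w by
      calc w * r = r * w * r * r := by rw [hw]
        _ = r * w := by rw [mul_assoc, mul_self_eq_one hr.1, mul_one])
  have hle : C ≤ stabilizer G d :=
    RankOneInvol.le_of_fourGroup_fixed hodd (mul_self_eq_one hs) (mul_self_eq_one ht) hcomm.eq
      (hnorm hs hsM) (hnorm ht htM) (hfix hsM ⟨hs, hd⟩) (hfix htM ⟨ht, htd⟩)
      (hfix (mul_mem hsM htM) ⟨hst2, by rw [mul_smul, htd, hd]⟩)
  intro g hg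
  exact mem_kerIn.2 ⟨hCM hg, fun x hx =>
    hp.fix_centres h hn (mem_centres hsM ⟨hs, hd⟩) hle x hx g hg⟩

/-- If some involution does not centralise the normal subgroup `V`, none does, and the
centraliser fixes all centres. -/
theorem centralizer_le_kerIn [Finite G] {V : Subgroup G}
    (hn : M ≤ Subgroup.normalizer (V : Set G)) {u : G} (huM : u ∈ M) (hu : orderOf u = 2)
    (hne : ∃ v ∈ V, ¬ Commute v u) : M ⊓ Subgroup.centralizer (V : Set G) ≤ kerIn Ω M := by
  have hCn : M ≤ Subgroup.normalizer ((M ⊓ Subgroup.centralizer (V : Set G) : Subgroup G) : Set G) :=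
    fun g hg => Coprime.mem_normalizer_of_forall_conj fun x hx =>
      ⟨M.mul_mem (M.mul_mem hg hx.1) (M.inv_mem hg), fun y hy => by
        have h2 := hx.2 _ (Coprime.mem_normalizer_conj' (hn hg) hy)
        calc y * (g * x * g⁻¹) = g * (g⁻¹ * y * g * x) * g⁻¹ := by group
          _ = g * (x * (g⁻¹ * y * g)) * g⁻¹ := by rw [h2]
          _ = g * x * g⁻¹ * y := by group⟩
  refine hp.le_kerIn_of_odd h inf_le_left hCn ?_
  rw [← Nat.not_even_iff_odd]
  intro he
  obtain ⟨i, hi, hi2⟩ := exists_involution_of_even_card _ he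
  obtain ⟨g, hg, rfl⟩ := hp.exists_conj_in h hi.1 huM hi2 hu
  obtain ⟨v, hv, hvu⟩ := hne
  exact hvu (((Coprime.mem_normalizer_conj (hCn hg) hi).2 v hv))

end IsPure

/-- In a proper normaliser with several centres and commuting members, if some member does not
centralise `Y`, then the centraliser of `Y` fixes all centres of the members. -/
theorem centralizer_fix [Finite G] (h : Setting Ω Z) (hP : PureBelow Ω Z) {Y : Subgroup G}
    (hne : Subgroup.normalizer (Y : Set G) ≠ ⊤)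
    (hM : ZMulti Ω Z (Subgroup.normalizer (Y : Set G)))
    (h4 : ZFour Z (Subgroup.normalizer (Y : Set G))) {u : G} (huZ : u ∈ Z)
    (huY : u ∈ Subgroup.normalizer (Y : Set G)) (hnc : ∃ y ∈ Y, ¬ Commute y u) {g : G}
    (hg : g ∈ Subgroup.centralizer (Y : Set G)) :
    ∀ x ∈ zCentres Ω Z (Subgroup.normalizer (Y : Set G)), g • x = x := by
  set M := Subgroup.normalizer (Y : Set G) with hMdef
  have hL := isPure_memIn h hP hne hM h4
  have hLn : memIn Z M ≤ Subgroup.normalizer (Y : Set G) := memIn_le Z M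
  rintro x ⟨s, hsM, hsZ, hsx⟩
  have hgM : g ∈ M := Subgroup.centralizer_le_normalizer _ hg
  have hk := hL.centralizer_le_kerIn h hLn (mem_memIn huZ huY) (h.invol u huZ) hnc
  have hmem : g * s * g⁻¹ * s⁻¹ ∈ memIn Z M ⊓ Subgroup.centralizer (Y : Set G) := by
    refine ⟨(memIn Z M).mul_mem (mem_memIn (h.conj_mem g s hsZ)
      (M.mul_mem (M.mul_mem hgM hsM) (M.inv_mem hgM))) ((memIn Z M).inv_mem (mem_memIn hsZ hsM)), ?_⟩
    have h1 : s * g⁻¹ * s⁻¹ ∈ Subgroup.centralizer (Y : Set G) := by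
      intro y hy
      have h2 := ((Subgroup.centralizer (Y : Set G)).inv_mem hg) _
        (Coprime.mem_normalizer_conj' hsM hy)
      calc y * (s * g⁻¹ * s⁻¹) = s * (s⁻¹ * y * s * g⁻¹) * s⁻¹ := by group
        _ = s * (g⁻¹ * (s⁻¹ * y * s)) * s⁻¹ := by rw [h2]
        _ = s * g⁻¹ * s⁻¹ * y := by group
    have e : g * s * g⁻¹ * s⁻¹ = g * (s * g⁻¹ * s⁻¹) := by group
    rw [e]
    exact mul_mem hg h1
  have h3 := (mem_kerIn.1 (hk hmem)).2 x ⟨s, mem_memIn hsZ hsM, h.invol s hsZ, hsx⟩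
  rw [inv_eq_self_of_involution (h.invol s hsZ), mul_smul, mul_smul, mul_smul, hsx] at h3
  -- `g s g⁻¹` fixes `x`, so `g` does
  have h4' : s • g⁻¹ • x = g⁻¹ • x := by
    have := congrArg (fun z => g⁻¹ • z) h3
    simpa using this
  exact (inv_smul_eq_iff.1 (h.unique s hsZ _ _ h4' hsx)).symm

end CfsgLib.StrongCrit.W1
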