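import Cfsg.Agent.Lib.StrongCrit.W1.Ctx
import Cfsg.Agent.Lib.StrongCrit.Transfer
import Cfsg.Agent.Lib.BenderTrans.Block
import Cfsg.Agent.Lib.LivWag.KleinFormula
import Cfsg.Agent.Lib.PF.OddOrder

/-!
A set of centres of the normaliser of a subgroup, no two members of which commute, on which the
centre of a member interchanging two points is fixed by the stabiliser of that pair.
-/

set_option autoImplicit false

namespace CfsgLib.StrongCrit

open CfsgLib.Involutions CfsgLib.OddOrder CfsgLib.BenderTrans MulAction W1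
open scoped commutatorElement

universe u

variable {G : Type u} [Group G] {Ω : Type u} [MulAction G Ω] {Z : Set G}

namespace Setting

variable (h : Setting Ω Z)
include h

/-- The member interchanging the centres of two members inside the group they generate. -/
theorem exists_mid_member [Finite G] {s t : G} {x y : Ω} (hs : s ∈ memAt Z x) (ht : t ∈ memAt Z y)
    (hxy : x ≠ y) :
    ∃ r ∈ swapMem Z x y, r * s * r⁻¹ = t ∧ r ∈ Subgroup.closure ({s, t} : Set G) := by
  have hs2 := h.invol s hs.1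
  have ht2 := h.invol t ht.1
  obtain ⟨k, hk⟩ := h.odd_order_mul hs ht hxy
  set a := s * t with ha
  have hn : a ^ (2 * k + 1) = 1 := by rw [← hk, pow_orderOf_eq_one]
  have hinv : ∀ j : ℕ, s * (a ^ j)⁻¹ * s = a ^ j := fun j => by
    rw [← inv_pow, LivWag.pow_conj_of_sq (mul_self_eq_one hs2)]
    congr 1
    rw [ha, mul_inv_rev, inv_eq_self_of_involution hs2, inv_eq_self_of_involution ht2]
    simp only [mul_assoc, mul_self_eq_one hs2, mul_one]
  have hconj : ∀ j : ℕ, a ^ j * s * (a ^ j)⁻¹ = a ^ (2 * j) * s := fun j => by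
    rw [two_mul, pow_add]
    calc a ^ j * s * (a ^ j)⁻¹ = a ^ j * (s * (a ^ j)⁻¹ * s) * s := by
          simp only [mul_assoc, mul_self_eq_one hs2, mul_one]
      _ = a ^ j * a ^ j * s := by rw [hinv]
  have hk2 : a ^ k * s = a ^ (k * (k + 1)) * s * (a ^ (k * (k + 1)))⁻¹ := by
    rw [hconj, show 2 * (k * (k + 1)) = (2 * k + 1) * k + k by ring, pow_add, pow_mul, hn, one_pow,
      one_mul]
  have hsC : s ∈ Subgroup.closure ({s, t} : Set G) := Subgroup.subset_closure (Set.mem_insert _ _)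
  have htC : t ∈ Subgroup.closure ({s, t} : Set G) :=
    Subgroup.subset_closure (Set.mem_insert_of_mem _ rfl)
  have hrZ : a ^ k * s ∈ Z := hk2 ▸ h.conj_mem _ s hs.1
  have hrs : a ^ k * s * s * (a ^ k * s)⁻¹ = t := by
    rw [mul_assoc (a ^ k) s s, mul_self_eq_one hs2, mul_one, mul_inv_rev,
      inv_eq_self_of_involution hs2, ← mul_assoc, hconj]
    have h1 : a ^ (2 * k) * a = 1 := by rw [← pow_succ]; exact hn
    rw [eq_inv_of_mul_eq_one_left h1, ha, mul_inv_rev, inv_eq_self_of_involution hs2,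
      inv_eq_self_of_involution ht2, mul_assoc, mul_self_eq_one hs2, mul_one]
  refine ⟨a ^ k * s, ⟨hrZ, h.unique t ht.1 _ _ ?_ ht.2⟩, hrs,
    mul_mem (pow_mem (mul_mem hsC htC) _) hsC⟩
  have h4 := (h.conj_memAt (g := a ^ k * s) hs).2
  rwa [hrs] at h4

/-- A member interchanging two points lies in the group generated by a member at one of them and
its conjugate. -/
theorem swapMem_mem_closure [Finite G] {x y : Ω} (hxy : x ≠ y) {t r : G} (ht : t ∈ memAt Z y)
    (hr : r ∈ swapMem Z x y) : r ∈ Subgroup.closure ({r * t * r⁻¹, t} : Set G) := by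
  have hs : r * t * r⁻¹ ∈ memAt Z x := by
    have h1 := h.conj_memAt (g := r) ht
    rwa [h.swap_symm hr] at h1
  obtain ⟨r', hr', hrs, hcl⟩ := h.exists_mid_member hs ht hxy
  have heq : r' = r := by
    refine h.injOn_conj hxy ht hr' hr ?_
    show r' * t * r'⁻¹ = r * t * r⁻¹
    have h2 := mul_self_eq_one (h.invol r' hr'.1)
    conv_lhs => rw [← hrs, inv_eq_self_of_involution (h.invol r' hr'.1)]
    rw [show r' * (r' * (r * t * r⁻¹) * r') * r' = r' * r' * (r * t * r⁻¹) * (r' * r') by group,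
      h2, one_mul, mul_one]
  exact heq ▸ hcl

theorem smul_mem_zCentres {M : Subgroup G} {g : G} (hg : g ∈ M) {x : Ω} (hx : x ∈ zCentres Ω Z M) :
    g • x ∈ zCentres Ω Z M := by
  obtain ⟨t, htM, htZ, htx⟩ := hx
  exact ⟨_, M.mul_mem (M.mul_mem hg htM) (M.inv_mem hg), h.conj_mem g t htZ,
    (h.conj_memAt (g := g) ⟨htZ, htx⟩).2⟩

/-- Two centres of members of `M` are interchanged by a member of `M`. -/
theorem exists_swap_zCentres [Finite G] {M : Subgroup G} {a b : Ω} (ha : a ∈ zCentres Ω Z M)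
    (hb : b ∈ zCentres Ω Z M) (hab : a ≠ b) : ∃ r ∈ M, r ∈ swapMem Z a b := by
  obtain ⟨s, hsM, hsZ, hsa⟩ := ha
  obtain ⟨t, htM, htZ, htb⟩ := hb
  obtain ⟨r, hr, -, hcl⟩ := h.exists_mid_member ⟨hsZ, hsa⟩ ⟨htZ, htb⟩ hab
  exact ⟨r, (Subgroup.closure_le M).2 (by rintro z (rfl | rfl) <;> assumption) hcl, hr⟩

/-- A subgroup normalised by `M` fixing one centre of its members fixes all of them. -/
theorem fix_zCentres [Finite G] {M V : Subgroup G} (hV : M ≤ Subgroup.normalizer (V : Set G))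
    {c : Ω} (hc : c ∈ zCentres Ω Z M) (hfix : c ∈ BenderTrans.fixSet Ω V) :
    ∀ x ∈ zCentres Ω Z M, x ∈ BenderTrans.fixSet Ω V := by
  intro x hx
  rcases eq_or_ne x c with rfl | hne
  · exact hfix
  · obtain ⟨r, hrM, hr⟩ := h.exists_swap_zCentres hc hx hne.symm
    rw [← hr.2]
    exact BenderTrans.smul_mem_fixSet (hV hrM) hfix

/-- A member leaving an odd set invariant has its centre there. -/
theorem centre_mem_of_odd [Finite Ω] {i : G} {d : Ω} (hi : i ∈ memAt Z d) {B : Set Ω}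
    (hB : ∀ x ∈ B, i • x ∈ B) (hodd : Odd B.ncard) : d ∈ B := by
  classical
  have := Fintype.ofFinite Ω
  have hi2 := h.invol i hi.1
  let σ : Function.End B := fun x => ⟨i • x.1, hB _ x.2⟩
  have hσ : σ ^ 2 ^ 1 = 1 := by
    rw [pow_one, pow_two]
    funext x
    exact Subtype.ext (smul_smul_self hi2 _)
  have : Fact (Nat.Prime 2) := ⟨Nat.prime_two⟩
  have hmod : B.ncard ≡ Nat.card (Function.fixedPoints σ) [MOD 2] := by
    rw [← Nat.card_coe_set_eq, Nat.card_eq_fintype_card, Nat.card_eq_fintype_card]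
    exact Equiv.Perm.card_fixedPoints_modEq hσ
  have hne : Nonempty (Function.fixedPoints σ) := by
    by_contra hcon
    have : IsEmpty (Function.fixedPoints σ) := not_nonempty_iff.1 hcon
    rw [Nat.card_of_isEmpty] at hmod
    rw [Nat.odd_iff] at hodd
    unfold Nat.ModEq at hmod
    omega
  obtain ⟨⟨⟨x, hxB⟩, hx⟩⟩ := hne
  exact h.unique i hi.1 _ _ (congrArg Subtype.val hx) hi.2 ▸ hxB

/-- Without commuting members, the members of `M` lie in one coset of its odd core. -/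
theorem mul_mem_coreIn_of_not_four [Finite G] [Finite Ω]
    (hfaith : ∀ g : G, (∀ x : Ω, g • x = x) → g = 1) {M : Subgroup G} (h4 : ¬ ZFour Z M) {u w : G}
    (hu : u ∈ Z) (hw : w ∈ Z) (hun : u ∈ M) (hwn : w ∈ M) : w * u ∈ coreIn M := by
  have huniq : ∀ {s t : G}, s ∈ Z → t ∈ Z → s ∈ M → t ∈ M → Commute s t → s = t :=
    fun {s t} hs ht hsM htM hc => by
      by_contra hne
      exact h4 ⟨s, hsM, t, htM, hs, ht, hne, hc⟩
  rcases eq_or_ne w u with rfl | hne
  · rw [mul_self_eq_one (h.invol w hw)]; exact one_mem _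
  have hiso : Cfsg.IsIsolatedInvolution (⟨u, hun⟩ : M) := by
    refine ⟨by rw [← Subgroup.orderOf_coe]; exact h.invol u hu, fun g hg => Subtype.ext ?_⟩
    show (g : G) * u * (g : G)⁻¹ = u
    exact (huniq hu (h.conj_mem g u hu) hun (M.mul_mem (M.mul_mem g.2 hun) (M.inv_mem g.2))
      (congrArg Subtype.val hg)).symm
  have hodd : Odd (orderOf (u * w)) := by
    by_contra ho
    rw [Nat.not_odd_iff_even] at ho
    obtain ⟨he2, heu, hew⟩ := central_involution (h.invol u hu) (h.invol w hw) ho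
    have heM : (u * w) ^ (orderOf (u * w) / 2) ∈ M := pow_mem (M.mul_mem hun hwn) _
    obtain ⟨c, hc⟩ := h.exists_fix u hu
    rcases h.mem_or_isBad hfaith he2 (h.fix_of_commute ⟨hu, hc⟩ heu) with hm | hb
    · exact hne ((huniq hm hw heM hwn hew).symm.trans (huniq hm hu heM hun heu))
    · obtain ⟨-, p, q, hpq, hp, hq⟩ := hb
      exact hpq (h.mid_unique hu hw ho hp hq)
  obtain ⟨g, hg, hgw⟩ := conj_of_odd_order (h.invol u hu) (h.invol w hw) hodd
  have hgM : g ∈ M := by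
    refine (Subgroup.closure_le M).2 ?_ hg
    rintro z (rfl | rfl) <;> assumption
  refine ⟨_, Involutions.zstar M _ hiso ⟨g, hgM⟩, ?_⟩
  show g * u * g⁻¹ * u⁻¹ = w * u
  rw [hgw, inv_eq_self_of_involution (h.invol u hu)]

/-- If no two members in `M` commute, some block of centres has the midpoints of its pairs fixed by
the stabilisers of the pairs in `M`. -/
theorem exists_block_noFour [Finite G] [Finite Ω]
    (hfaith : ∀ g : G, (∀ x : Ω, g • x = x) → g = 1) {M : Subgroup G} (hM : ZMulti Ω Z M)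
    (h4 : ¬ ZFour Z M) {u : G} {c : Ω} (hu : u ∈ memAt Z c) (huY : u ∈ M) :
    ∃ B : Set Ω, c ∈ B ∧ (∃ z ∈ B, z ≠ c) ∧ B ⊆ zCentres Ω Z M ∧ (∀ z ∈ B, u • z ∈ B) ∧
      ∀ a ∈ B, ∀ b ∈ B, a ≠ b → ∀ r ∈ M, r ∈ swapMem Z a b → ∀ e : Ω, r • e = e →
        e ∈ B ∧ two G a b ⊓ M ≤ stabilizer G e := by
  have hcM : c ∈ zCentres Ω Z M := ⟨u, huY, hu.1, hu.2⟩
  obtain ⟨z, hz, hzc⟩ : ∃ z ∈ zCentres Ω Z M, z ≠ c := by
    obtain ⟨a, ha, b, hb, hab⟩ := id hM
    by_cases e : a = c
    · exact ⟨b, hb, fun e' => hab (e.trans e'.symm)⟩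
    · exact ⟨a, ha, e⟩
  set N0 := coreIn M with hN0
  have hN0M := le_normalizer_coreIn M
  have hmove : ¬ c ∈ BenderTrans.fixSet Ω N0 := by
    intro hfix
    obtain ⟨t, htM, ht, htz⟩ := hz
    have h1 := hfix _ (h.mul_mem_coreIn_of_not_four hfaith h4 hu.1 ht huY htM)
    rw [mul_smul, hu.2] at h1
    exact hzc (h.unique t ht _ _ htz h1)
  have hsolv : Group.IsSolvable N0 := CfsgLib.PF.oddSolvable _ (odd_coreIn M)
  obtain ⟨k, hk, hk1⟩ : ∃ k, ¬ c ∈ BenderTrans.fixSet Ω (derivedOf N0 k) ∧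
      c ∈ BenderTrans.fixSet Ω (derivedOf N0 (k + 1)) := by
    by_contra hcon
    have hall' : ∀ k, ¬ c ∈ BenderTrans.fixSet Ω (derivedOf N0 k) := by
      intro k
      induction k with
      | zero => exact hmove
      | succ k ih => exact fun h' => hcon ⟨k, ih, h'⟩
    obtain ⟨k, hk⟩ := Group.IsSolvable.solvable (G := N0)
    refine hall' k ?_
    rw [derivedOf_eq, hk, Subgroup.map_bot]
    intro g hg
    rw [Subgroup.mem_bot.1 hg, one_smul]
  set V := derivedOf N0 k with hV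
  have hMV : M ≤ Subgroup.normalizer (V : Set G) := fun g hg =>
    mem_normalizer_derivedOf (hN0M hg) k
  have hVM : V ≤ M := (derivedOf_le N0 k).trans (coreIn_le M)
  have hcomm : ∀ v ∈ V, ∀ w ∈ V, ∀ x ∈ zCentres Ω Z M, v • w • x = w • v • x := by
    intro v hv w hw x hx
    have hn : M ≤ Subgroup.normalizer (derivedOf N0 (k + 1) : Set G) := fun g hg =>
      mem_normalizer_derivedOf (hN0M hg) _
    have hy : w • v • x ∈ zCentres Ω Z M := h.smul_mem_zCentres (hVM hw) (h.smul_mem_zCentres (hVM hv) hx)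
    have h1 := h.fix_zCentres hn hcM hk1 _ hy ⁅v, w⁆ (Subgroup.commutator_mem_commutator hv hw)
    calc v • w • x = ⁅v, w⁆ • w • v • x := by simp [commutatorElement_def, smul_smul, mul_assoc]
      _ = w • v • x := h1
  set B := MulAction.orbit V c with hB
  have hBsub : B ⊆ zCentres Ω Z M := by
    rintro _ ⟨j, rfl⟩
    exact h.smul_mem_zCentres (hVM j.2) hcM
  have hblock : ∀ i ∈ M, ∀ x ∈ B, i • x ∈ B → ∀ y ∈ B, i • y ∈ B := by
    rintro i hiM _ ⟨v, rfl⟩ ⟨w, hw⟩ _ ⟨j, rfl⟩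
    have hw' : (w : G) • c = i • (v : G) • c := hw
    refine ⟨⟨i * (j * (v : G)⁻¹) * i⁻¹, Coprime.mem_normalizer_conj (hMV hiM)
      (V.mul_mem j.2 (V.inv_mem v.2))⟩ * w, ?_⟩
    show (i * ((j : G) * (v : G)⁻¹) * i⁻¹ * (w : G)) • c = i • (j : G) • c
    rw [mul_smul, hw', smul_smul, inv_mul_cancel_right, mul_smul, mul_smul, inv_smul_smul]
  have hBodd : Odd B.ncard := by
    rw [hB, ← MulAction.index_stabilizer]
    exact ((odd_coreIn M).of_dvd_nat (Subgroup.card_dvd_of_le (derivedOf_le N0 k))).of_dvd_nat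
      (Subgroup.index_dvd_card _)
  have hcB : c ∈ B := MulAction.mem_orbit_self c
  have hz' : ∃ z ∈ B, z ≠ c := by
    by_contra hcon
    push Not at hcon
    exact hk fun v hv => hcon _ ⟨⟨v, hv⟩, rfl⟩
  have huB : ∀ x ∈ B, u • x ∈ B := hblock u huY c hcB (by rw [hu.2]; exact hcB)
  refine ⟨B, hcB, hz', hBsub, huB, ?_⟩
  intro a ha b hb hab r hrM hr e he
  have heB : e ∈ B :=
    h.centre_mem_of_odd ⟨hr.1, he⟩ (hblock r hrM a ha (by rw [hr.2]; exact hb)) hBodd
  refine ⟨heB, ?_⟩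
  -- an involution acts on the block by inverting at its centre
  have hinv : ∀ i ∈ M, ∀ {d : Ω}, i ∈ memAt Z d → d ∈ B → ∀ v ∈ V,
      i • v • d = v⁻¹ • d := by
    intro i hiM d hi hd v hv
    have hi2 := h.invol i hi.1
    have hiv : i * v * i⁻¹ ∈ V := Coprime.mem_normalizer_conj (hMV hiM) hv
    have hx : v • (i * v * i⁻¹) • d = d := by
      refine h.unique i hi.1 _ _ ?_ hi.2
      calc i • v • (i * v * i⁻¹) • d = (i * v * i⁻¹) • i • (i * v * i⁻¹) • d := by
            simp [smul_smul, mul_assoc]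
        _ = (i * v * i⁻¹) • v • d := by
            rw [inv_eq_self_of_involution hi2]
            congr 1
            rw [mul_smul (i * v) i d, hi.2, mul_smul, smul_smul_self hi2]
        _ = v • (i * v * i⁻¹) • d := hcomm _ hiv _ hv d (hBsub hd)
    calc i • v • d = (i * v * i⁻¹) • d := by rw [mul_smul, mul_smul, inv_eq_self_of_involution hi2, hi.2]
      _ = v⁻¹ • v • (i * v * i⁻¹) • d := by rw [inv_smul_smul]
      _ = v⁻¹ • d := by rw [hx]
  intro g hg
  have hgM : g ∈ M := hg.2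
  obtain ⟨hga, hgb⟩ := mem_two_iff.1 hg.1
  have hr' : g * r * g⁻¹ ∈ swapMem Z a b := h.conj_mem_swapMem_two hg.1 hr
  have hrinv : g * r * g⁻¹ ∈ memAt Z (g • e) := h.conj_memAt ⟨hr.1, he⟩
  have hrM' : g * r * g⁻¹ ∈ M := M.mul_mem (M.mul_mem hgM hrM) (M.inv_mem hgM)
  have hgeB : g • e ∈ B :=
    h.centre_mem_of_odd hrinv (hblock _ hrM' a ha (by rw [hr'.2]; exact hb)) hBodd
  obtain ⟨⟨v, hv⟩, hve⟩ : g • e ∈ MulAction.orbit V e := by
    rw [MulAction.orbit_eq_iff.2 (show e ∈ MulAction.orbit V c from heB)]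
    exact hgeB
  obtain ⟨⟨w, hw⟩, hwe⟩ : a ∈ MulAction.orbit V e := by
    rw [MulAction.orbit_eq_iff.2 (show e ∈ MulAction.orbit V c from heB)]
    exact ha
  have hve' : v • e = g • e := hve
  have hwe' : w • e = a := hwe
  have hb1 : b = w⁻¹ • e := by rw [← hr.2, ← hwe', hinv r hrM ⟨hr.1, he⟩ heB w hw]
  have hb2 : b = v • w⁻¹ • v • e := by
    rw [← hr'.2, hve', ← hwe']
    have : w • e = (w * v⁻¹) • (g • e) := by rw [← hve', mul_smul, inv_smul_smul]
    rw [this, hinv _ hrM' hrinv hgeB _ (V.mul_mem hw (V.inv_mem hv)), mul_inv_rev, inv_inv,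
      mul_smul]
  have hfix : v • v • (w⁻¹ • e) = w⁻¹ • e := by
    conv_rhs => rw [← hb1, hb2]
    rw [hcomm v hv w⁻¹ (V.inv_mem hw) e (hBsub heB)]
  have hvodd : Odd (orderOf v) :=
    (odd_coreIn M).of_dvd_nat (Subgroup.orderOf_dvd_natCard _ (derivedOf_le N0 k hv))
  have h1 := smul_of_commute_fix hvodd hfix
  rw [hcomm v hv w⁻¹ (V.inv_mem hw) e (hBsub heB)] at h1
  show g • e = e
  rw [← hve']
  exact MulAction.injective w⁻¹ h1

/-- The block statement of the standing context. -/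
theorem blockProp [Finite G] [Finite Ω] (hfaith : ∀ g : G, (∀ x : Ω, g • x = x) → g = 1) :
    BlockProp Ω Z := by
  intro Y c u hu huY _ hM h4
  obtain ⟨B, -, ⟨z, hz, hzc⟩, hBsub, huB, hblk⟩ := h.exists_block_noFour hfaith hM h4 hu huY
  exact ⟨z, hBsub hz, hzc, (hblk z hz _ (huB z hz)
    (fun e => hzc (h.unique u hu.1 _ _ e.symm hu.2)) u huY ⟨hu.1, rfl⟩ c hu.2).2⟩

end Setting

end CfsgLib.StrongCrit
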