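import Cfsg.Agent.Lib.StrongCrit.Sections
import Cfsg.Agent.Lib.StrongCrit.Crit
import Cfsg.Agent.Lib.StrongCrit.Cover
import Cfsg.Agent.Lib.StrongCrit.CritSections
import Cfsg.Agent.Lib.StrongCrit.Blocks
import Cfsg.Agent.Lib.StrongEmbedding.Swap
import Cfsg.Agent.Lib.Involutions.BrauerSuzuki
import Cfsg.Agent.Lib.Involutions.Fusion

/-!
Under the standing hypotheses of the criterion: the involutions of the section of a bad involution
are members, and two non-commuting members in a 2-group have a central member.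
-/

set_option autoImplicit false
set_option linter.unusedSectionVars false

namespace CfsgLib.StrongCrit

open CfsgLib.Involutions MulAction

universe u

variable {G : Type u} [Group G] {Ω : Type u} [MulAction G Ω] {Z : Set G}

theorem commute_conj {x y : G} (h : Commute x y) (g : G) :
    Commute (g * x * g⁻¹) (g * y * g⁻¹) := by
  show g * x * g⁻¹ * (g * y * g⁻¹) = g * y * g⁻¹ * (g * x * g⁻¹)
  rw [show g * x * g⁻¹ * (g * y * g⁻¹) = g * (x * y) * g⁻¹ by group,
    show g * y * g⁻¹ * (g * x * g⁻¹) = g * (y * x) * g⁻¹ by group, h.eq]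

namespace Crit

variable (hC : Crit Ω Z)
include hC

variable [Finite G] [Finite Ω]

/-- Every involution of the section of a bad involution is a member. -/
theorem mem_of_memCent {w : G} (hw : IsBad Ω w) {e : G} (he : e ∈ memCent Z w)
    (he2 : orderOf e = 2) : e ∈ Z := by
  obtain ⟨hw2, x, y, -, hx, -⟩ := id hw
  obtain ⟨t, ht, hwt⟩ := hC.base.exists_memAt_commute hw2 hx
  have htL : t ∈ memCent Z w := Subgroup.subset_closure ⟨ht.1, hwt⟩
  obtain ⟨g, hg⟩ := isConj_iff.1 (StrongEmbedding.isConj_involutions (hC.sec w hw x hx)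
    (a := (⟨t, htL⟩ : memCent Z w)) (b := ⟨e, he⟩)
    (by rw [← Subgroup.orderOf_coe]; exact hC.base.invol t ht.1)
    (by rw [← Subgroup.orderOf_coe]; exact he2))
  have h1 : (g : G) * t * (g : G)⁻¹ = e := congrArg Subtype.val hg
  exact h1 ▸ hC.base.conj_mem (g : G) t ht.1

/-- Two non-commuting members in a 2-group have a central member in the group they generate, fixed
by whatever interchanges them. -/
theorem exists_centre {c : Ω} {a b : G} (ha : a ∈ memAt Z c) (hb : b ∈ memAt Z c)
    (h2 : IsPGroup 2 (Subgroup.closure ({a, b} : Set G))) (hab : ¬ Commute a b) :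
    ∃ e ∈ memAt Z c, e ∈ Subgroup.closure ({a, b} : Set G) ∧ Commute e a ∧ Commute e b ∧
      e ≠ a ∧ e ≠ b ∧ ∀ g : G, g * a * g⁻¹ = b → g * b * g⁻¹ = a → Commute g e := by
  have ha2 := hC.base.invol a ha.1
  have hb2 := hC.base.invol b hb.1
  have haa := mul_self_eq_one ha2
  have hbb := mul_self_eq_one hb2
  have hab1 : a * b ∈ Subgroup.closure ({a, b} : Set G) :=
    mul_mem (Subgroup.subset_closure (by simp)) (Subgroup.subset_closure (by simp))
  obtain ⟨k, hk⟩ := IsPGroup.iff_orderOf.1 h2 ⟨_, hab1⟩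
  rw [← Subgroup.orderOf_coe] at hk
  change orderOf (a * b) = 2 ^ k at hk
  have hk0 : k ≠ 0 := by
    rintro rfl
    rw [pow_zero, orderOf_eq_one_iff, mul_eq_one_iff_eq_inv, inv_eq_self_of_involution hb2] at hk
    exact hab (hk ▸ Commute.refl a)
  have heven : Even (orderOf (a * b)) := by
    rw [hk]; exact (Nat.even_pow' hk0).2 even_two
  obtain ⟨he2, hea, heb⟩ := central_involution ha2 hb2 heven
  set e := (a * b) ^ (orderOf (a * b) / 2) with he
  have hecl : e ∈ Subgroup.closure ({a, b} : Set G) := pow_mem hab1 _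
  have hec : e • c = c := hC.base.fix_of_commute ha hea
  have heZ : e ∈ Z := by
    rcases hC.base.mem_or_isBad hC.faith he2 hec with hm | hbad
    · exact hm
    · refine hC.mem_of_memCent hbad ?_ he2
      have hle : Subgroup.closure ({a, b} : Set G) ≤ memCent Z e := by
        rw [Subgroup.closure_le]
        rintro z (rfl | rfl)
        · exact Subgroup.subset_closure ⟨ha.1, hea⟩
        · exact Subgroup.subset_closure ⟨hb.1, heb⟩
      exact hle hecl
  refine ⟨e, ⟨heZ, hec⟩, hecl, hea, heb, fun h1 => hab (h1 ▸ heb),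
    fun h1 => hab (h1 ▸ hea).symm, fun g hga hgb => ?_⟩
  have h1 : g * (a * b) * g⁻¹ = (a * b)⁻¹ := by
    rw [show g * (a * b) * g⁻¹ = g * a * g⁻¹ * (g * b * g⁻¹) by group, hga, hgb, mul_inv_rev,
      inv_eq_self_of_involution ha2, inv_eq_self_of_involution hb2]
  have h2 : g * e * g⁻¹ = e := by
    rw [he, ← conj_pow, h1, inv_pow, ← he, inv_eq_self_of_involution he2]
  exact mul_inv_eq_iff_eq_mul.1 h2

end Crit

end CfsgLib.StrongCrit
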