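import Cfsg.Agent.Lib.StrongCrit.W1.Ctx
import Cfsg.Agent.Lib.StrongCrit.W1.Four

/-!
Two commuting members at every point, and `SecComm` from the centralising statement for every odd
prime: members at one point commuting with a bad involution commute.
-/

set_option autoImplicit false

namespace CfsgLib.StrongCrit

open CfsgLib.Involutions MulAction
open scoped commutatorElement

universe u

variable {G : Type u} [Group G] {Ω : Type u} [MulAction G Ω] {Z : Set G}

/-- Under the centralising statement, an element of odd order fixing the centre of a member and a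
further point is not inverted by it. -/
theorem eq_one_of_inverted_centralFor [Finite G]
    (hz : ∀ q : ℕ, q.Prime → q ≠ 2 → W1.CentralForZ Ω Z q) {c z : Ω} (hzc : z ≠ c) {a k : G}
    (ha : a ∈ memAt Z c) (hodd : Odd (orderOf k)) (hinv : a * k * a⁻¹ = k⁻¹) (hkc : k • c = c)
    (hkz : k • z = z) : k = 1 := by
  by_contra hk
  obtain ⟨q, hq, hqk⟩ := Nat.exists_prime_and_dvd (mt orderOf_eq_one_iff.1 hk)
  have : Fact q.Prime := ⟨hq⟩
  have hq2 : q ≠ 2 := fun e => Nat.not_even_iff_odd.2 hodd (even_iff_two_dvd.2 (e ▸ hqk))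
  set y := k ^ (orderOf k / q) with hy
  have hyq : orderOf y = q := orderOf_pow_orderOf_div (orderOf_pos k).ne' hqk
  have hay : a * y * a⁻¹ = y⁻¹ := by rw [hy, ← conj_pow, hinv, inv_pow]
  have hY : IsPGroup q (Subgroup.zpowers y) :=
    IsPGroup.of_card (n := 1) (by rw [Nat.card_zpowers, hyq, pow_one])
  have hle : Subgroup.zpowers y ≤ BenderTrans.two G c z := by
    rw [Subgroup.zpowers_le, hy]
    exact pow_mem (BenderTrans.mem_two_iff.2 ⟨hkc, hkz⟩) _
  have hn : a ∈ Subgroup.normalizer (Subgroup.zpowers y : Set G) := by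
    refine Coprime.mem_normalizer_of_forall_conj fun x hx => ?_
    obtain ⟨n, rfl⟩ := Subgroup.mem_zpowers_iff.1 hx
    rw [← conj_zpow, hay]
    exact zpow_mem (inv_mem (Subgroup.mem_zpowers y)) n
  have hc := hz q hq hq2 c z a hzc ha _ hY hle hn y (Subgroup.mem_zpowers y)
  rw [← hc.eq, mul_inv_cancel_right] at hay
  have h2 : orderOf y ∣ 2 := orderOf_dvd_of_pow_eq_one (by
    rw [pow_two]
    exact eq_inv_iff_mul_eq_one.1 hay)
  exact hq2 ((Nat.prime_dvd_prime_iff_eq hq Nat.prime_two).1 (hyq ▸ h2))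

namespace Crit

variable (hC : Crit Ω Z)
include hC

variable [Finite G] [Finite Ω]

/-- If there is a bad involution, two members commute at every point. -/
theorem four_everywhere (hbad : ∃ w : G, IsBad Ω w) :
    ∀ c : Ω, ∃ s ∈ memAt Z c, ∃ t ∈ memAt Z c, s ≠ t ∧ Commute s t := by
  intro c
  suffices h : ∃ s ∈ Z, ∃ t ∈ Z, s ≠ t ∧ Commute s t by
    obtain ⟨s, hs, t, ht, hne, hst⟩ := h
    obtain ⟨d, hd⟩ := hC.base.exists_fix s hs
    have htd : t • d = d := hC.base.fix_of_commute ⟨hs, hd⟩ hst.symm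
    obtain ⟨g, rfl⟩ := hC.base.trans d c
    exact ⟨_, hC.base.conj_memAt ⟨hs, hd⟩, _, hC.base.conj_memAt ⟨ht, htd⟩,
      fun e => hne (mul_left_cancel (mul_right_cancel e)), commute_conj hst g⟩
  by_contra hcon
  push Not at hcon
  obtain ⟨w, hw⟩ := hbad
  obtain ⟨hw2, x, -, -, hx, -⟩ := id hw
  obtain ⟨t, ht, hwt⟩ := hC.base.exists_memAt_commute hw2 hx
  have ht2 := hC.base.invol t ht.1
  have hiso : Cfsg.IsIsolatedInvolution t := ⟨ht2, fun g hg => by
    by_contra hne
    exact hcon t ht.1 _ (hC.base.conj_mem g t ht.1) (fun e => hne e.symm) hg⟩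
  have hz := Involutions.zstar G t hiso
  set O := Cfsg.pPrimeCore 2 G
  have : O.Normal := Cfsg.pPrimeCore_normal 2 G
  set π := QuotientGroup.mk' O
  have htt : π t * π t = 1 := by rw [← map_mul, mul_self_eq_one ht2, map_one]
  have hall : ∀ g ∈ Subgroup.closure Z, π g = 1 ∨ π g = π t := by
    intro g hg
    induction hg using Subgroup.closure_induction with
    | mem s hs =>
      obtain ⟨g, rfl⟩ := isConj_iff.1 (hC.base.isConj_mem ht.1 hs)
      right
      refine eq_of_mul_inv_eq_one ?_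
      rw [← map_inv, ← map_mul]
      exact (QuotientGroup.eq_one_iff _).2 (hz g)
    | one => exact Or.inl (map_one π)
    | mul a b _ _ ha hb =>
      rcases ha with ha | ha <;> rcases hb with hb | hb <;> simp [map_mul, ha, hb, htt]
    | inv a _ ha =>
      rcases ha with ha | ha
      · exact Or.inl (by simp [ha])
      · exact Or.inr (by rw [map_inv, ha, inv_eq_of_mul_eq_one_left htt])
  have hne2 : ∀ {v : G}, π v = 1 → orderOf v ≠ 2 := fun {v} hv hv2 => by
    have h1 : orderOf v ∣ Nat.card O :=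
      Subgroup.orderOf_dvd_natCard O ((QuotientGroup.eq_one_iff v).1 hv)
    rw [hv2] at h1
    have h2 : (Nat.card O).Coprime 2 := CfsgLib.PCore.pPrimeCore_coprime
    exact Nat.prime_two.not_dvd_one (h2 ▸ Nat.dvd_gcd h1 dvd_rfl)
  rcases hall w (hC.gen ▸ Subgroup.mem_top w) with h1 | h1
  · exact hne2 h1 hw2
  · refine hne2 (v := w * t) ?_ (hC.base.isBad_mul hC.faith hw ht.1 hwt).1
    rw [map_mul, h1, htt]

/-- Without two commuting members in the section of a bad involution, two members with one centre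
there agree at a second point. -/
theorem exists_second_agree {w : G} (hw : IsBad Ω w) {c : Ω} (hc : w • c = c)
    (huniq : ∀ s ∈ memCent Z w, ∀ t ∈ memCent Z w, s ∈ Z → t ∈ Z → Commute s t → s = t)
    {a b : G} (ha : a ∈ memAt Z c) (hb : b ∈ memAt Z c) (haL : a ∈ memCent Z w)
    (hbL : b ∈ memCent Z w) :
    Odd (orderOf (a * b)) ∧ ∃ z, z ≠ c ∧ (a * b) • z = z := by
  set L := memCent Z w with hL
  set F := fixSet Ω (Subgroup.zpowers w) with hF
  have hX : IsPGroup 2 (Subgroup.zpowers w) := isPGroup_zpowers hw.1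
  have hcF : c ∈ F := mem_fixSet_zpowers.2 hc
  have hcomm : ∀ g ∈ L, ∀ p ∈ Subgroup.zpowers w, Commute p g := fun g hg p hp =>
    commute_of_mem_sectGroup ((memCent_eq Z w).le hg) hp
  have huniq' : ∀ s t : L, orderOf s = 2 → orderOf t = 2 → Commute s t → s = t := by
    intro s t hs ht hst
    rw [← Subgroup.orderOf_coe] at hs ht
    exact Subtype.ext (huniq s s.2 t t.2 (hC.mem_of_memCent hw s.2 hs)
      (hC.mem_of_memCent hw t.2 ht) (congrArg Subtype.val hst))
  have hall : ∀ i ∈ L, ∀ j ∈ L, i ∈ Z → j ∈ Z →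
      Odd (orderOf (i * j)) ∧ i * j ∈ BenderTrans.coreIn L := by
    intro i hiL j hjL hiZ hjZ
    have hi : orderOf (⟨i, hiL⟩ : L) = 2 := by
      rw [← Subgroup.orderOf_coe]; exact hC.base.invol i hiZ
    have hj : orderOf (⟨j, hjL⟩ : L) = 2 := by
      rw [← Subgroup.orderOf_coe]; exact hC.base.invol j hjZ
    set I : L := ⟨i, hiL⟩ with hI
    set J : L := ⟨j, hjL⟩ with hJ
    rcases eq_or_ne i j with e | hne
    · rw [e, mul_self_eq_one (hC.base.invol j hjZ), orderOf_one]
      exact ⟨odd_one, one_mem _⟩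
    have hodd : Odd (orderOf (I * J)) := by
      by_contra ho
      obtain ⟨he, hei, hej⟩ := central_involution hi hj (Nat.not_odd_iff_even.1 ho)
      exact hne (congrArg Subtype.val ((huniq' _ _ he hi hei).symm.trans (huniq' _ _ he hj hej)))
    have h2 : I * J * (I * J) ∈ Cfsg.pPrimeCore 2 L := by
      have h1 := inZStar_of_rank_one huniq' hj I
      simpa [inv_eq_self_of_involution hi, inv_eq_self_of_involution hj, mul_assoc] using h1
    refine ⟨by rwa [← Subgroup.orderOf_coe] at hodd, ?_⟩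
    obtain ⟨k, hk⟩ := RankOneInvol.exists_pow_sq_eq hodd
    exact ⟨I * J, by rw [← hk, ← (Commute.refl (I * J)).mul_pow]; exact pow_mem h2 k, rfl⟩
  refine ⟨(hall a haL b hbL ha.1 hb.1).1, ?_⟩
  set N0 := BenderTrans.coreIn L with hN0
  have hN0L : N0 ≤ L := BenderTrans.coreIn_le L
  have hmove : ¬ c ∈ BenderTrans.fixSet Ω N0 := by
    intro hfix
    obtain ⟨x, hxF, hxc⟩ : ∃ x ∈ F, x ≠ c := by
      obtain ⟨p, hp, q, hq, hpq⟩ := exists_pair_fixSet hw
      by_cases e : p = c
      · exact ⟨q, hq, fun e' => hpq (e.trans e'.symm)⟩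
      · exact ⟨p, hp, e⟩
    obtain ⟨t, ht, htL⟩ := hC.base.exists_mem_sect_at hX hxF
    rw [← memCent_eq] at htL
    have h1 := hfix _ (hall t htL a haL ht.1 ha.1).2
    rw [mul_smul, ha.2] at h1
    exact hxc (hC.base.unique t ht.1 _ _ ht.2 h1)
  have hsolv : Group.IsSolvable N0 := CfsgLib.PF.oddSolvable N0 (BenderTrans.odd_coreIn L)
  obtain ⟨k, hk, hk1⟩ : ∃ k, ¬ c ∈ BenderTrans.fixSet Ω (BenderTrans.derivedOf N0 k) ∧
      c ∈ BenderTrans.fixSet Ω (BenderTrans.derivedOf N0 (k + 1)) := by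
    by_contra hcon
    have hall' : ∀ k, ¬ c ∈ BenderTrans.fixSet Ω (BenderTrans.derivedOf N0 k) := by
      intro k
      induction k with
      | zero => exact hmove
      | succ k ih => exact fun h' => hcon ⟨k, ih, h'⟩
    obtain ⟨k, hk⟩ := Group.IsSolvable.solvable (G := N0)
    refine hall' k ?_
    rw [BenderTrans.derivedOf_eq, hk, Subgroup.map_bot]
    intro g hg
    rw [Subgroup.mem_bot.1 hg, one_smul]
  have hfixF : ∀ x ∈ F, x ∈ BenderTrans.fixSet Ω (BenderTrans.derivedOf N0 (k + 1)) := by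
    intro x hx
    rcases eq_or_ne c x with rfl | hne
    · exact hk1
    obtain ⟨s, hs, hsL⟩ := hC.base.exists_swap_sect hX hcF hx hne
    rw [← memCent_eq] at hsL
    rw [← hs.2]
    exact BenderTrans.smul_mem_fixSet
      (BenderTrans.mem_normalizer_derivedOf (BenderTrans.le_normalizer_coreIn L hsL) _) hk1
  set V := BenderTrans.derivedOf N0 k with hV
  have hVL : V ≤ L := (BenderTrans.derivedOf_le N0 k).trans hN0L
  have hcomm' : ∀ v ∈ V, ∀ u ∈ V, ∀ x ∈ F, v • u • x = u • v • x := by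
    intro v hv u hu x hx
    have hy : u • v • x ∈ F :=
      smul_mem_fixSet (hcomm u (hVL hu)) (smul_mem_fixSet (hcomm v (hVL hv)) hx)
    have h1 := hfixF _ hy ⁅v, u⁆ (Subgroup.commutator_mem_commutator hv hu)
    calc v • u • x = ⁅v, u⁆ • u • v • x := by simp [commutatorElement_def, smul_smul, mul_assoc]
      _ = u • v • x := h1
  obtain ⟨v, hv, hvc⟩ : ∃ v ∈ V, v • c ≠ c := by
    by_contra hcon
    push Not at hcon
    exact hk hcon
  have hinv : ∀ i ∈ L, i ∈ memAt Z c → i • v • c = v⁻¹ • c := by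
    intro i hiL hi
    have hiv : i * v * i⁻¹ ∈ V := Coprime.mem_normalizer_conj
      (BenderTrans.mem_normalizer_derivedOf (BenderTrans.le_normalizer_coreIn L hiL) k) hv
    have hi2 := hC.base.invol i hi.1
    have hii : i • i • c = c := by rw [hi.2, hi.2]
    have hx : v • (i * v * i⁻¹) • c = c := by
      refine hC.base.unique i hi.1 _ _ ?_ hi.2
      calc i • v • (i * v * i⁻¹) • c = (i * v * i⁻¹) • i • (i * v * i⁻¹) • c := by
            simp [smul_smul, mul_assoc]
        _ = (i * v * i⁻¹) • v • c := by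
            rw [inv_eq_self_of_involution hi2, mul_smul (i * v) i c, hi.2, mul_smul i v c,
              smul_smul i i, mul_self_eq_one hi2, one_smul]
        _ = v • (i * v * i⁻¹) • c := hcomm' _ hiv _ hv c hcF
    calc i • v • c = (i * v * i⁻¹) • c := by
          rw [mul_smul, mul_smul, inv_eq_self_of_involution hi2, hi.2]
      _ = v⁻¹ • v • (i * v * i⁻¹) • c := by rw [inv_smul_smul]
      _ = v⁻¹ • c := by rw [hx]
  refine ⟨v • c, hvc, ?_⟩
  rw [mul_smul, hinv b hbL hb, ← hinv a haL ha, smul_smul, mul_self_eq_one (hC.base.invol a ha.1),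
    one_smul]

/-- The centralising statement for every odd prime gives that members at one point commuting with a
bad involution commute. -/
theorem secComm_of_centralFor (hz : ∀ q : ℕ, q.Prime → q ≠ 2 → W1.CentralForZ Ω Z q) :
    SecComm Ω Z := by
  intro c w hw hc a ha b hb hwa hwb
  have haL : a ∈ memCent Z w := Subgroup.subset_closure ⟨ha.1, hwa⟩
  have hbL : b ∈ memCent Z w := Subgroup.subset_closure ⟨hb.1, hwb⟩
  have ha2 := hC.base.invol a ha.1
  have hb2 := hC.base.invol b hb.1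
  have haa := mul_self_eq_one ha2
  have hbb := mul_self_eq_one hb2
  have hai := inv_eq_self_of_involution ha2
  have hbi := inv_eq_self_of_involution hb2
  have hinv : a * (a * b) * a⁻¹ = (a * b)⁻¹ := by
    rw [mul_inv_rev, hai, hbi, ← mul_assoc a a b, haa, one_mul]
  by_cases huniq : ∀ s ∈ memCent Z w, ∀ t ∈ memCent Z w, s ∈ Z → t ∈ Z → Commute s t → s = t
  · obtain ⟨hodd, z, hzc, hz'⟩ := hC.exists_second_agree hw hc huniq ha hb haL hbL
    have h1 := eq_one_of_inverted_centralFor hz hzc ha hodd hinv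
      (by rw [mul_smul, hb.2, ha.2]) hz'
    rw [mul_eq_one_iff_eq_inv, hbi] at h1
    exact h1 ▸ Commute.refl a
  push Not at huniq
  obtain ⟨s, hs, t, ht, hsZ, htZ, hst, hne⟩ := huniq
  have hX : IsPGroup 2 (Subgroup.zpowers w) := isPGroup_zpowers hw.1
  obtain ⟨x, hx, y, hy, hxy⟩ := exists_pair_fixSet hw
  have hS := hC.base.sectSetting hX hx hy hxy (hC.oddSect hw)
    ⟨s, hsZ, t, htZ, memCent_eq Z w ▸ hs, memCent_eq Z w ▸ ht, hne, hst⟩
  rw [memCent_eq] at haL hbL
  have hcF : c ∈ fixSet Ω (Subgroup.zpowers w) := mem_fixSet_zpowers.2 hc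
  obtain ⟨T, hTL, -, -, -, -, -, hcent, hmeet, -⟩ := hC.base.exists_twoGroup_sect hX hS hcF
  obtain ⟨ka, -, hka, hkaT⟩ := hmeet a ha haL
  obtain ⟨kb, -, hkb, hkbT⟩ := hmeet b hb hbL
  set a' := ka * a * ka⁻¹ with ha'
  set b' := kb * b * kb⁻¹ with hb'
  have hab' : Commute a' b' := hcent a' hkaT (hC.base.conj_mem ka a ha.1) b' hkbT
  have hsq : a' * b' * (a' * b') = 1 := by
    rw [hab'.symm.mul_mul_mul_comm,
      mul_self_eq_one ((orderOf_conj_eq ka a).trans ha2),
      mul_self_eq_one ((orderOf_conj_eq kb b).trans hb2), one_mul]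
  have hact : ∀ {k g : G}, g ∈ sectGroup Z (Subgroup.zpowers w) →
      (∀ p ∈ fixSet Ω (Subgroup.zpowers w), k • p = p) →
      ∀ p ∈ fixSet Ω (Subgroup.zpowers w), (k * g * k⁻¹) • p = g • p := by
    intro k g hg hk p hp
    rw [mul_smul, mul_smul, inv_smul_eq_iff.2 (hk p hp).symm, hk _ (hS.stable g hg p hp)]
  have habL := mul_mem haL hbL
  have hprod : ∀ p ∈ fixSet Ω (Subgroup.zpowers w), (a' * b') • p = (a * b) • p := by
    intro p hp
    rw [mul_smul, hact hbL hkb p hp, hact haL hka _ (hS.stable b hbL p hp), mul_smul]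
  set k := a * b * (a * b) with hk
  have hkfix : ∀ p ∈ fixSet Ω (Subgroup.zpowers w), k • p = p := by
    intro p hp
    rw [hk, mul_smul, ← hprod _ (hS.stable _ habL p hp), ← hprod p hp, smul_smul, hsq, one_smul]
  obtain ⟨z, hz', hzc⟩ := hS.two c hcF
  have hk1 := eq_one_of_inverted_centralFor hz hzc ha (hS.odd_ker k (mul_mem habL habL) hkfix)
    (by rw [hk, mul_inv_rev, ← hinv]; group) (hkfix c hcF) (hkfix z hz')
  have h1 : a * b = (a * b)⁻¹ := eq_inv_iff_mul_eq_one.2 hk1
  rw [mul_inv_rev, hai, hbi] at h1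
  exact h1

end Crit

end CfsgLib.StrongCrit
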