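import Cfsg.Agent.Lib.StrongCrit.W1.Central
import Cfsg.Agent.Lib.StrongCrit.W1.Block
import Cfsg.Agent.Lib.StrongCrit.W1.SecComm

/-!
Under the standing hypotheses, with proper subgroups pure: the group is doubly transitive, members
centralise invariant groups of odd order, and two members at one point commuting with one bad
involution commute.
-/

set_option autoImplicit false

namespace CfsgLib.StrongCrit

open CfsgLib.Involutions CfsgLib.BenderTrans MulAction

universe u

variable {G : Type u} [Group G] [Finite G] {Ω : Type u} [MulAction G Ω] [Finite Ω] {Z : Set G}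

namespace Crit

variable (hC : Crit Ω Z) (hP : W1.PureBelow Ω Z)
include hC hP

/-- A member centralises every invariant `q`-group of odd prime `q` at its centre and a further
point. -/
theorem centralForZ (hbad : ∃ w : G, IsBad Ω w) {q : ℕ} (hq : q.Prime) (hq2 : q ≠ 2) :
    W1.CentralForZ Ω Z q := by
  have : Fact q.Prime := ⟨hq⟩
  have hfour := hC.four_everywhere hbad
  by_cases hd : ∀ c : Ω, ¬ q ∣ (memAt Z c).ncard
  · exact W1.centralForZ_of_not_dvd hC.base hq2 hd
  · push Not at hd
    obtain ⟨c, hc⟩ := hd
    exact W1.Ctx.centralForZ (hC.base.ctx hC.faith hP hfour hq hc)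
      (hC.base.blockProp hC.faith) (hC.base.coreCentralZ hC.faith hP hfour)

/-- The group is doubly transitive. -/
theorem twoTrans (hbad : ∃ w : G, IsBad Ω w) : TwoTrans G Ω :=
  hC.base.twoTrans hC.faith hP (hC.four_everywhere hbad)

/-- **The sections commute**: two members at one point commuting with a bad involution fixing that
point commute. -/
theorem secComm : SecComm Ω Z := fun c w hw =>
  hC.secComm_of_centralFor (fun _ hq hq2 => hC.centralForZ hP ⟨w, hw⟩ hq hq2) c w hw

end Crit

end CfsgLib.StrongCrit
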