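import Cfsg.Agent.Lib.StrongCrit.Crit
import Cfsg.Agent.Lib.BenderTrans.Block
import Cfsg.Agent.Lib.Involutions.BrauerSuzuki

/-!
The odd core `O` of the stabiliser `D` of two points in the setting of Aschbacher's criterion: the
members interchanging the points and the members at either point form one `O`-orbit each, so `O`
takes the place of the (odd) two point stabiliser of Bender's transitivity theorem.
-/

set_option autoImplicit false

namespace CfsgLib.StrongCrit

open CfsgLib.Involutions CfsgLib.OddOrder CfsgLib.BenderTrans MulAction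

universe u v

section Generic

variable {G : Type u} [Group G]

variable [Finite G]

theorem card_sup_dvd_of_normalizes {R L : Subgroup G} (hn : L ≤ Subgroup.normalizer (R : Set G)) :
    Nat.card (R ⊔ L : Subgroup G) ∣ Nat.card R * Nat.card L := by
  have hR : (R.subgroupOf (R ⊔ L)).Normal :=
    (Subgroup.normal_subgroupOf_iff_le_normalizer le_sup_left).2 (sup_le Subgroup.le_normalizer hn)
  have h1 := PCore.card_sup_dvd_mul (R.subgroupOf (R ⊔ L)) (L.subgroupOf (R ⊔ L))
  rw [← Subgroup.subgroupOf_sup le_sup_left le_sup_right, Subgroup.subgroupOf_self,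
    Subgroup.card_top, Nat.card_congr (Subgroup.subgroupOfEquivOfLe le_sup_left).toEquiv,
    Nat.card_congr (Subgroup.subgroupOfEquivOfLe le_sup_right).toEquiv] at h1
  exact h1

theorem odd_oPrime_two (X : Subgroup G) : Odd (Nat.card (oPrime 2 X)) :=
  Nat.coprime_two_right.1 (oPrime_coprime X)

/-- A subgroup covering a group modulo its odd core has the induced odd core. -/
theorem oPrime_two_eq_inf {D X : Subgroup G} (hXD : X ≤ D) (hcov : D ≤ oPrime 2 D ⊔ X) :
    oPrime 2 X = oPrime 2 D ⊓ X := by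
  have hn : X ≤ Subgroup.normalizer (oPrime 2 D : Set G) := hXD.trans (oPrime_normal D)
  refine le_antisymm (le_inf ?_ (oPrime_le X)) ?_
  · refine le_sup_right.trans (le_oPrime (p := 2) (N := oPrime 2 D ⊔ oPrime 2 X)
      (sup_le (oPrime_le D) ((oPrime_le X).trans hXD)) (hcov.trans (sup_le
        (le_sup_left.trans Subgroup.le_normalizer)
        fun g hg => mem_normalizer_sup (hn hg) (oPrime_normal X hg))) ?_)
    exact Nat.Coprime.coprime_dvd_left (card_sup_dvd_of_normalizes ((oPrime_le X).trans hn))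
      (Nat.Coprime.mul_left (oPrime_coprime D) (oPrime_coprime X))
  · refine le_oPrime (p := 2) inf_le_right (fun g hg => Coprime.mem_normalizer_of_forall_conj
      fun x hx => ⟨Coprime.mem_normalizer_conj (hn hg) hx.1,
        X.mul_mem (X.mul_mem hg hx.2) (X.inv_mem hg)⟩) ?_
    exact Nat.Coprime.coprime_dvd_left (Subgroup.card_dvd_of_le inf_le_left) (oPrime_coprime D)

end Generic

variable {G : Type u} [Group G] {Ω : Type v} [MulAction G Ω] {Z : Set G}

/-- The `q`-part of the number of members at a point. -/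
noncomputable def qpart (Z : Set G) (c : Ω) (q : ℕ) : ℕ :=
  q ^ (memAt Z c).ncard.factorization q

variable (G) in
/-- The odd core of the stabiliser of two points. -/
def pairCore (x y : Ω) : Subgroup G := oPrime 2 (two G x y)

theorem pairCore_le (x y : Ω) : pairCore G x y ≤ two G x y := oPrime_le _

theorem two_le_normalizer_pairCore (x y : Ω) :
    two G x y ≤ Subgroup.normalizer (pairCore G x y : Set G) := oPrime_normal _

theorem pairCore_comm (x y : Ω) : pairCore G x y = pairCore G y x := by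
  rw [pairCore, pairCore, two_comm]

theorem odd_pairCore [Finite G] (x y : Ω) : Odd (Nat.card (pairCore G x y)) := odd_oPrime_two _

namespace Setting

variable (h : Setting Ω Z)
include h

theorem swap_ne_centre {x y c : Ω} (hxy : x ≠ y) {s : G} (hs : s ∈ swapMem Z x y)
    (hc : s • c = c) : x ≠ c ∧ y ≠ c := by
  refine ⟨?_, ?_⟩ <;> rintro rfl
  · exact hxy (hc.symm.trans hs.2)
  · exact hxy ((h.swap_symm hs).symm.trans hc)

theorem swap_normalizes_two [Finite G] {x y : Ω} {s : G} (hs : s ∈ swapMem Z x y) :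
    s ∈ Subgroup.normalizer (two G x y : Set G) := by
  refine Coprime.mem_normalizer_of_forall_conj fun g hg => ?_
  obtain ⟨h1, h2⟩ := mem_two_iff.1 hg
  rw [mem_two_iff, inv_eq_self_of_involution (h.invol s hs.1)]
  exact ⟨by rw [mul_smul, mul_smul, hs.2, h2, h.swap_symm hs],
    by rw [mul_smul, mul_smul, h.swap_symm hs, h1, hs.2]⟩

theorem swap_normalizes_pairCore [Finite G] {x y : Ω} {s : G} (hs : s ∈ swapMem Z x y) :
    s ∈ Subgroup.normalizer (pairCore G x y : Set G) :=
  mem_normalizer_oPrime (h.swap_normalizes_two hs)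

theorem conj_mem_swapMem {x y : Ω} {g s : G} (hs : s ∈ swapMem Z x y) :
    g * s * g⁻¹ ∈ swapMem Z (g • x) (g • y) :=
  ⟨h.conj_mem g s hs.1, by rw [smul_smul, inv_mul_cancel_right, mul_smul, hs.2]⟩

theorem conj_mem_swapMem_two {x y : Ω} {g s : G} (hg : g ∈ two G x y) (hs : s ∈ swapMem Z x y) :
    g * s * g⁻¹ ∈ swapMem Z x y := by
  have h1 := h.conj_mem_swapMem (g := g) hs
  rwa [(mem_two_iff.1 hg).1, (mem_two_iff.1 hg).2] at h1

theorem conj_mem_memAt_two {x y : Ω} {g a : G} (hg : g ∈ two G x y) (ha : a ∈ memAt Z x) :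
    g * a * g⁻¹ ∈ memAt Z x := by
  have h1 := h.conj_memAt (g := g) ha
  rwa [(mem_two_iff.1 hg).1] at h1

theorem mul_mem_two {x y : Ω} {s s' : G} (hs : s ∈ swapMem Z x y) (hs' : s' ∈ swapMem Z x y) :
    s' * s ∈ two G x y :=
  mem_two_iff.2 ⟨by rw [mul_smul, hs.2, h.swap_symm hs'],
    by rw [mul_smul, h.swap_symm hs, hs'.2]⟩

/-- A swapper is isolated in the setwise stabiliser of its two points, so conjugating it by an
element of that group multiplies it by an element of the odd core. -/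
theorem commutator_mem_pairCore_sup [Finite G] {x y : Ω} (hxy : x ≠ y) {s : G}
    (hs : s ∈ swapMem Z x y) {g : G} (hg : g ∈ two G x y ⊔ Subgroup.zpowers s) :
    g * s * g⁻¹ * s⁻¹ ∈ pairCore G x y := by
  set H := two G x y ⊔ Subgroup.zpowers s with hH
  have hpair : ∀ k ∈ H, (k • x = x ∧ k • y = y) ∨ (k • x = y ∧ k • y = x) := by
    intro k hk
    rw [hH, Subgroup.sup_eq_closure] at hk
    refine pair_of_le_closure ?_ hk
    rintro z (hz | hz)
    · exact Or.inl (mem_two_iff.1 hz)
    · refine pair_of_le_closure (S := {s}) ?_ ?_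
      · rintro w rfl
        exact Or.inr ⟨hs.2, h.swap_symm hs⟩
      · rwa [← Subgroup.zpowers_eq_closure]
  have hsH : s ∈ H := Subgroup.mem_sup_right (Subgroup.mem_zpowers s)
  have hiso : Cfsg.IsIsolatedInvolution (⟨s, hsH⟩ : H) := by
    refine ⟨by rw [← Subgroup.orderOf_coe]; exact h.invol s hs.1, fun k hk => Subtype.ext ?_⟩
    show (k : G) * s * (k : G)⁻¹ = s
    have hk' : Commute s ((k : G) * s * (k : G)⁻¹) := congrArg Subtype.val hk
    have hmem : (k : G) * s * (k : G)⁻¹ ∈ swapMem Z x y := by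
      have h1 := h.conj_mem_swapMem (g := (k : G)) hs
      rcases hpair k k.2 with ⟨e1, e2⟩ | ⟨e1, e2⟩ <;> rw [e1, e2] at h1
      · exact h1
      · exact ⟨h1.1, h.swap_symm h1⟩
    by_contra hne
    have hodd := h.odd_order_mul_swap hxy hmem hs
    have h2 : orderOf ((k : G) * s * (k : G)⁻¹ * s) = 2 := by
      refine orderOf_eq_two_iff_mul.2 ⟨fun e => hne ?_, ?_⟩
      · rw [mul_eq_one_iff_eq_inv.1 e, inv_eq_self_of_involution (h.invol s hs.1)]
      · rw [mul_assoc, ← mul_assoc s, hk'.eq, mul_assoc ((k : G) * s * (k : G)⁻¹),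
          mul_self_eq_one (h.invol s hs.1), mul_one, mul_self_eq_one (h.invol _ hmem.1)]
    rw [h2] at hodd
    exact absurd hodd (by decide)
  have hz := Involutions.zstar H ⟨s, hsH⟩ hiso ⟨g, hg⟩
  have hle : oPrime 2 H ≤ pairCore G x y := by
    refine le_oPrime (p := 2) (fun k hk => ?_)
      ((le_sup_left : two G x y ≤ H).trans (oPrime_normal H)) (oPrime_coprime H)
    have ho : Odd (orderOf k) :=
      (odd_oPrime_two H).of_dvd_nat (Subgroup.orderOf_dvd_natCard _ hk)
    rcases hpair k (oPrime_le H hk) with e | ⟨e1, e2⟩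
    · exact mem_two_iff.2 e
    · exfalso
      exact Nat.not_even_iff_odd.2 ho (even_orderOf_of_swap hxy e1 e2)
  exact hle ⟨_, hz, rfl⟩

/-- The quotient of the stabiliser of two points by its odd core is centralised by swappers. -/
theorem commutator_mem_pairCore [Finite G] {x y : Ω} (hxy : x ≠ y) {s : G}
    (hs : s ∈ swapMem Z x y) {g : G} (hg : g ∈ two G x y) :
    g * s * g⁻¹ * s⁻¹ ∈ pairCore G x y :=
  h.commutator_mem_pairCore_sup hxy hs (Subgroup.mem_sup_left hg)

/-- The product of two swappers lies in the odd core. -/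
theorem mul_mem_pairCore [Finite G] {x y : Ω} (hxy : x ≠ y) {s s' : G}
    (hs : s ∈ swapMem Z x y) (hs' : s' ∈ swapMem Z x y) : s' * s ∈ pairCore G x y := by
  obtain ⟨g, hg, hgs⟩ := conj_of_odd_order (h.invol s hs.1) (h.invol s' hs'.1)
    (h.odd_order_mul_swap hxy hs hs')
  have hle : Subgroup.closure ({s, s'} : Set G) ≤ two G x y ⊔ Subgroup.zpowers s := by
    rw [Subgroup.closure_le]
    rintro z (rfl | rfl)
    · exact Subgroup.mem_sup_right (Subgroup.mem_zpowers z)
    · have : z = z * s * s⁻¹ := by group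
      rw [this]
      exact mul_mem (Subgroup.mem_sup_left (h.mul_mem_two hs hs'))
        (inv_mem (Subgroup.mem_sup_right (Subgroup.mem_zpowers s)))
  have h1 := h.commutator_mem_pairCore_sup hxy hs (hle hg)
  rwa [hgs, inv_eq_self_of_involution (h.invol s hs.1)] at h1

/-- Two swappers are conjugate under the odd core, by an element inverted by the first one. -/
theorem exists_conj_swap [Finite G] {x y : Ω} (hxy : x ≠ y) {s s' : G}
    (hs : s ∈ swapMem Z x y) (hs' : s' ∈ swapMem Z x y) :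
    ∃ d ∈ pairCore G x y, s * d * s⁻¹ = d⁻¹ ∧ d * s * d⁻¹ = s' := by
  have hso := h.invol s hs.1
  have ho := h.odd_order_mul_swap hxy hs' hs
  obtain ⟨k, hk⟩ := RankOneInvol.exists_pow_sq_eq ho
  have hinv : s * (s' * s) ^ k * s⁻¹ = ((s' * s) ^ k)⁻¹ :=
    inverts_pow (right_inverts_prod (h.invol s' hs'.1) hso) k
  refine ⟨(s' * s) ^ k, pow_mem (h.mul_mem_pairCore hxy hs hs') k, hinv, ?_⟩
  calc (s' * s) ^ k * s * ((s' * s) ^ k)⁻¹ = (s' * s) ^ k * s * (s * (s' * s) ^ k * s⁻¹) := by
        rw [hinv]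
    _ = (s' * s) ^ k * (s * s) * (s' * s) ^ k * s⁻¹ := by simp only [mul_assoc]
    _ = (s' * s) ^ k * (s' * s) ^ k * s⁻¹ := by rw [mul_self_eq_one hso, mul_one]
    _ = s' := by rw [hk, mul_inv_cancel_right]

/-- The odd core is transitive on the swappers. -/
theorem cls_pairCore_swap [Finite G] {x y : Ω} (hxy : x ≠ y) {s : G} (hs : s ∈ swapMem Z x y) :
    cls (pairCore G x y) s = swapMem Z x y := by
  ext t
  constructor
  · rintro ⟨d, hd, rfl⟩
    exact h.conj_mem_swapMem_two (pairCore_le x y hd) hs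
  · intro ht
    obtain ⟨d, hd, -, hde⟩ := h.exists_conj_swap hxy hs ht
    exact ⟨d, hd, hde⟩

/-- The odd core is transitive on the members at either point. -/
theorem cls_pairCore_memAt [Finite G] [Finite Ω] {x y : Ω} (hxy : x ≠ y) {a : G}
    (ha : a ∈ memAt Z x) : cls (pairCore G x y) a = memAt Z x := by
  ext t
  constructor
  · rintro ⟨d, hd, rfl⟩
    exact h.conj_mem_memAt_two (pairCore_le x y hd) ha
  · intro ht
    obtain ⟨b, hb⟩ := h.exists_memAt y
    obtain ⟨s, hs, hsa⟩ := (h.bijOn_conj hxy hb).surjOn ha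
    obtain ⟨s', hs', hst⟩ := (h.bijOn_conj hxy hb).surjOn ht
    refine ⟨s' * s, h.mul_mem_pairCore hxy hs hs', ?_⟩
    simp only at hsa hst
    rw [← hst, ← hsa,
      show s' * s * (s * b * s⁻¹) * (s' * s)⁻¹ = s' * (s * s) * b * (s * s)⁻¹ * s'⁻¹ by group,
      mul_self_eq_one (h.invol s hs.1)]
    group

theorem cls_two_swap [Finite G] {x y : Ω} (hxy : x ≠ y) {s : G} (hs : s ∈ swapMem Z x y) :
    cls (two G x y) s = swapMem Z x y := by
  refine Set.Subset.antisymm ?_ ((h.cls_pairCore_swap hxy hs).symm.subset.trans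
    (cls_mono (pairCore_le x y) s))
  rintro _ ⟨d, hd, rfl⟩
  exact h.conj_mem_swapMem_two hd hs

theorem cls_two_memAt [Finite G] [Finite Ω] {x y : Ω} (hxy : x ≠ y) {a : G}
    (ha : a ∈ memAt Z x) : cls (two G x y) a = memAt Z x := by
  refine Set.Subset.antisymm ?_ ((h.cls_pairCore_memAt hxy ha).symm.subset.trans
    (cls_mono (pairCore_le x y) a))
  rintro _ ⟨d, hd, rfl⟩
  exact h.conj_mem_memAt_two hd ha

/-- The centraliser of a swapper covers the stabiliser of the two points modulo the odd core. -/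
theorem two_le_sup_swap [Finite G] {x y : Ω} (hxy : x ≠ y) {s : G} (hs : s ∈ swapMem Z x y) :
    two G x y ≤ pairCore G x y ⊔ (two G x y ⊓ Subgroup.centralizer {s}) := by
  intro g hg
  obtain ⟨d, hd, hde⟩ : g * s * g⁻¹ ∈ cls (pairCore G x y) s :=
    (h.cls_pairCore_swap hxy hs).symm ▸ h.conj_mem_swapMem_two hg hs
  rw [show g = d * (d⁻¹ * g) by group]
  refine Subgroup.mul_mem_sup hd ⟨(two G x y).mul_mem ((two G x y).inv_mem (pairCore_le x y hd)) hg,
    Subgroup.mem_centralizer_singleton_iff.2 ?_⟩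
  calc d⁻¹ * g * s = d⁻¹ * (g * s * g⁻¹) * g := by group
    _ = s * (d⁻¹ * g) := by rw [← hde]; group

/-- The centraliser of a member at the first point covers the stabiliser of two points modulo the
odd core. -/
theorem two_le_sup_memAt [Finite G] [Finite Ω] {x y : Ω} (hxy : x ≠ y) {a : G}
    (ha : a ∈ memAt Z x) :
    two G x y ≤ pairCore G x y ⊔ (two G x y ⊓ Subgroup.centralizer {a}) := by
  intro g hg
  obtain ⟨d, hd, hde⟩ : g * a * g⁻¹ ∈ cls (pairCore G x y) a :=
    (h.cls_pairCore_memAt hxy ha).symm ▸ h.conj_mem_memAt_two hg ha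
  rw [show g = d * (d⁻¹ * g) by group]
  refine Subgroup.mul_mem_sup hd ⟨(two G x y).mul_mem ((two G x y).inv_mem (pairCore_le x y hd)) hg,
    Subgroup.mem_centralizer_singleton_iff.2 ?_⟩
  calc d⁻¹ * g * a = d⁻¹ * (g * a * g⁻¹) * g := by group
    _ = a * (d⁻¹ * g) := by rw [← hde]; group

/-- A member's centraliser in the stabiliser of a pair it interchanges is its centraliser in the
stabiliser of one of them and its centre. -/
theorem two_inf_centralizer_eq {c x : Ω} {t : G} (ht : t ∈ memAt Z c) :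
    two G c x ⊓ Subgroup.centralizer {t} = two G x (t • x) ⊓ Subgroup.centralizer {t} := by
  ext g
  simp only [Subgroup.mem_inf, mem_two_iff, Subgroup.mem_centralizer_singleton_iff]
  constructor
  · rintro ⟨⟨-, hgx⟩, hg⟩
    exact ⟨⟨hgx, by rw [smul_smul, hg, mul_smul, hgx]⟩, hg⟩
  · rintro ⟨⟨hgx, -⟩, hg⟩
    exact ⟨⟨h.fix_of_commute ht hg, hgx⟩, hg⟩

theorem swapMem_of_memAt {c x : Ω} {t : G} (hxc : x ≠ c) (ht : t ∈ memAt Z c) :
    x ≠ t • x ∧ t ∈ swapMem Z x (t • x) :=
  ⟨fun e => hxc (h.unique t ht.1 _ _ e.symm ht.2), ht.1, rfl⟩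

theorem card_two_swap [Finite G] [Finite Ω] {c x : Ω} (hxc : x ≠ c) {t : G} (ht : t ∈ memAt Z c) :
    Nat.card (two G c x) = Nat.card (two G x (t • x)) := by
  obtain ⟨hx, hsw⟩ := h.swapMem_of_memAt hxc ht
  rw [← ncard_cls_mul (two G c x) t, ← ncard_cls_mul (two G x (t • x)) t,
    h.cls_two_memAt hxc.symm ht, h.cls_two_swap hx hsw, h.ncard_swapMem hx, h.ncard_memAt_eq c x,
    h.two_inf_centralizer_eq ht]

theorem pairCore_inf_centralizer_swap [Finite G] {x y : Ω} (hxy : x ≠ y) {s : G}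
    (hs : s ∈ swapMem Z x y) :
    pairCore G x y ⊓ Subgroup.centralizer {s} =
      oPrime 2 (two G x y ⊓ Subgroup.centralizer {s}) := by
  rw [oPrime_two_eq_inf inf_le_left (h.two_le_sup_swap hxy hs)]
  exact le_antisymm (le_inf inf_le_left (inf_le_inf_right _ (pairCore_le x y)))
    (le_inf inf_le_left (inf_le_right.trans inf_le_right))

theorem pairCore_inf_centralizer_memAt [Finite G] [Finite Ω] {x y : Ω} (hxy : x ≠ y) {a : G}
    (ha : a ∈ memAt Z x) :
    pairCore G x y ⊓ Subgroup.centralizer {a} =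
      oPrime 2 (two G x y ⊓ Subgroup.centralizer {a}) := by
  rw [oPrime_two_eq_inf inf_le_left (h.two_le_sup_memAt hxy ha)]
  exact le_antisymm (le_inf inf_le_left (inf_le_inf_right _ (pairCore_le x y)))
    (le_inf inf_le_left (inf_le_right.trans inf_le_right))

theorem card_pairCore_swap [Finite G] [Finite Ω] {c x : Ω} (hxc : x ≠ c) {t : G}
    (ht : t ∈ memAt Z c) : Nat.card (pairCore G c x) = Nat.card (pairCore G x (t • x)) := by
  obtain ⟨hx, hsw⟩ := h.swapMem_of_memAt hxc ht
  rw [← ncard_cls_mul (pairCore G c x) t, ← ncard_cls_mul (pairCore G x (t • x)) t,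
    h.cls_pairCore_memAt hxc.symm ht, h.cls_pairCore_swap hx hsw, h.ncard_swapMem hx,
    h.ncard_memAt_eq c x, h.pairCore_inf_centralizer_memAt hxc.symm ht,
    h.pairCore_inf_centralizer_swap hx hsw, h.two_inf_centralizer_eq ht]

/-- The stabiliser of a pair and the centre of one of its swappers meets the odd cores of both
pairs in its own odd core, and covers the stabiliser of either pair modulo them. -/
theorem triple_core [Finite G] [Finite Ω] {a b e : Ω} (hab : a ≠ b) {r : G}
    (hr : r ∈ swapMem Z a b) (he : r • e = e) :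
    two G a b ≤ pairCore G a b ⊔ (two G a b ⊓ stabilizer G e) ∧
      two G a e ≤ pairCore G a e ⊔ (two G a b ⊓ stabilizer G e) ∧
      pairCore G a b ⊓ stabilizer G e = oPrime 2 (two G a b ⊓ stabilizer G e) ∧
      pairCore G a e ⊓ stabilizer G b = oPrime 2 (two G a b ⊓ stabilizer G e) := by
  have hae : a ≠ e := (h.swap_ne_centre hab hr he).1
  have hT : two G a b ⊓ stabilizer G e = two G a e ⊓ stabilizer G b := inf_right_comm _ _ _
  have hr' : r ∈ memAt Z e := ⟨hr.1, he⟩
  have hC : two G a b ⊓ Subgroup.centralizer {r} ≤ two G a b ⊓ stabilizer G e := fun g hg =>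
    ⟨hg.1, h.fix_of_commute hr' (Subgroup.mem_centralizer_singleton_iff.1 hg.2)⟩
  have h1 : two G a b ≤ pairCore G a b ⊔ (two G a b ⊓ stabilizer G e) :=
    (h.two_le_sup_swap hab hr).trans (sup_le_sup_left hC _)
  have h2 : two G a e ≤ pairCore G a e ⊔ (two G a b ⊓ stabilizer G e) := by
    have h3 := h.two_le_sup_memAt hae.symm hr'
    rw [two_comm e a, pairCore_comm e a] at h3
    refine h3.trans (sup_le_sup_left ?_ _)
    refine le_trans (le_of_eq ?_) hC
    have h4 := h.two_inf_centralizer_eq (x := a) hr'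
    rwa [two_comm e a, hr.2] at h4
  refine ⟨h1, h2, ?_, ?_⟩
  · rw [oPrime_two_eq_inf inf_le_left h1]
    exact le_antisymm (le_inf inf_le_left (inf_le_inf_right _ (pairCore_le a b)))
      (le_inf inf_le_left (inf_le_right.trans inf_le_right))
  · have h5 : two G a b ⊓ stabilizer G e ≤ two G a e := hT.le.trans inf_le_left
    rw [oPrime_two_eq_inf h5 h2, hT]
    exact le_antisymm (le_inf inf_le_left (inf_le_inf_right _ (pairCore_le a e)))
      (le_inf inf_le_left (inf_le_right.trans inf_le_right))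

/-- A Sylow subgroup of odd prime order of the stabiliser of two points and the odd core generate
an odd group normalised by every swapper. -/
theorem odd_sup_pairCore [Finite G] {q : ℕ} [hq : Fact q.Prime] (hq2 : q ≠ 2) {x y : Ω}
    (hxy : x ≠ y) {W : Subgroup G} (hW : W ≤ two G x y) (hWq : IsPGroup q W) {s : G}
    (hs : s ∈ swapMem Z x y) :
    Odd (Nat.card (pairCore G x y ⊔ W : Subgroup G)) ∧
      s ∈ Subgroup.normalizer ((pairCore G x y ⊔ W : Subgroup G) : Set G) := by
  refine ⟨?_, Coprime.mem_normalizer_of_forall_conj fun g hg => ?_⟩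
  · obtain ⟨k, hk⟩ := hWq.exists_card_eq
    refine ((odd_pairCore x y).mul ?_).of_dvd_nat
      (card_sup_dvd_of_normalizes (hW.trans (two_le_normalizer_pairCore x y)))
    rw [hk]
    exact (hq.out.odd_of_ne_two hq2).pow
  · have hle : pairCore G x y ⊔ W ≤ two G x y := sup_le (pairCore_le x y) hW
    have hgD := hle hg
    have h1 := h.commutator_mem_pairCore hxy hs (inv_mem hgD)
    rw [inv_inv] at h1
    rw [show s * g * s⁻¹ = g * (g⁻¹ * s * g * s⁻¹) by group]
    exact mul_mem hg (Subgroup.mem_sup_left h1)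

/-- An invariant `q`-group of the stabiliser of two points lies in an invariant Sylow subgroup. -/
theorem exists_invariant_sylow_two [Finite G] {q : ℕ} [hq : Fact q.Prime] (hq2 : q ≠ 2) {x y : Ω}
    (hxy : x ≠ y) {s : G} (hs : s ∈ swapMem Z x y) {U : Subgroup G} (hU : U ≤ two G x y)
    (hUq : IsPGroup q U) (hUn : s ∈ Subgroup.normalizer (U : Set G)) :
    ∃ W, SylowOf q W (two G x y) ∧ U ≤ W ∧ s ∈ Subgroup.normalizer (W : Set G) := by
  obtain ⟨W₀, hW₀, hUW₀⟩ := exists_sylowOf_ge hU hUq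
  obtain ⟨hodd, hn⟩ := h.odd_sup_pairCore hq2 hxy hW₀.1 hW₀.2.1 hs
  have hle : pairCore G x y ⊔ W₀ ≤ two G x y := sup_le (pairCore_le x y) hW₀.1
  obtain ⟨W, hW, hUW, hWn⟩ := exists_invariant_sylowOf_ge hodd (h.invol s hs.1) hn
    (hUW₀.trans le_sup_right) hUq hUn
  refine ⟨W, sylowOf_of_card (hW.1.trans hle) hW.2.1 ?_, hUW, hWn⟩
  rw [← card_sylowOf hW₀, card_sylowOf hW]
  have h0 := (hW₀.mono hle le_sup_right)
  rw [← card_sylowOf h0]

/-- Every Sylow subgroup of the stabiliser of two points is normalised by a swapper. -/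
theorem exists_swap_normalizes_sylow [Finite G] [Finite Ω] {q : ℕ} [hq : Fact q.Prime]
    (hq2 : q ≠ 2) {x y : Ω} (hxy : x ≠ y) {W : Subgroup G} (hW : SylowOf q W (two G x y)) :
    ∃ s ∈ swapMem Z x y, s ∈ Subgroup.normalizer (W : Set G) := by
  obtain ⟨s, hs, -⟩ := h.exists_swap_centralized (T := (⊥ : Subgroup G)) IsPGroup.of_bot hxy
    (fun g hg => by simp [Subgroup.mem_bot.1 hg])
  obtain ⟨hodd, hn⟩ := h.odd_sup_pairCore hq2 hxy hW.1 hW.2.1 hs
  have hle : pairCore G x y ⊔ W ≤ two G x y := sup_le (pairCore_le x y) hW.1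
  obtain ⟨d, hd, hdn⟩ := exists_conj_normalizes hodd (h.invol s hs.1) hn (hW.mono hle le_sup_right)
  exact ⟨d * s * d⁻¹, h.conj_mem_swapMem_two (hle hd) hs, hdn⟩

/-- The orbit of a swapper under an invariant Sylow subgroup is the `q`-part of the number of
members at a point. -/
theorem ncard_cls_invariant_sylow [Finite G] [Finite Ω] {q : ℕ} [hq : Fact q.Prime] (hq2 : q ≠ 2)
    {x y : Ω} (hxy : x ≠ y) {s : G} (hs : s ∈ swapMem Z x y) {W : Subgroup G}
    (hW : SylowOf q W (two G x y)) (hWn : s ∈ Subgroup.normalizer (W : Set G)) (c : Ω) :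
    (cls W s).ncard = q ^ (memAt Z c).ncard.factorization q := by
  obtain ⟨hodd, hn⟩ := h.odd_sup_pairCore hq2 hxy hW.1 hW.2.1 hs
  have hle : pairCore G x y ⊔ W ≤ two G x y := sup_le (pairCore_le x y) hW.1
  have hcls : cls (pairCore G x y ⊔ W) s = swapMem Z x y :=
    Set.Subset.antisymm ((cls_mono hle s).trans (h.cls_two_swap hxy hs).subset)
      ((h.cls_pairCore_swap hxy hs).symm.subset.trans (cls_mono le_sup_left s))
  rw [ncard_cls_sylowOf hodd (h.invol s hs.1) hn (hW.mono hle le_sup_right) hWn, hcls,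
    h.ncard_swapMem hxy, h.ncard_memAt_eq x c]

theorem qpart_eq (a b : Ω) (q : ℕ) : qpart Z a q = qpart Z b q := by
  rw [qpart, qpart, h.ncard_memAt_eq a b]

theorem ne_two_of_dvd [Finite G] {q : ℕ} {c : Ω} (hdvd : q ∣ (memAt Z c).ncard) : q ≠ 2 := by
  rintro rfl
  exact Nat.not_even_iff_odd.2 (h.odd_ncard_memAt c) (even_iff_two_dvd.2 hdvd)

theorem one_lt_qpart [Finite G] {q : ℕ} [hq : Fact q.Prime] {c : Ω}
    (hdvd : q ∣ (memAt Z c).ncard) : 1 < qpart Z c q := by
  refine Nat.one_lt_pow (fun e => ?_) hq.out.one_lt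
  have hne : (memAt Z c).ncard ≠ 0 :=
    (Set.ncard_pos (Set.toFinite _)).2 (h.exists_memAt c) |>.ne'
  have := (hq.out.dvd_iff_one_le_factorization hne).1 hdvd
  omega

/-- An invariant subgroup of the odd core lies in an invariant Sylow subgroup of it. -/
theorem exists_invariant_sylow_core [Finite G] {q : ℕ} [Fact q.Prime] {x y : Ω} {s : G}
    (hs : s ∈ swapMem Z x y) {U : Subgroup G} (hU : U ≤ pairCore G x y) (hUq : IsPGroup q U)
    (hUn : s ∈ Subgroup.normalizer (U : Set G)) :
    ∃ W, SylowOf q W (pairCore G x y) ∧ U ≤ W ∧ s ∈ Subgroup.normalizer (W : Set G) :=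
  exists_invariant_sylowOf_ge (odd_pairCore x y) (h.invol s hs.1) (h.swap_normalizes_pairCore hs) hU
    hUq hUn

/-- Every Sylow subgroup of the odd core is normalised by a swapper. -/
theorem exists_swap_normalizes_core [Finite G] [Finite Ω] {q : ℕ} [Fact q.Prime] {x y : Ω}
    (hxy : x ≠ y) {W : Subgroup G} (hW : SylowOf q W (pairCore G x y)) :
    ∃ s ∈ swapMem Z x y, s ∈ Subgroup.normalizer (W : Set G) := by
  obtain ⟨s, hs, -⟩ := h.exists_swap_centralized (T := (⊥ : Subgroup G)) IsPGroup.of_bot hxy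
    (fun g hg => by simp [Subgroup.mem_bot.1 hg])
  obtain ⟨d, hd, hdn⟩ := exists_conj_normalizes (odd_pairCore x y) (h.invol s hs.1)
    (h.swap_normalizes_pairCore hs) hW
  exact ⟨d * s * d⁻¹, h.conj_mem_swapMem_two (pairCore_le x y hd) hs, hdn⟩

theorem qpart_eq_cls [Finite G] [Finite Ω] {q : ℕ} [Fact q.Prime] {x y : Ω} (hxy : x ≠ y) {r : G}
    (hr : r ∈ swapMem Z x y) {W : Subgroup G} (hW : SylowOf q W (pairCore G x y))
    (hWn : r ∈ Subgroup.normalizer (W : Set G)) (c : Ω) : (cls W r).ncard = qpart Z c q := by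
  rw [ncard_cls_sylowOf (odd_pairCore x y) (h.invol r hr.1) (h.swap_normalizes_pairCore hr) hW hWn,
    h.cls_pairCore_swap hxy hr, h.ncard_swapMem hxy, h.ncard_memAt_eq x c]
  rfl

theorem qpart_le_cls [Finite G] [Finite Ω] {q : ℕ} [Fact q.Prime] {x y : Ω} (hxy : x ≠ y)
    {W : Subgroup G} (hW : SylowOf q W (pairCore G x y)) {s : G} (hs : s ∈ memAt Z x) :
    qpart Z x q ≤ (cls W s).ncard := by
  have h1 := le_ncard_cls hW s
  rwa [h.cls_pairCore_memAt hxy hs] at h1

/-- A Sylow subgroup of the stabiliser of two points also has an orbit of at least the `q`-part. -/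
theorem qpart_le_cls_two [Finite G] [Finite Ω] {q : ℕ} [Fact q.Prime] {x y : Ω} (hxy : x ≠ y)
    {W : Subgroup G} (hW : SylowOf q W (two G x y)) {s : G} (hs : s ∈ memAt Z x) :
    qpart Z x q ≤ (cls W s).ncard := by
  have h1 := le_ncard_cls hW s
  rwa [h.cls_two_memAt hxy hs] at h1

/-- A big invariant `q`-subgroup of the odd core fixing the centre of a swapper. -/
theorem exists_sylow_of_big [Finite G] [Finite Ω] {q : ℕ} [Fact q.Prime] {x y c : Ω} (hxy : x ≠ y)
    {r : G} (hr : r ∈ swapMem Z x y) (hc : r • c = c) {S : Subgroup G} (hS : S ≤ pairCore G x y)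
    (hSq : IsPGroup q S) (hSn : r ∈ Subgroup.normalizer (S : Set G))
    (hbig : qpart Z c q ≤ (cls S r).ncard) :
    ∃ W, SylowOf q W (pairCore G x y) ∧ S ≤ W ∧ r ∈ Subgroup.normalizer (W : Set G) ∧
      (∀ w ∈ W, ∃ s ∈ S, ∃ d ∈ W, Commute d r ∧ w = s * d) ∧
      (c ∈ BenderTrans.fixSet Ω S → c ∈ BenderTrans.fixSet Ω W) := by
  obtain ⟨W, hW, hSW, hWn⟩ := h.exists_invariant_sylow_core hr hS hSq hSn
  have hd : ∀ w ∈ W, ∃ s ∈ S, ∃ d ∈ W, Commute d r ∧ w = s * d := fun w hw =>
    exists_mul_of_cls hSW ((h.qpart_eq_cls hxy hr hW hWn c).trans_le hbig) hw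
  refine ⟨W, hW, hSW, hWn, hd, fun hcS w hw => ?_⟩
  obtain ⟨s, hs, d, -, hdr, rfl⟩ := hd w hw
  rw [mul_smul, h.fix_of_commute ⟨hr.1, hc⟩ hdr, hcS s hs]

/-- The stabiliser of a pair and the centre of a swapper meets both odd cores in one subgroup. -/
theorem pairCore_inf_stabilizer_eq [Finite G] [Finite Ω] {a b e : Ω} (hab : a ≠ b) {r : G}
    (hr : r ∈ swapMem Z a b) (he : r • e = e) :
    pairCore G a b ⊓ stabilizer G e = pairCore G a e ⊓ stabilizer G b :=
  (h.triple_core hab hr he).2.2.1.trans (h.triple_core hab hr he).2.2.2.symm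

theorem card_pairCore_centre [Finite G] [Finite Ω] {a b e : Ω} (hab : a ≠ b) {r : G}
    (hr : r ∈ swapMem Z a b) (he : r • e = e) :
    Nat.card (pairCore G a e) = Nat.card (pairCore G a b) := by
  have h1 := h.card_pairCore_swap (h.swap_ne_centre hab hr he).1 ⟨hr.1, he⟩
  rwa [hr.2, pairCore_comm e a] at h1

theorem card_two_centre [Finite G] [Finite Ω] {a b e : Ω} (hab : a ≠ b) {r : G}
    (hr : r ∈ swapMem Z a b) (he : r • e = e) :
    Nat.card (two G a e) = Nat.card (two G a b) := by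
  have h1 := h.card_two_swap (h.swap_ne_centre hab hr he).1 ⟨hr.1, he⟩
  rwa [hr.2, two_comm e a] at h1

/-- A Sylow subgroup of the odd core of a pair fixing the centre of a swapper is one of the odd
core of a point of the pair and that centre. -/
theorem sylowOf_pairCore_centre [Finite G] [Finite Ω] {q : ℕ} [Fact q.Prime] {a b e : Ω}
    (hab : a ≠ b) {r : G} (hr : r ∈ swapMem Z a b) (he : r • e = e) {W : Subgroup G}
    (hW : SylowOf q W (pairCore G a b)) (hWe : e ∈ BenderTrans.fixSet Ω W) :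
    SylowOf q W (pairCore G a e) := by
  refine sylowOf_of_card (fun g hg => ?_) hW.2.1 ?_
  · have h1 : g ∈ pairCore G a b ⊓ stabilizer G e := ⟨hW.1 hg, hWe g hg⟩
    rw [h.pairCore_inf_stabilizer_eq hab hr he] at h1
    exact h1.1
  · rw [card_sylowOf hW, h.card_pairCore_centre hab hr he]

theorem sylowOf_two_centre [Finite G] [Finite Ω] {q : ℕ} [Fact q.Prime] {a b e : Ω}
    (hab : a ≠ b) {r : G} (hr : r ∈ swapMem Z a b) (he : r • e = e) {W : Subgroup G}
    (hW : SylowOf q W (two G a b)) (hWe : e ∈ BenderTrans.fixSet Ω W) :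
    SylowOf q W (two G a e) := by
  refine sylowOf_of_card (fun g hg => mem_two_iff.2 ⟨(mem_two_iff.1 (hW.1 hg)).1, hWe g hg⟩)
    hW.2.1 ?_
  rw [card_sylowOf hW, h.card_two_centre hab hr he]

/-- A member normalising a subgroup has its centre in the fixed set iff that set is odd. -/
theorem odd_fixSet_iff [Finite Ω] {S : Subgroup G} {t : G} {c : Ω} (ht : t ∈ memAt Z c)
    (hn : t ∈ Subgroup.normalizer (S : Set G)) :
    Odd (BenderTrans.fixSet Ω S).ncard ↔ c ∈ BenderTrans.fixSet Ω S := by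
  classical
  have := Fintype.ofFinite Ω
  have ht2 := h.invol t ht.1
  let σ : Function.End (BenderTrans.fixSet Ω S) := fun x =>
    ⟨t • x.1, BenderTrans.smul_mem_fixSet hn x.2⟩
  have hσ : σ ^ 2 ^ 1 = 1 := by
    rw [pow_one, pow_two]
    funext x
    exact Subtype.ext (smul_smul_self ht2 _)
  have hfix : ∀ x : BenderTrans.fixSet Ω S, x ∈ Function.fixedPoints σ ↔ x.1 = c :=
    fun x => ⟨fun hx => h.unique t ht.1 _ _ (congrArg Subtype.val hx) ht.2,
      fun hx => Subtype.ext (by show t • x.1 = x.1; rw [hx, ht.2])⟩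
  have : Fact (Nat.Prime 2) := ⟨Nat.prime_two⟩
  have hmod : (BenderTrans.fixSet Ω S).ncard ≡ Nat.card (Function.fixedPoints σ) [MOD 2] := by
    rw [← Nat.card_coe_set_eq, Nat.card_eq_fintype_card, Nat.card_eq_fintype_card]
    exact Equiv.Perm.card_fixedPoints_modEq hσ
  by_cases hc : c ∈ BenderTrans.fixSet Ω S
  · refine iff_of_true ?_ hc
    have h1 : Nat.card (Function.fixedPoints σ) = 1 := by
      rw [Nat.card_eq_one_iff_exists]
      exact ⟨⟨⟨c, hc⟩, (hfix _).2 rfl⟩,
        fun y => Subtype.ext (Subtype.ext ((hfix y.1).1 y.2))⟩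
    rw [h1] at hmod
    exact Nat.odd_iff.2 hmod
  · refine iff_of_false ?_ hc
    have h1 : Nat.card (Function.fixedPoints σ) = 0 := by
      have : IsEmpty (Function.fixedPoints σ) :=
        ⟨fun y => hc ((hfix y.1).1 y.2 ▸ y.1.2)⟩
      exact Nat.card_of_isEmpty
    rw [h1] at hmod
    rw [Nat.odd_iff]
    have := hmod
    unfold Nat.ModEq at this
    omega

end Setting

end CfsgLib.StrongCrit
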