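import Cfsg.Agent.Lib.StrongCrit.W1.Pure
import Cfsg.Agent.Lib.StrongCrit.W1.Pair
import Cfsg.Agent.Lib.BenderTrans.Config

/-!
What the transitivity theorem for the sections of pure subgroups says about members: commutators of
members with invariant Sylow subgroups fixing a centre, and with odd normal subgroups of a point
stabiliser, act trivially on the centres.
-/

set_option autoImplicit false

namespace CfsgLib.StrongCrit.W1

open CfsgLib.Involutions CfsgLib.BenderTrans CfsgLib.OddOrder MulAction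

universe u

variable {G : Type u} [Group G] {Ω : Type u} [MulAction G Ω] {Z : Set G}

namespace IsPure

variable {M : Subgroup G} (hp : IsPure Ω Z M) (h : Setting Ω Z)
include hp h

/-- A pure subgroup normalised by the stabiliser of two points meets it in the odd core. -/
theorem inf_two_le_pairCore [Finite G] {a b : Ω} (hab : a ≠ b)
    (hn : two G a b ≤ Subgroup.normalizer (M : Set G)) :
    M ⊓ two G a b ≤ pairCore G a b :=
  le_oPrime (p := 2) inf_le_right
    (fun g hg => Coprime.mem_normalizer_of_forall_conj fun x hx =>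
      ⟨Coprime.mem_normalizer_conj (hn hg) hx.1,
        (two G a b).mul_mem ((two G a b).mul_mem hg hx.2) ((two G a b).inv_mem hg)⟩)
    (Nat.coprime_two_right.2 (hp.odd_two h hab))

/-- An invariant Sylow subgroup inside fixing the centre acts trivially modulo the kernel. -/
theorem commute_mod_of_fixed_inf [Finite G] [Finite Ω] {q : ℕ} [hq : Fact q.Prime] {a b e : Ω}
    (ha : a ∈ centres Ω M) (hb : b ∈ centres Ω M) (hab : a ≠ b) {r : G} (hrM : r ∈ M)
    (hr : r ∈ swapMem Z a b) (hre : r • e = e) {W : Subgroup G}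
    (hW : SylowOf q W (M ⊓ two G a b)) (hWn : r ∈ Subgroup.normalizer (W : Set G))
    (hWe : e ∈ BenderTrans.fixSet Ω W) :
    ∀ y ∈ W, ∀ x ∈ centres Ω M, (y * r * y⁻¹ * r) • x = x := by
  have h' := hp.oneFix_sect h
  have hC := hp.concl_sect h
  have hr2 : r ∈ swaps G a b := ⟨h.invol r hr.1, hr.2⟩
  let a' : centres Ω M := ⟨a, ha⟩
  let b' : centres Ω M := ⟨b, hb⟩
  let e' : centres Ω M := ⟨e, mem_centres hrM ⟨hr2.1, hre⟩⟩
  have hab' : a' ≠ b' := fun x => hab (congrArg Subtype.val x)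
  have hW' : SylowOf q ((W.subgroupOf M).map (sect Ω M)) (two (Sect Ω M) a' b') :=
    OneFix.sylowOf_sect a' b' hW
  have hn' := OneFix.sect_mem_normalizer (Ω := Ω) hrM hWn
  have hr' : sect Ω M ⟨r, hrM⟩ ∈ swaps (Sect Ω M) a' b' := hp.sect_mem_swaps h hrM hr2
  have hre' : sect Ω M ⟨r, hrM⟩ • e' = e' := Subtype.ext hre
  have hWe' : e' ∈ BenderTrans.fixSet (centres Ω M) ((W.subgroupOf M).map (sect Ω M)) := by
    rintro _ ⟨w, hw, rfl⟩
    exact Subtype.ext (hWe _ hw)
  have hndvd : ¬ q ∣ (invAt (Sect Ω M) e').ncard := fun hd => by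
    have h1 := hC.good e' q hq.out hd a' b' hab' _ hW'
    exact Nat.not_even_iff_odd.2 ((h'.odd_fixSet_iff ⟨hr'.1, hre'⟩ hn').2 hWe') h1
  have hcard := h'.qpart_eq_cls hab' hr' hW' hn' e'
  rw [BenderTrans.qpart, Nat.factorization_eq_zero_of_not_dvd hndvd, pow_zero,
    Set.ncard_eq_one] at hcard
  obtain ⟨z, hz⟩ := hcard
  intro y hy x hx
  have hyM : y ∈ M := (hW.1 hy).1
  have h1 : sect Ω M ⟨r, hrM⟩ ∈ cls ((W.subgroupOf M).map (sect Ω M)) (sect Ω M ⟨r, hrM⟩) :=
    ⟨1, one_mem _, by simp⟩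
  have h2 : sect Ω M ⟨y, hyM⟩ * sect Ω M ⟨r, hrM⟩ * (sect Ω M ⟨y, hyM⟩)⁻¹ ∈
      cls ((W.subgroupOf M).map (sect Ω M)) (sect Ω M ⟨r, hrM⟩) :=
    ⟨_, ⟨⟨y, hyM⟩, hy, rfl⟩, rfl⟩
  rw [hz, Set.mem_singleton_iff] at h1 h2
  have h3 : sect Ω M (⟨y, hyM⟩ * ⟨r, hrM⟩ * ⟨y, hyM⟩⁻¹ * ⟨r, hrM⟩) = 1 := by
    rw [map_mul, map_mul, map_mul, map_inv, h2, ← h1, mul_self_eq_one hr'.1]
  exact sect_eq_one_iff.1 h3 x hx

/-- An invariant Sylow subgroup normalising `M` and fixing the centre: its commutators with the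
member act trivially on the centres. It need not lie in `M`. -/
theorem commute_mod_of_fixed [Finite G] [Finite Ω] {q : ℕ} [hq : Fact q.Prime] {a b e : Ω}
    (ha : a ∈ centres Ω M) (hb : b ∈ centres Ω M) (hab : a ≠ b) {r : G} (hrM : r ∈ M)
    (hr : r ∈ swapMem Z a b) (hre : r • e = e) {D W : Subgroup G} (hW : SylowOf q W D)
    (hMD : M ⊓ two G a b ≤ D) (hD : D ≤ two G a b)
    (hDn : D ≤ Subgroup.normalizer (M : Set G)) (hWn : r ∈ Subgroup.normalizer (W : Set G))
    (hWe : e ∈ BenderTrans.fixSet Ω W) :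
    ∀ y ∈ W, ∀ x ∈ centres Ω M, (y * r * y⁻¹ * r) • x = x := by
  have hr2 := h.invol r hr.1
  have hW' : SylowOf q (W ⊓ M) (M ⊓ two G a b) := by
    have h1 : W ⊓ (M ⊓ two G a b) = W ⊓ M :=
      le_antisymm (inf_le_inf_left _ inf_le_left)
        (le_inf inf_le_left (le_inf inf_le_right (inf_le_left.trans (hW.1.trans hD))))
    rw [← h1]
    refine sylowOf_inf_normal hW hMD fun g hg => Coprime.mem_normalizer_of_forall_conj fun x hx => ?_
    exact ⟨Coprime.mem_normalizer_conj (hDn hg) hx.1,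
      (two G a b).mul_mem ((two G a b).mul_mem (hD hg) hx.2) ((two G a b).inv_mem (hD hg))⟩
  have hn' : r ∈ Subgroup.normalizer ((W ⊓ M : Subgroup G) : Set G) :=
    Coprime.mem_normalizer_of_forall_conj fun x hx =>
      ⟨Coprime.mem_normalizer_conj hWn hx.1, M.mul_mem (M.mul_mem hrM hx.2) (M.inv_mem hrM)⟩
  intro y hy x hx
  set j := y * r * y⁻¹ * r with hj
  have hjM : j ∈ M := M.mul_mem (Coprime.mem_normalizer_conj (hDn (hW.1 hy)) hrM) hrM
  have hjW : j ∈ W := by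
    rw [hj, show y * r * y⁻¹ * r = y * (r * y⁻¹ * r) by group]
    refine W.mul_mem hy ?_
    have h1 := Coprime.mem_normalizer_conj hWn (W.inv_mem hy)
    rwa [inv_eq_self_of_involution hr2] at h1
  have hodd : Odd (orderOf j) :=
    (hp.odd_two h hab).of_dvd_nat
      (Subgroup.orderOf_dvd_natCard _ ⟨hjM, hD (hW.1 hjW)⟩)
  -- `r` inverts `j`, so its commutator with `j` is a square
  have hjj : j * r * j⁻¹ * r = j * j := by
    have e1 : j⁻¹ = r * y * r * y⁻¹ := by
      rw [hj, mul_inv_rev, mul_inv_rev, mul_inv_rev, inv_inv, inv_eq_self_of_involution hr2]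
      group
    rw [e1]
    calc j * r * (r * y * r * y⁻¹) * r = j * (r * r) * (y * r * y⁻¹ * r) := by group
      _ = j * j := by rw [mul_self_eq_one hr2, mul_one, ← hj]
  have h1 := hp.commute_mod_of_fixed_inf h ha hb hab hrM hr hre hW' hn'
    (fun g hg => hWe g hg.1) j ⟨hjW, hjM⟩ x hx
  rw [hjj, mul_smul] at h1
  exact smul_of_commute_fix hodd h1

/-- The version for the Sylow subgroups of the odd core. -/
theorem commute_mod_of_fixed_pairCore [Finite G] [Finite Ω] {q : ℕ} [hq : Fact q.Prime]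
    {a b e : Ω} (ha : a ∈ centres Ω M) (hb : b ∈ centres Ω M) (hab : a ≠ b)
    (hn : two G a b ≤ Subgroup.normalizer (M : Set G)) {r : G} (hrM : r ∈ M)
    (hr : r ∈ swapMem Z a b) (hre : r • e = e) {W : Subgroup G}
    (hW : SylowOf q W (pairCore G a b)) (hWn : r ∈ Subgroup.normalizer (W : Set G))
    (hWe : e ∈ BenderTrans.fixSet Ω W) :
    ∀ y ∈ W, ∀ x ∈ centres Ω M, (y * r * y⁻¹ * r) • x = x :=
  hp.commute_mod_of_fixed h ha hb hab hrM hr hre hW (hp.inf_two_le_pairCore h hab hn)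
    (pairCore_le a b) ((pairCore_le a b).trans hn) hWn hWe

/-- An odd normal subgroup of a point stabiliser in `M` centralises members modulo the kernel. -/
theorem core_mod [Finite G] [Finite Ω] {c : Ω} {u : G} (huM : u ∈ M) (hu : u ∈ memAt Z c)
    {N : Subgroup G} (hN : N ≤ M ⊓ stabilizer G c)
    (hNn : M ⊓ stabilizer G c ≤ Subgroup.normalizer (N : Set G)) (hodd : Odd (Nat.card N)) :
    ∀ g ∈ N, ∀ x ∈ centres Ω M, (g * u * g⁻¹ * u) • x = x := by
  have hC := hp.concl_sect h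
  have hu2 : u ∈ invAt G c := ⟨h.invol u hu.1, hu.2⟩
  let c' : centres Ω M := ⟨c, mem_centres huM hu2⟩
  have hu' : sect Ω M ⟨u, huM⟩ ∈ invAt (Sect Ω M) c' := hp.sect_mem_invAt h huM hu2
  have hodd' : Odd (Nat.card ((N.subgroupOf M).map (sect Ω M))) := by
    refine hodd.of_dvd_nat ?_
    rw [← Nat.card_congr (Subgroup.subgroupOfEquivOfLe (hN.trans inf_le_left)).toEquiv]
    exact Subgroup.card_map_dvd _ _
  intro g hg x hx
  have hgM : g ∈ M := (hN hg).1
  have hcom := hC.core c' ((N.subgroupOf M).map (sect Ω M)) ?_ ?_ hodd' _ hu' (sect Ω M ⟨g, hgM⟩)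
    ⟨⟨g, hgM⟩, hg, rfl⟩
  · have h3 : sect Ω M (⟨g, hgM⟩ * ⟨u, huM⟩ * ⟨g, hgM⟩⁻¹ * ⟨u, huM⟩) = 1 := by
      rw [map_mul, map_mul, map_mul, map_inv, hcom.eq, mul_inv_cancel_right,
        mul_self_eq_one hu'.1]
    exact sect_eq_one_iff.1 h3 x hx
  · rintro _ ⟨n, hn, rfl⟩
    exact Subtype.ext (hN hn).2
  · intro s hs
    obtain ⟨m, rfl⟩ := sect_surjective M s
    have hmc : (m : G) • c = c := congrArg Subtype.val hs
    refine Coprime.mem_normalizer_of_forall_conj ?_
    rintro _ ⟨n, hn, rfl⟩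
    have h5 : (m : G) * (n : G) * (m : G)⁻¹ ∈ N := Coprime.mem_normalizer_conj (hNn ⟨m.2, hmc⟩) hn
    exact ⟨m * n * m⁻¹, h5, by simp⟩

/-- The members at a centre of a section divide those of the group if all swappers of a pair lie in
the pure subgroup. -/
theorem ncard_invAt_sect_dvd [Finite G] [Finite Ω] {a c : Ω} (ha : a ∈ centres Ω M) (hca : c ≠ a)
    {u : G} (huM : u ∈ M) (hu : u ∈ memAt Z c) (hsw : swapMem Z a (u • a) ⊆ M) :
    (invAt (Sect Ω M) (⟨c, mem_centres huM ⟨h.invol u hu.1, hu.2⟩⟩ : centres Ω M)).ncard ∣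
      (memAt Z c).ncard := by
  have h' := hp.oneFix_sect h
  set c' : centres Ω M := ⟨c, mem_centres huM ⟨h.invol u hu.1, hu.2⟩⟩
  let a' : centres Ω M := ⟨a, ha⟩
  let b' : centres Ω M := ⟨u • a, smul_mem_centres huM ha⟩
  obtain ⟨hua, hr⟩ := h.swapMem_of_memAt hca.symm hu
  have hab' : a' ≠ b' := fun x => hua (congrArg Subtype.val x)
  have hr' : sect Ω M ⟨u, huM⟩ ∈ swaps (Sect Ω M) a' b' :=
    hp.sect_mem_swaps h huM ⟨h.invol u hr.1, hr.2⟩
  have h1 := ncard_cls_map_dvd (sect Ω M) ((two G a (u • a)).subgroupOf M) ⟨u, huM⟩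
  rw [← OneFix.two_sect a' b', h'.cls_two_swaps hab' hr', h'.ncard_swaps hab',
    h'.ncard_invAt_eq a' c'] at h1
  refine h1.trans (dvd_of_eq ?_)
  rw [← h.ncard_memAt_eq a c, ← h.ncard_swapMem hua]
  refine Set.ncard_congr (fun x _ => (x : G)) ?_ (fun x y _ _ e => Subtype.ext e) ?_
  · rintro x ⟨d, hd, rfl⟩
    exact h.conj_mem_swapMem_two (show (d : G) ∈ two G a (u • a) from hd) hr
  · intro x hx
    obtain ⟨d, hd, hinv, hde⟩ := h.exists_conj_swap hua hr hx
    have hdd : d * d = x * u := by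
      have h2 : u * d⁻¹ = d * u := by
        rw [← hinv]
        calc u * (u * d * u⁻¹) = u * u * d * u⁻¹ := by group
          _ = d * u := by
            rw [mul_self_eq_one (h.invol u hu.1), one_mul,
              inv_eq_self_of_involution (h.invol u hu.1)]
      calc d * d = d * (d * u) * u := by
            rw [mul_assoc, mul_assoc d u, mul_self_eq_one (h.invol u hu.1), mul_one]
        _ = x * u := by rw [← h2, ← mul_assoc, hde]
    have hdM : d ∈ M := by
      obtain ⟨k, hk⟩ := RankOneInvol.exists_pow_sq_eq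
        ((odd_pairCore a (u • a)).of_dvd_nat (Subgroup.orderOf_dvd_natCard _ hd))
      rw [← hk, ← (Commute.refl d).mul_pow, hdd]
      exact pow_mem (M.mul_mem (hsw hx) huM) k
    exact ⟨⟨x, hsw hx⟩, ⟨⟨d, hdM⟩, (pairCore_le a (u • a) hd : d ∈ two G a (u • a)), Subtype.ext hde⟩, rfl⟩

/-- A prime for which the invariant Sylow subgroup of a pair in `M` moves the centre. -/
theorem exists_prime_moving [Finite G] [Finite Ω] {a c : Ω} (ha : a ∈ centres Ω M) (hca : c ≠ a)
    {u : G} (huM : u ∈ M) (hu : u ∈ memAt Z c) (hsw : swapMem Z a (u • a) ⊆ M) :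
    ∃ p : ℕ, p.Prime ∧ p ∣ (memAt Z c).ncard ∧
      ∀ P : Subgroup G, SylowOf p P (M ⊓ two G a (u • a)) →
        u ∈ Subgroup.normalizer (P : Set G) → c ∉ BenderTrans.fixSet Ω P := by
  have h' := hp.oneFix_sect h
  have hC := hp.concl_sect h
  have hdvd := hp.ncard_invAt_sect_dvd h ha hca huM hu hsw
  set c' : centres Ω M := ⟨c, mem_centres huM ⟨h.invol u hu.1, hu.2⟩⟩
  let a' : centres Ω M := ⟨a, ha⟩
  let b' : centres Ω M := ⟨u • a, smul_mem_centres huM ha⟩
  obtain ⟨hua, hr⟩ := h.swapMem_of_memAt hca.symm hu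
  have hab' : a' ≠ b' := fun x => hua (congrArg Subtype.val x)
  have hr' : sect Ω M ⟨u, huM⟩ ∈ swaps (Sect Ω M) a' b' :=
    hp.sect_mem_swaps h huM ⟨h.invol u hr.1, hr.2⟩
  have huc' : sect Ω M ⟨u, huM⟩ • c' = c' := Subtype.ext hu.2
  obtain ⟨s', t', hs', ht', hne', -⟩ := h'.exists_invAt_ne (hp.hasFour_sect h) c'
  have h2 : 1 < (invAt (Sect Ω M) c').ncard :=
    (Set.one_lt_ncard (Set.toFinite _)).2 ⟨s', hs', t', ht', hne'⟩
  set p := (invAt (Sect Ω M) c').ncard.minFac with hpdef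
  have hpp : p.Prime := Nat.minFac_prime (by omega)
  have : Fact p.Prime := ⟨hpp⟩
  refine ⟨p, hpp, (Nat.minFac_dvd _).trans hdvd, fun P hP hPn hPc => ?_⟩
  have hn' := OneFix.sect_mem_normalizer (Ω := Ω) huM hPn
  have hPc' : c' ∈ BenderTrans.fixSet (centres Ω M) ((P.subgroupOf M).map (sect Ω M)) := by
    rintro _ ⟨w, hw, rfl⟩
    exact Subtype.ext (hPc _ hw)
  have h1 := hC.good c' p hpp (Nat.minFac_dvd _) a' b' hab' _ (OneFix.sylowOf_sect a' b' hP)
  exact Nat.not_even_iff_odd.2 ((h'.odd_fixSet_iff ⟨hr'.1, huc'⟩ hn').2 hPc') h1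

end IsPure

end CfsgLib.StrongCrit.W1
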