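import Cfsg.Agent.Lib.StrongCrit.W1.TwoTrans
import Cfsg.Agent.Lib.StrongCrit.W1.Block
import Cfsg.Agent.Lib.StrongCrit.W1.Induct
import Cfsg.Agent.Lib.BenderTrans.StepB

/-!
A prime dividing the number of members at a point with an odd fixed set gives a big invariant
subgroup of that prime in the odd core of the group generated by the members at a point.
-/

set_option autoImplicit false

namespace CfsgLib.StrongCrit

open CfsgLib.Involutions CfsgLib.OddOrder CfsgLib.BenderTrans MulAction W1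

universe u

variable {G : Type u} [Group G] {Ω : Type u} [MulAction G Ω] {Z : Set G}

/-- The group generated by the members with centre `c`. -/
def memGen (Z : Set G) (c : Ω) : Subgroup G := Subgroup.closure (memAt Z c)

/-- A proper subgroup with several centres containing the members at `c`, and a big `q`-subgroup of
the odd core. -/
def BigZ (Z : Set G) (q : ℕ) (c : Ω) (u : G) : Prop :=
  ∃ M : Subgroup G, M ≠ ⊤ ∧ ZMulti Ω Z M ∧ memAt Z c ⊆ M ∧
    ∃ Y : Subgroup G, Y ≤ BenderTrans.coreIn (memGen Z c) ∧ IsPGroup q Y ∧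
      u ∈ Subgroup.normalizer (Y : Set G) ∧ qpart Z c q ≤ (cls Y u).ncard

/-- A pair, a swapper with its centre and an invariant Sylow subgroup of the odd core fixing the
centre such that what centralises its commutator in the odd core fixes the centre. -/
def ConfigZ (Z : Set G) (q : ℕ) (a b : Ω) (r : G) (e : Ω) (W : Subgroup G) : Prop :=
  a ≠ b ∧ r ∈ swapMem Z a b ∧ r • e = e ∧ SylowOf q W (pairCore G a b) ∧
    r ∈ Subgroup.normalizer (W : Set G) ∧ e ∈ BenderTrans.fixSet Ω W ∧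
    pairCore G a b ⊓ Subgroup.centralizer (commSub W r : Set G) ≤ stabilizer G e

namespace Setting

variable (h : Setting Ω Z)
include h

theorem memGen_le_stabilizer (c : Ω) : memGen Z c ≤ stabilizer G c :=
  (Subgroup.closure_le _).2 fun _ ht => ht.2

/-- Members of `M` are conjugate in `M` if they have several centres. -/
theorem exists_conj_zMulti [Finite G] {M : Subgroup G} (hM : ZMulti Ω Z M) {i j : G}
    (hiM : i ∈ M) (hjM : j ∈ M) (hi : i ∈ Z) (hj : j ∈ Z) : ∃ g ∈ M, g * i * g⁻¹ = j := by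
  have key : ∀ {x y : G} {p q : Ω}, x ∈ M → y ∈ M → x ∈ memAt Z p → y ∈ memAt Z q → p ≠ q →
      ∃ g ∈ M, g * x * g⁻¹ = y := fun hxM hyM hx hy hpq => by
    obtain ⟨r, hr, hrs, -⟩ := h.exists_conj_of_ne hx hy hpq
    exact ⟨r, (Subgroup.closure_le M).2 (by rintro _ (rfl | rfl) <;> assumption) hr, hrs⟩
  obtain ⟨x, hx⟩ := h.exists_fix i hi
  obtain ⟨y, hy⟩ := h.exists_fix j hj
  rcases eq_or_ne x y with rfl | hne
  · obtain ⟨a, ha, b, hb, hab⟩ := hM
    obtain ⟨z, ⟨t, htM, ht, htz⟩, hzx⟩ : ∃ z ∈ zCentres Ω Z M, z ≠ x := by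
      by_cases e : a = x
      · exact ⟨b, hb, fun e' => hab (e.trans e'.symm)⟩
      · exact ⟨a, ha, e⟩
    obtain ⟨g, hg, hge⟩ := key hiM htM ⟨hi, hx⟩ ⟨ht, htz⟩ hzx.symm
    obtain ⟨g', hg', hge'⟩ := key htM hjM ⟨ht, htz⟩ ⟨hj, hy⟩ hzx
    refine ⟨g' * g, mul_mem hg' hg, ?_⟩
    rw [← hge', ← hge]
    group
  · exact key hiM hjM ⟨hi, hx⟩ ⟨hj, hy⟩ hne

theorem zFour_of_memAt (hfour : ∀ c : Ω, ∃ s ∈ memAt Z c, ∃ t ∈ memAt Z c, s ≠ t ∧ Commute s t)
    {M : Subgroup G} {c : Ω} (hsub : memAt Z c ⊆ M) : ZFour Z M := by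
  obtain ⟨s, hs, t, ht, hne, hc⟩ := hfour c
  exact ⟨s, hsub hs, t, hsub ht, hs.1, ht.1, hne, hc⟩

/-- A closed family of configurations gives a big subgroup. -/
theorem big_of_family [Finite G] [Finite Ω]
    (hfaith : ∀ g : G, (∀ x : Ω, g • x = x) → g = 1) (hP : PureBelow Ω Z)
    (hfour : ∀ c : Ω, ∃ s ∈ memAt Z c, ∃ t ∈ memAt Z c, s ≠ t ∧ Commute s t)
    {q : ℕ} [hq : Fact q.Prime] (c₀ : Ω) (hdvd : q ∣ (memAt Z c₀).ncard)
    (P : Ω → Ω → G → Ω → Subgroup G → Prop)
    (hcfg : ∀ a b r e W, P a b r e W → ConfigZ Z q a b r e W)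
    (hne : ∃ a b r e W, P a b r e W)
    (hclosed : ∀ a b r e W, P a b r e W → ∃ w f, P a e w f W) :
    ∃ (c : Ω) (u : G), u ∈ memAt Z c ∧ BigZ Z q c u := by
  classical
  set S : Set (Ω × Ω) := {z | ∃ r e W, P z.1 z.2 r e W}
  have hSne : S.Nonempty := by
    obtain ⟨a, b, r, e, W, h'⟩ := hne
    exact ⟨(a, b), r, e, W, h'⟩
  obtain ⟨⟨a, b⟩, ⟨r, e, W, hPc⟩, hmax⟩ :=
    Set.exists_max_image S (fun z => Nat.card (oPrime q (pairCore G z.1 z.2))) (Set.toFinite _) hSne
  replace hPc : P a b r e W := hPc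
  obtain ⟨hab, hr, hre, hW, hWn, hWe, hcond⟩ := hcfg _ _ _ _ _ hPc
  obtain ⟨w, f, hPw⟩ := hclosed _ _ _ _ _ hPc
  obtain ⟨hae, hw, hwf, hWae, hwn, -, -⟩ := hcfg _ _ _ _ _ hPw
  have hr2 := h.invol r hr.1
  have hw2 := h.invol w hw.1
  set A := oPrime q (pairCore G a b) with hA
  have hWab : W ≤ pairCore G a b := hW.1
  have hWodd : Odd (Nat.card W) := (odd_pairCore a b).of_dvd_nat (Subgroup.card_dvd_of_le hWab)
  have hAodd : Odd (Nat.card A) :=
    (odd_pairCore a b).of_dvd_nat (Subgroup.card_dvd_of_le (oPrime_le _))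
  have hrA : r ∈ Subgroup.normalizer (A : Set G) :=
    mem_normalizer_oPrime (h.swap_normalizes_pairCore hr)
  -- the `q'`-core fixes the centre
  have hAe : A ≤ A ⊓ stabilizer G e := by
    have : Group.IsSolvable A := CfsgLib.PF.oddSolvable _ hAodd
    refine le_of_centralizers (Q := W) hr2 hAodd hW.2.1 (oPrime_coprime _)
      hrA (hWab.trans (oPrime_normal _)) hWn inf_le_left
      (Coprime.mem_normalizer_of_forall_conj fun x hx =>
        ⟨Coprime.mem_normalizer_conj hrA hx.1, ?_⟩)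
      (fun y hy => Coprime.mem_normalizer_of_forall_conj fun x hx =>
        ⟨Coprime.mem_normalizer_conj (oPrime_normal _ (hWab hy)) hx.1, ?_⟩)
      (fun x hx hc => ⟨hx, h.fix_of_commute ⟨hr.1, hre⟩ hc⟩)
      (le_inf inf_le_left ((inf_le_inf_right _ (oPrime_le _)).trans hcond))
    · show (r * x * r⁻¹) • e = e
      rw [inv_eq_self_of_involution hr2, mul_smul, mul_smul, hre, hx.2, hre]
    · show (y * x * y⁻¹) • e = e
      have hye : y⁻¹ • e = e := hWe _ (W.inv_mem hy)
      rw [mul_smul, mul_smul, hye, hx.2, hWe y hy]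
  have hAle : A ≤ oPrime q (pairCore G a e) := by
    have : Group.IsSolvable (pairCore G a e) := CfsgLib.PF.oddSolvable _ (odd_pairCore a e)
    refine le_oPrime_of_sylowOf_normalizes hWae (fun g hg => ?_)
      (oPrime_coprime _) (hWab.trans (oPrime_normal _))
    have h1 : g ∈ pairCore G a b ⊓ stabilizer G e := ⟨oPrime_le _ hg, (hAe hg).2⟩
    rw [h.pairCore_inf_stabilizer_eq hab hr hre] at h1
    exact h1.1
  have hAeq : oPrime q (pairCore G a e) = A :=
    (Subgroup.eq_of_le_of_card_ge hAle (hmax (a, e) ⟨w, f, W, hPw⟩)).symm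
  -- the local subgroup
  have hq2 : q ≠ 2 := h.ne_two_of_dvd hdvd
  have hcls : (cls W r).ncard = qpart Z e q := h.qpart_eq_cls hab hr hW hWn e
  have hWne : W ≠ ⊥ := fun e' => by
    have h1 := (h.one_lt_qpart hdvd).trans_le
      ((h.qpart_eq c₀ e q).trans_le (hcls.ge.trans (Set.ncard_le_ncard (t := {r}) ?_
        (Set.toFinite _))))
    · rw [Set.ncard_singleton] at h1; exact lt_irrefl _ h1
    · rintro _ ⟨g, hg, rfl⟩
      rw [e', Subgroup.mem_bot] at hg
      simp [hg]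
  obtain ⟨X, hXne, hXa, hXab, hXr, hXw⟩ : ∃ X : Subgroup G, X ≠ ⊥ ∧ X ≤ stabilizer G a ∧
      two G a b ≤ Subgroup.normalizer (X : Set G) ∧
      r ∈ Subgroup.normalizer (X : Set G) ∧ w ∈ Subgroup.normalizer (X : Set G) := by
    by_cases hA1 : A = ⊥
    · refine ⟨PLocal.zj 0 W, zj_ne_bot hW.2.1 hWne,
        (PLocal.zj_le 0 W).trans (hWab.trans ((pairCore_le a b).trans (two_le_stabilizer a b))), ?_,
        PLocal.normalizer_le_normalizer_zj 0 W hWn, PLocal.normalizer_le_normalizer_zj 0 W hwn⟩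
      have hcore : pairCore G a b ≤ Subgroup.normalizer (PLocal.zj 0 W : Set G) := by
        have : Group.IsSolvable (pairCore G a b) := CfsgLib.PF.oddSolvable _ (odd_pairCore a b)
        have h1 := le_sup_normalizer_zj (odd_pairCore a b) hq2 hW
        rw [show oPrime q (pairCore G a b) = ⊥ from hA1, bot_sup_eq] at h1
        exact h1.trans inf_le_right
      intro g hg
      have hmap : SylowOf q (W.map (MulAut.conj g).toMonoidHom) (pairCore G a b) := by
        have h1 := sylowOf_map_hom (MulAut.conj g).toMonoidHom hW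
        rwa [BenderTrans.map_conj_of_mem_normalizer (two_le_normalizer_pairCore a b hg)] at h1
      obtain ⟨d, hd, hdW⟩ := exists_conj_sylowOf hmap hW
      have hdg : d * g ∈ Subgroup.normalizer (W : Set G) := by
        refine Coprime.mem_normalizer_of_forall_conj fun x hx => ?_
        rw [hdW]
        exact ⟨g * x * g⁻¹, ⟨x, hx, rfl⟩, by simp [mul_assoc]⟩
      have h2 := (Subgroup.normalizer _).mul_mem ((Subgroup.normalizer _).inv_mem (hcore hd))
        (PLocal.normalizer_le_normalizer_zj 0 W hdg)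
      rwa [inv_mul_cancel_left] at h2
    · refine ⟨A, hA1, (oPrime_le _).trans ((pairCore_le a b).trans (two_le_stabilizer a b)),
        fun g hg => mem_normalizer_oPrime (two_le_normalizer_pairCore a b hg), hrA, ?_⟩
      rw [← hAeq]
      exact mem_normalizer_oPrime (h.swap_normalizes_pairCore hw)
  set M := Subgroup.normalizer (X : Set G) with hM
  have heM : e ∈ zCentres Ω Z M := ⟨r, hXr, hr.1, hre⟩
  have haM : a ∈ zCentres Ω Z M := by
    rw [← h.swap_symm hw]; exact h.smul_mem_zCentres hXw heM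
  have hbM : b ∈ zCentres Ω Z M := by
    rw [← hr.2]; exact h.smul_mem_zCentres hXr haM
  have hMulti : ZMulti Ω Z M := ⟨a, haM, e, heM, hae⟩
  have hMne : M ≠ ⊤ := by
    intro htop
    refine hXne ((Subgroup.eq_bot_iff_forall X).2 fun x hx => hfaith x fun z => ?_)
    obtain ⟨g, rfl⟩ := h.trans a z
    have hg : g ∈ M := htop ▸ Subgroup.mem_top g
    exact BenderTrans.smul_mem_fixSet hg (fun y hy => hXa hy) x hx
  have hsub : ∀ t ∈ memAt Z a, t ∈ M := by
    obtain ⟨t₀, ht₀M, ht₀⟩ := id haM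
    intro t ht
    rw [← h.cls_pairCore_memAt hab (show t₀ ∈ memAt Z a from ht₀)] at ht
    obtain ⟨d, hd, rfl⟩ := ht
    have hd' := hXab (pairCore_le a b hd)
    exact M.mul_mem (M.mul_mem hd' ht₀M) (M.inv_mem hd')
  have hsube : memAt Z e ⊆ M := by
    intro t ht
    have h1 := h.conj_memAt (g := w) ht
    rw [h.swap_symm hw] at h1
    have h2 := M.mul_mem (M.mul_mem hXw (hsub _ h1)) hXw
    rw [inv_eq_self_of_involution hw2] at h2
    have h3 : w * (w * t * w) * w = t := by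
      calc w * (w * t * w) * w = (w * w) * t * (w * w) := by group
        _ = t := by rw [mul_self_eq_one hw2, one_mul, mul_one]
    rwa [h3] at h2
  have h4 := h.zFour_of_memAt hfour hsube
  set L := memIn Z M with hL
  have hLp := isPure_memIn h hP hMne hMulti h4
  have hcen := centres_memIn h hP hMne hMulti h4
  have hsubL : memAt Z e ⊆ L := fun t ht => mem_memIn ht.1 (hsube ht)
  have hrL : r ∈ L := mem_memIn hr.1 hXr
  have hn : two G a b ≤ Subgroup.normalizer (L : Set G) :=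
    (hXab.trans Subgroup.le_normalizer).trans (normalizer_le_normalizer_memIn h)
  have hmod := hLp.commute_mod_of_fixed_pairCore h (hcen ▸ haM) (hcen ▸ hbM) hab hn hrL hr hre hW
    hWn hWe
  refine ⟨e, r, ⟨hr.1, hre⟩, M, hMne, hMulti, hsube, commSub W r, ?_,
    hW.2.1.to_le (commSub_le hr2 hWn), self_mem_normalizer_commSub hr2, ?_⟩
  · set K : Subgroup G := kerIn Ω L with hK
    have hmemL : memGen Z e ≤ L := (Subgroup.closure_le _).2 hsubL
    have hYK : commSub W r ≤ K ⊓ memGen Z e := by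
      refine (Subgroup.closure_le _).2 ?_
      rintro _ ⟨_, ⟨g, hg, rfl⟩, rfl⟩
      have hin : g * r * g⁻¹ * r ∈ memGen Z e := by
        refine (memGen Z e).mul_mem (Subgroup.subset_closure ?_)
          (Subgroup.subset_closure ⟨hr.1, hre⟩)
        have h1 := h.conj_memAt (g := g) (show r ∈ memAt Z e from ⟨hr.1, hre⟩)
        rwa [hWe g hg] at h1
      exact ⟨mem_kerIn.2 ⟨hmemL hin, hmod g hg⟩, hin⟩
    refine hYK.trans (le_oPrime (p := 2) inf_le_right ?_ ?_)
    · intro g hg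
      exact Coprime.mem_normalizer_of_forall_conj fun x hx =>
        ⟨Coprime.mem_normalizer_conj (le_normalizer_kerIn L (hmemL hg)) hx.1,
          (memGen Z e).mul_mem ((memGen Z e).mul_mem hg hx.2) ((memGen Z e).inv_mem hg)⟩
    · rw [Nat.coprime_comm, Nat.coprime_two_left]
      exact (hLp.odd_kerIn h).of_dvd_nat (Subgroup.card_dvd_of_le inf_le_left)
  · rw [cls_commSub hr2 hWn hWodd, hcls]

/-- The conclusion does not depend on the point or the member. -/
theorem big_transfer [Finite G] [Finite Ω] {q : ℕ} {c c' : Ω} {u u' : G} (hu : u ∈ memAt Z c)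
    (hu' : u' ∈ memAt Z c') (hb : BigZ Z q c u) : BigZ Z q c' u' := by
  have : Fact (Nat.Prime 2) := ⟨Nat.prime_two⟩
  obtain ⟨g, rfl⟩ := isConj_iff.1 (h.isConj_mem hu.1 hu'.1)
  obtain rfl : g • c = c' := h.unique _ hu'.1 _ _ (h.conj_memAt (g := g) hu).2 hu'.2
  obtain ⟨M, hM, hMulti, hsub, Y, hY, hYq, hYu, hbig⟩ := hb
  have hinv : (MulAut.conj g).toMonoidHom '' memAt Z c = memAt Z (g • c) := by
    ext t
    constructor
    · rintro ⟨s, hs, rfl⟩
      exact h.conj_memAt hs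
    · intro ht
      refine ⟨g⁻¹ * t * g, ?_, by simp [mul_assoc]⟩
      have h1 := h.conj_memAt (g := g⁻¹) ht
      rwa [inv_inv, inv_smul_smul] at h1
  have hgrp : memGen Z (g • c) = (memGen Z c).map (MulAut.conj g).toMonoidHom := by
    rw [memGen, memGen, MonoidHom.map_closure, hinv]
  refine ⟨M.map (MulAut.conj g).toMonoidHom, fun htop => hM ?_, ?_, ?_,
    Y.map (MulAut.conj g).toMonoidHom, ?_, hYq.map _, BenderTrans.mem_normalizer_map_conj hYu, ?_⟩
  · refine Subgroup.eq_top_of_card_eq M ?_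
    rw [← Subgroup.card_map_of_injective (f := (MulAut.conj g).toMonoidHom) (K := M)
      (MulAut.conj g).injective, htop, Subgroup.card_top]
  · obtain ⟨a, ⟨s, hsM, hs⟩, b, ⟨t, htM, ht⟩, hab⟩ := hMulti
    exact ⟨g • a, ⟨_, ⟨s, hsM, rfl⟩, (h.conj_memAt (g := g) ⟨hs.1, hs.2⟩).1,
        (h.conj_memAt (g := g) ⟨hs.1, hs.2⟩).2⟩, g • b, ⟨_, ⟨t, htM, rfl⟩,
        (h.conj_memAt (g := g) ⟨ht.1, ht.2⟩).1, (h.conj_memAt (g := g) ⟨ht.1, ht.2⟩).2⟩,
      fun e => hab (MulAction.injective g e)⟩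
  · rw [← hinv]
    exact Set.image_mono hsub
  · refine le_oPrime (p := 2) ?_ ?_ ?_ |>.trans' (Subgroup.map_mono hY)
    · rw [hgrp]
      exact Subgroup.map_mono (BenderTrans.coreIn_le _)
    · intro x hx
      rw [hgrp] at hx
      obtain ⟨y, hy, rfl⟩ := hx
      exact BenderTrans.mem_normalizer_map_conj (BenderTrans.le_normalizer_coreIn _ hy)
    · rw [Subgroup.card_map_of_injective (MulAut.conj g).injective, Nat.coprime_comm,
        Nat.coprime_two_left]
      exact BenderTrans.odd_coreIn _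
  · rw [BenderTrans.ncard_cls_map_conj, h.qpart_eq (g • c) c q]
    exact hbig

/-- A prime dividing the number of members that is not good gives a big subgroup everywhere. -/
theorem big_of_not_good [Finite G] [Finite Ω]
    (hfaith : ∀ g : G, (∀ x : Ω, g • x = x) → g = 1) (hP : PureBelow Ω Z)
    (hfour : ∀ c : Ω, ∃ s ∈ memAt Z c, ∃ t ∈ memAt Z c, s ≠ t ∧ Commute s t)
    {q : ℕ} [hq : Fact q.Prime] {c' : Ω} (hdvd : q ∣ (memAt Z c').ncard)
    (hbad : ¬ GoodZ G Ω q) {u' : G} (hu' : u' ∈ memAt Z c') : BigZ Z q c' u' := by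
  suffices ∃ (c : Ω) (u : G), u ∈ memAt Z c ∧ BigZ Z q c u by
    obtain ⟨c, u, hu, hb⟩ := this
    exact h.big_transfer hu hu' hb
  rw [GoodZ] at hbad
  push Not at hbad
  obtain ⟨x, y, hxy, Q, hQ, hodd⟩ := hbad
  rw [Nat.not_even_iff_odd] at hodd
  obtain ⟨u, hu, hun⟩ := h.exists_swap_normalizes_core hxy hQ
  have hu2 := h.invol u hu.1
  obtain ⟨c, hc⟩ := h.exists_fix u hu.1
  have hcQ : c ∈ BenderTrans.fixSet Ω Q := (h.odd_fixSet_iff ⟨hu.1, hc⟩ hun).1 hodd
  set Y := commSub Q u with hYdef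
  have hQodd : Odd (Nat.card Q) := (odd_pairCore x y).of_dvd_nat (Subgroup.card_dvd_of_le hQ.1)
  have hYQ : Y ≤ Q := commSub_le hu2 hun
  have hYbig : (cls Y u).ncard = qpart Z c q := by
    rw [hYdef, cls_commSub hu2 hun hQodd, h.qpart_eq_cls hxy hu hQ hun c]
  have hnc : ∃ v ∈ Y, ¬ Commute v u := by
    by_contra hall
    push Not at hall
    have h1 : cls Y u ⊆ {u} := by
      rintro _ ⟨v, hv, rfl⟩
      rw [Set.mem_singleton_iff, (hall v hv).eq, mul_inv_cancel_right]
    have h2 := (h.one_lt_qpart hdvd).trans_le ((h.qpart_eq c' c q).trans_le (hYbig.ge.trans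
      (Set.ncard_le_ncard h1 (Set.toFinite _))))
    rw [Set.ncard_singleton] at h2
    exact lt_irrefl _ h2
  have hYu : u ∈ Subgroup.normalizer (Y : Set G) := self_mem_normalizer_commSub hu2
  have hcM : c ∈ zCentres Ω Z (Subgroup.normalizer (Y : Set G)) := ⟨u, hYu, hu.1, hc⟩
  by_cases hM : ZMulti Ω Z (Subgroup.normalizer (Y : Set G))
  · -- the normaliser of `Y` has several centres
    set M := Subgroup.normalizer (Y : Set G) with hMdef
    have hYc : ∀ z ∈ zCentres Ω Z M, z ∈ BenderTrans.fixSet Ω Y :=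
      h.fix_zCentres (M := M) le_rfl hcM (BenderTrans.fixSet_anti hYQ hcQ)
    have hMne : M ≠ ⊤ := by
      intro htop
      obtain ⟨v, hv, hvu⟩ := hnc
      refine hvu ?_
      have : v = 1 := hfaith v fun w => by
        obtain ⟨k, rfl⟩ := h.trans c w
        exact BenderTrans.smul_mem_fixSet (show k ∈ M from htop ▸ Subgroup.mem_top k) (hYc c hcM) v hv
      rw [this]
      exact Commute.one_left u
    obtain ⟨B, hcB, ⟨z, hz, hzc⟩, hBsub, huB, hblk⟩ : ∃ B : Set Ω, c ∈ B ∧ (∃ z ∈ B, z ≠ c) ∧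
        B ⊆ zCentres Ω Z M ∧ (∀ z ∈ B, u • z ∈ B) ∧
        ∀ a ∈ B, ∀ b ∈ B, a ≠ b → ∀ r ∈ M, r ∈ swapMem Z a b → ∀ e : Ω, r • e = e →
          e ∈ B ∧ pairCore G a b ⊓ Subgroup.centralizer (Y : Set G) ≤ stabilizer G e := by
      by_cases h4 : ZFour Z M
      · refine ⟨zCentres Ω Z M, hcM, ?_, le_refl _, fun z hz => h.smul_mem_zCentres hYu hz, ?_⟩
        · obtain ⟨a, ha, b, hb, hab⟩ := id hM
          by_cases e : a = c
          · exact ⟨b, hb, fun e' => hab (e.trans e'.symm)⟩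
          · exact ⟨a, ha, e⟩
        · intro a _ b _ _ r hrM hr e he
          exact ⟨⟨r, hrM, hr.1, he⟩, fun g hg =>
            centralizer_fix h hP hMne hM h4 hu.1 hYu hnc hg.2 e ⟨r, hrM, hr.1, he⟩⟩
      · obtain ⟨B, hcB, hz, hBsub, huB, hblk⟩ :=
          h.exists_block_noFour hfaith hM h4 ⟨hu.1, hc⟩ hYu
        exact ⟨B, hcB, hz, hBsub, huB, fun a ha b hb hab r hrM hr e he =>
          ⟨(hblk a ha b hb hab r hrM hr e he).1,
            (inf_le_inf (pairCore_le a b) (Subgroup.centralizer_le_normalizer _)).trans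
              (hblk a ha b hb hab r hrM hr e he).2⟩⟩
    have hmk : ∀ a ∈ B, ∀ b ∈ B, a ≠ b → ∀ r ∈ M, r ∈ swapMem Z a b → ∀ e, r • e = e →
        ∀ W, SylowOf q W (pairCore G a b) → r ∈ Subgroup.normalizer (W : Set G) → Y ≤ W →
        e ∈ B ∧ ConfigZ Z q a b r e W ∧ W ≤ M := by
      intro a ha b hb hab r hrM hr e he W hW hWn hYW
      have hr2 := h.invol r hr.1
      obtain ⟨heB, hcent⟩ := hblk a ha b hb hab r hrM hr e he
      obtain ⟨g, hg, hge⟩ := h.exists_conj_zMulti hM hYu hrM hu.1 hr.1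
      have hmap : Y.map (MulAut.conj g).toMonoidHom = Y := BenderTrans.map_conj_of_mem_normalizer hg
      have hclsY : (cls Y r).ncard = qpart Z e q := by
        have h1 := BenderTrans.ncard_cls_map_conj Y u g
        rw [hmap, hge] at h1
        rw [h1, hYbig, h.qpart_eq c e q]
      have hYr : commSub Y r = Y := by
        have h1 := commSub_map_conj Y u g
        rw [hmap, hge] at h1
        rw [← h1, hYdef, commSub_eq_of_cls (cls_commSub hu2 hun hQodd), ← hYdef, hmap]
      have hle : (cls W r).ncard ≤ (cls Y r).ncard := by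
        rw [hclsY, h.qpart_eq_cls hab hr hW hWn e]
      have hclsW : cls W r = cls Y r :=
        (Set.eq_of_subset_of_ncard_le (cls_mono hYW r) hle (Set.toFinite _)).symm
      have hWY : commSub W r = Y := by rw [commSub_eq_of_cls hclsW, hYr]
      refine ⟨heB, ⟨hab, hr, he, hW, hWn, ?_, by rw [hWY]; exact hcent⟩, ?_⟩
      · intro w hw
        obtain ⟨s, hs, d, -, hdr, rfl⟩ := exists_mul_of_cls hYW hle hw
        rw [mul_smul, h.fix_of_commute ⟨hr.1, he⟩ hdr, hYc e (hBsub heB) s hs]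
      · rw [hMdef, ← hWY]
        exact le_normalizer_commSub hr2
    refine h.big_of_family hfaith hP hfour c' hdvd
      (fun a b r e W => a ∈ B ∧ b ∈ B ∧ a ≠ b ∧ r ∈ M ∧ r ∈ swapMem Z a b ∧ r • e = e ∧
        SylowOf q W (pairCore G a b) ∧ r ∈ Subgroup.normalizer (W : Set G) ∧ Y ≤ W) ?_ ?_ ?_
    · rintro a b r e W ⟨ha, hb, hab, hrM, hr, he, hW, hWn, hYW⟩
      exact (hmk a ha b hb hab r hrM hr e he W hW hWn hYW).2.1
    · obtain ⟨hne, hsw⟩ := h.swapMem_of_memAt hzc ⟨hu.1, hc⟩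
      have hzfix := hYc z (hBsub hz)
      have huzfix := hYc _ (hBsub (huB z hz))
      have hYD : Y ≤ pairCore G z (u • z) := by
        rw [show Y = commSub Y u by rw [hYdef, commSub_eq_of_cls (cls_commSub hu2 hun hQodd)]]
        refine (Subgroup.closure_le _).2 ?_
        rintro _ ⟨_, ⟨g, hg, rfl⟩, rfl⟩
        exact h.mul_mem_pairCore hne hsw
          (h.conj_mem_swapMem_two (mem_two_iff.2 ⟨hzfix g hg, huzfix g hg⟩) hsw)
      obtain ⟨W, hW, hYW, hWn, -, -⟩ :=
        h.exists_sylow_of_big hne hsw hc (S := Y) hYD (hQ.2.1.to_le hYQ) hYu hYbig.ge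
      exact ⟨z, u • z, u, c, W, hz, huB z hz, hne, hYu, hsw, hc, hW, hWn, hYW⟩
    · rintro a b r e W ⟨ha, hb, hab, hrM, hr, he, hW, hWn, hYW⟩
      obtain ⟨heB, hcfg, hWM⟩ := hmk a ha b hb hab r hrM hr e he W hW hWn hYW
      have hae : a ≠ e := (h.swap_ne_centre hab hr he).1
      have hWae := h.sylowOf_pairCore_centre hab hr he hW hcfg.2.2.2.2.2.1
      obtain ⟨w₀, hw₀M, hw₀⟩ := h.exists_swap_zCentres (hBsub ha) (hBsub heB) hae
      have hn : w₀ ∈ Subgroup.normalizer ((M ⊓ pairCore G a e : Subgroup G) : Set G) :=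
        Coprime.mem_normalizer_of_forall_conj fun x hx =>
          ⟨M.mul_mem (M.mul_mem hw₀M hx.1) (M.inv_mem hw₀M),
            Coprime.mem_normalizer_conj (h.swap_normalizes_pairCore hw₀) hx.2⟩
      obtain ⟨d, hd, hdn⟩ := exists_conj_normalizes
        ((odd_pairCore a e).of_dvd_nat (Subgroup.card_dvd_of_le inf_le_right)) (h.invol w₀ hw₀.1) hn
        (hWae.mono inf_le_right (le_inf hWM hWae.1))
      have hsw : d * w₀ * d⁻¹ ∈ swapMem Z a e :=
        h.conj_mem_swapMem_two (pairCore_le a e hd.2) hw₀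
      obtain ⟨f, hf⟩ := h.exists_fix _ hsw.1
      exact ⟨_, f, ha, heB, hae, M.mul_mem (M.mul_mem hd.1 hw₀M) (M.inv_mem hd.1), hsw, hf, hWae,
        hdn, hYW⟩
  · -- all members of the normaliser have one centre
    have hone : ∀ i ∈ Subgroup.normalizer (Y : Set G), i ∈ Z → i • c = c := by
      intro i hi hiZ
      obtain ⟨z, hz⟩ := h.exists_fix i hiZ
      rcases eq_or_ne z c with rfl | hne
      · exact hz
      · exact absurd ⟨c, hcM, z, ⟨i, hi, hiZ, hz⟩, hne.symm⟩ hM
    refine h.big_of_family hfaith hP hfour c' hdvd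
      (fun a b r e W => a ≠ b ∧ r ∈ swapMem Z a b ∧ r • e = e ∧ SylowOf q W (pairCore G a b) ∧
        r ∈ Subgroup.normalizer (W : Set G) ∧ e ∈ BenderTrans.fixSet Ω W ∧
        ∀ i ∈ Subgroup.normalizer (commSub W r : Set G), i ∈ Z → i • e = e) ?_
      ⟨x, y, u, c, Q, hxy, hu, hc, hQ, hun, hcQ, hone⟩ ?_
    · rintro a b r e W ⟨hab, hr, he, hW, hWn, hWe, hone⟩
      refine ⟨hab, hr, he, hW, hWn, hWe, fun g hg => ?_⟩
      have hgn := Subgroup.centralizer_le_normalizer _ hg.2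
      have h1 := h.conj_memAt (g := g) (show r ∈ memAt Z e from ⟨hr.1, he⟩)
      have h2 := hone _ (Subgroup.mul_mem _
        (Subgroup.mul_mem _ hgn (self_mem_normalizer_commSub (h.invol r hr.1)))
        (Subgroup.inv_mem _ hgn)) h1.1
      exact h.unique _ h1.1 _ _ h1.2 h2
    · rintro a b r e W ⟨hab, hr, he, hW, hWn, hWe, hone⟩
      have hae : a ≠ e := (h.swap_ne_centre hab hr he).1
      have hWae := h.sylowOf_pairCore_centre hab hr he hW hWe
      obtain ⟨w, hw, hwn⟩ := h.exists_swap_normalizes_core hae hWae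
      obtain ⟨f, hf⟩ := h.exists_fix w hw.1
      have hodd' : Odd (BenderTrans.fixSet Ω W).ncard := (h.odd_fixSet_iff ⟨hr.1, he⟩ hWn).2 hWe
      have hWf : f ∈ BenderTrans.fixSet Ω W := (h.odd_fixSet_iff ⟨hw.1, hf⟩ hwn).1 hodd'
      have hef : e ≠ f := (h.swap_ne_centre hae hw hf).2
      obtain ⟨g, hgcl, hgrw, hge⟩ := h.exists_conj_of_ne (show r ∈ memAt Z e from ⟨hr.1, he⟩)
        (show w ∈ memAt Z f from ⟨hw.1, hf⟩) hef
      have hgn : g ∈ Subgroup.normalizer (W : Set G) := by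
        refine (Subgroup.closure_le _).2 ?_ hgcl
        rintro _ (rfl | rfl) <;> assumption
      refine ⟨w, f, hae, hw, hf, hWae, hwn, hWf, fun i hi hiZ => ?_⟩
      have hmap : (commSub W r).map (MulAut.conj g).toMonoidHom = commSub W w := by
        rw [commSub_map_conj, BenderTrans.map_conj_of_mem_normalizer hgn, hgrw]
      have h1 : g⁻¹ * i * g ∈ Subgroup.normalizer (commSub W r : Set G) := by
        rw [← hmap] at hi
        refine Coprime.mem_normalizer_of_forall_conj fun z hz => ?_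
        obtain ⟨z', hz', hze⟩ := Coprime.mem_normalizer_conj hi
          (show g * z * g⁻¹ ∈ (commSub W r).map (MulAut.conj g).toMonoidHom from ⟨z, hz, rfl⟩)
        have hze' : g * z' * g⁻¹ = i * (g * z * g⁻¹) * i⁻¹ := hze
        have h4 : g⁻¹ * i * g * z * (g⁻¹ * i * g)⁻¹ = z' := by
          calc g⁻¹ * i * g * z * (g⁻¹ * i * g)⁻¹ = g⁻¹ * (i * (g * z * g⁻¹) * i⁻¹) * g := by group
            _ = z' := by rw [← hze']; group
        rw [h4]; exact hz'
      have hZ : g⁻¹ * i * g ∈ Z := by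
        have := h.conj_mem g⁻¹ i hiZ
        rwa [inv_inv] at this
      have h2 := hone _ h1 hZ
      rw [← hge]
      calc i • g • e = g • (g⁻¹ * i * g) • e := by simp [smul_smul, mul_assoc]
        _ = g • e := by rw [h2]

end Setting

end CfsgLib.StrongCrit
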