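import Cfsg.Agent.Lib.StrongCrit.W1.Big

/-!
In the setting of Aschbacher's criterion, given purity below, every prime dividing the number of
members at a point is good, the group is doubly transitive, and odd normal subgroups of point
stabilisers centralise the members there.
-/

set_option autoImplicit false

namespace CfsgLib.StrongCrit

open CfsgLib.Involutions CfsgLib.OddOrder CfsgLib.BenderTrans MulAction W1
open scoped commutatorElement

universe u

variable {G : Type u} [Group G] {Ω : Type u} [MulAction G Ω] {Z : Set G}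

/-- Odd normal subgroups of a point stabiliser centralise the members there. -/
def CoreCentralZ (Ω : Type u) [MulAction G Ω] (Z : Set G) : Prop :=
  ∀ c : Ω, ∀ N : Subgroup G, N ≤ stabilizer G c → stabilizer G c ≤ Subgroup.normalizer (N : Set G) →
    Odd (Nat.card N) → ∀ t ∈ memAt Z c, ∀ g ∈ N, Commute g t

namespace Setting

variable (h : Setting Ω Z)
include h

theorem mem_normalizer_coreMemGen [Finite G] {c : Ω} {d : G} (hd : d • c = c) :
    d ∈ Subgroup.normalizer (BenderTrans.coreIn (memGen Z c) : Set G) := by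
  have : Fact (Nat.Prime 2) := ⟨Nat.prime_two⟩
  refine mem_normalizer_oPrime (q := 2) (Coprime.mem_normalizer_of_forall_conj fun x hx => ?_)
  have hle : (memGen Z c).map (MulAut.conj d).toMonoidHom ≤ memGen Z c := by
    rw [memGen, MonoidHom.map_closure]
    refine Subgroup.closure_mono ?_
    rintro _ ⟨t, ht, rfl⟩
    have h1 := h.conj_memAt (g := d) ht
    rwa [hd] at h1
  exact hle ⟨x, hx, rfl⟩

variable [Finite G] [Finite Ω] (hfaith : ∀ g : G, (∀ x : Ω, g • x = x) → g = 1)
  (hP : PureBelow Ω Z)
  (hfour : ∀ c : Ω, ∃ s ∈ memAt Z c, ∃ t ∈ memAt Z c, s ≠ t ∧ Commute s t)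
include hfaith hP hfour

/-- Every prime dividing the number of members at a point is good. -/
theorem goodZ_of_dvd {c : Ω} {q : ℕ} (hq : q.Prime) (hdvd : q ∣ (memAt Z c).ncard) :
    GoodZ G Ω q := by
  by_contra hbad
  have : Fact q.Prime := ⟨hq⟩
  obtain ⟨u, hu⟩ := h.exists_memAt c
  have hu2 := h.invol u hu.1
  obtain ⟨M, hMne, hMulti, hsub, Y, hY, hYq, -, hYbig⟩ :=
    h.big_of_not_good hfaith hP hfour hdvd hbad hu
  have h4 := h.zFour_of_memAt hfour hsub
  set L := memIn Z M with hL
  have hLp := isPure_memIn h hP hMne hMulti h4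
  have hcen := centres_memIn h hP hMne hMulti h4
  have huM : u ∈ M := hsub hu
  have huL : u ∈ L := mem_memIn hu.1 huM
  have hcM : c ∈ zCentres Ω Z M := ⟨u, huM, hu.1, hu.2⟩
  obtain ⟨a, ha, hca⟩ : ∃ a ∈ zCentres Ω Z M, c ≠ a := by
    obtain ⟨a, ha, b, hb, hab⟩ := id hMulti
    by_cases e : c = a
    · exact ⟨b, hb, fun e' => hab (e.symm.trans e')⟩
    · exact ⟨a, ha, e⟩
  have hall : ∀ z ∈ zCentres Ω Z M, memAt Z z ⊆ M := by
    intro z hz t ht
    rcases eq_or_ne z c with rfl | hzc
    · exact hsub ht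
    obtain ⟨r, hrM, hr⟩ := h.exists_swap_zCentres hz hcM hzc
    have h1 := h.conj_memAt (g := r) ht
    rw [hr.2] at h1
    have h2 := M.mul_mem (M.mul_mem (M.inv_mem hrM) (hsub h1)) hrM
    simpa [mul_assoc] using h2
  obtain ⟨hua, hswu⟩ := h.swapMem_of_memAt hca.symm hu
  have huaM : u • a ∈ zCentres Ω Z M := h.smul_mem_zCentres huM ha
  have hsw : swapMem Z a (u • a) ⊆ L := by
    intro r hr
    obtain ⟨t, ht⟩ := h.exists_memAt (u • a)
    refine (Subgroup.closure_le L).2 ?_ (h.swapMem_mem_closure hua ht hr)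
    rintro _ (rfl | rfl)
    · have h1 := h.conj_memAt (g := r) ht
      rw [h.swap_symm hr] at h1
      exact mem_memIn h1.1 (hall a ha h1)
    · exact mem_memIn ht.1 (hall _ huaM ht)
  obtain ⟨p, hp, hpdvd, hmove⟩ := hLp.exists_prime_moving h (hcen ▸ ha) hca huL hu hsw
  have : Fact p.Prime := ⟨hp⟩
  set N := BenderTrans.coreIn (memGen Z c) with hN
  have hNL : N ≤ L ⊓ stabilizer G c :=
    (BenderTrans.coreIn_le _).trans (le_inf
      ((Subgroup.closure_le L).2 fun t ht => mem_memIn ht.1 (hsub ht)) (h.memGen_le_stabilizer c))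
  have hcore : ∀ {v : G}, v ∈ memAt Z c → ∀ g ∈ N, ∀ x ∈ centres Ω L,
      (g * v * g⁻¹ * v) • x = x := fun {v} hv =>
    hLp.core_mod h (mem_memIn hv.1 (hsub hv)) hv hNL (fun d hd => h.mem_normalizer_coreMemGen hd.2)
      (BenderTrans.odd_coreIn _)
  by_cases hgood : GoodZ G Ω p
  · have h2 := h.twoTrans_of_goodZ hgood hfaith hpdvd
    have hcent : ∀ g ∈ N, g * u * g⁻¹ = u := by
      intro g hg
      have h3 : g * u * g⁻¹ * u = 1 := by
        refine hfaith _ fun z => ?_
        rcases eq_or_ne z c with rfl | hzc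
        · exact hcore hu g hg z (hcen ▸ hcM)
        · obtain ⟨d, hdc, hdz⟩ := h2 c a z hca.symm hzc
          have hdc' : d⁻¹ • c = c := (eq_inv_smul_iff.2 hdc).symm
          have hu' : d⁻¹ * u * d ∈ memAt Z c := by
            have := h.conj_memAt (g := d⁻¹) hu
            rwa [inv_inv, hdc'] at this
          have hg' : d⁻¹ * g * d ∈ N :=
            Coprime.mem_normalizer_conj' (h.mem_normalizer_coreMemGen hdc) hg
          have h5 := hcore hu' _ hg' a (hcen ▸ ha)
          calc (g * u * g⁻¹ * u) • z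
              = d • ((d⁻¹ * g * d) * (d⁻¹ * u * d) * (d⁻¹ * g * d)⁻¹ * (d⁻¹ * u * d)) • a := by
                rw [smul_smul, ← hdz, smul_smul]
                congr 1
                group
            _ = z := by rw [h5, hdz]
      calc g * u * g⁻¹ = (g * u * g⁻¹ * u) * u := by
            rw [mul_assoc _ u u, mul_self_eq_one hu2, mul_one]
        _ = u := by rw [h3, one_mul]
    have h5 : cls Y u ⊆ {u} := by
      rintro _ ⟨y, hy, rfl⟩
      exact hcent y (hY hy)
    have h6 := ((h.one_lt_qpart hdvd).trans_le hYbig).trans_le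
      (Set.ncard_le_ncard h5 (Set.toFinite _))
    rw [Set.ncard_singleton] at h6
    exact lt_irrefl _ h6
  · obtain ⟨-, -, -, -, R, hR, hRp, hRu, hRbig⟩ :=
      h.big_of_not_good hfaith hP hfour hpdvd hgood hu
    have hRodd : Odd (Nat.card R) :=
      (BenderTrans.odd_coreIn (memGen Z c)).of_dvd_nat (Subgroup.card_dvd_of_le hR)
    set U := commSub R u with hU
    have hUfix : ∀ g ∈ U, ∀ x ∈ centres Ω L, g • x = x := by
      intro g hg x hx
      have hle : U ≤ stabilizer G x := by
        refine (Subgroup.closure_le _).2 ?_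
        rintro _ ⟨_, ⟨y, hy, rfl⟩, rfl⟩
        exact hcore hu y (hR hy) x hx
      exact hle hg
    have hUD : U ≤ L ⊓ two G a (u • a) := fun g hg =>
      ⟨((commSub_le hu2 hRu).trans (hR.trans (hNL.trans inf_le_left))) hg,
        mem_two_iff.2 ⟨hUfix g hg a (hcen ▸ ha), hUfix g hg _ (hcen ▸ huaM)⟩⟩
    have hn : u ∈ Subgroup.normalizer ((L ⊓ two G a (u • a) : Subgroup G) : Set G) :=
      Coprime.mem_normalizer_of_forall_conj fun x hx =>
        ⟨L.mul_mem (L.mul_mem huL hx.1) (L.inv_mem huL),
          Coprime.mem_normalizer_conj (h.swap_normalizes_two hswu) hx.2⟩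
    have hodd : Odd (Nat.card (L ⊓ two G a (u • a) : Subgroup G)) := hLp.odd_two h hua
    obtain ⟨P, hPs, hUP, hPn⟩ := exists_invariant_sylowOf_ge hodd hu2 hn hUD
      (hRp.to_le (commSub_le hu2 hRu)) (self_mem_normalizer_commSub hu2)
    obtain ⟨W, hW, hPW, hWn⟩ := h.exists_invariant_sylow_two (h.ne_two_of_dvd hpdvd) hua hswu
      (hPs.1.trans inf_le_right) hPs.2.1 hPn
    refine hmove P hPs hPn fun g hg => ?_
    have hle : (cls P u).ncard ≤ (cls U u).ncard := by
      refine (Set.ncard_le_ncard (cls_mono hPW u) (Set.toFinite _)).trans ?_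
      rw [h.ncard_cls_invariant_sylow (h.ne_two_of_dvd hpdvd) hua hswu hW hWn c, hU,
        cls_commSub hu2 hRu hRodd]
      exact hRbig
    obtain ⟨s, hs, d, -, hdu, rfl⟩ := exists_mul_of_cls hUP hle hg
    rw [mul_smul, h.fix_of_commute hu hdu, hUfix s hs c (hcen ▸ hcM)]

omit [Finite Ω] hfaith hP in
/-- Some prime divides the number of members at a point. -/
theorem exists_prime_dvd_memAt (c : Ω) : ∃ q, q.Prime ∧ q ∣ (memAt Z c).ncard := by
  obtain ⟨s, hs, t, ht, hne, -⟩ := hfour c
  refine Nat.exists_prime_and_dvd fun e => hne ?_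
  obtain ⟨z, hz⟩ := Set.ncard_eq_one.1 e
  rw [hz] at hs ht
  exact hs.trans ht.symm

/-- The group is doubly transitive. -/
theorem twoTrans : TwoTrans G Ω := by
  intro a
  obtain ⟨q, hq, hdvd⟩ := h.exists_prime_dvd_memAt hfour a
  have : Fact q.Prime := ⟨hq⟩
  exact h.twoTrans_of_goodZ (h.goodZ_of_dvd hfaith hP hfour hq hdvd) hfaith hdvd a

/-- A Sylow subgroup of the stabiliser of two points fixes no further point and is one of the
stabiliser of either point. -/
theorem fix_pair_of_dvd {c : Ω} {q : ℕ} (hq : q.Prime) (hdvd : q ∣ (memAt Z c).ncard) {a b : Ω}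
    (hab : a ≠ b) {W : Subgroup G} (hW : SylowOf q W (two G a b)) :
    BenderTrans.fixSet Ω W = {a, b} ∧ SylowOf q W (stabilizer G a) := by
  have : Fact q.Prime := ⟨hq⟩
  refine h.maxPair_spec_member (h.goodZ_of_dvd hfaith hP hfour hq hdvd) (h.ne_two_of_dvd hdvd)
    hfaith hab (fun f g hfg => le_of_eq ?_) hW
  have h2 := h.twoTrans hfaith hP hfour
  obtain ⟨k, rfl⟩ := h.trans a f
  obtain ⟨d, hd, hdb⟩ := h2 (k • a) (k • b) g (fun e => hab (MulAction.injective k e).symm) hfg.symm
  have h1 : two G (k • a) g = (two G a b).map (MulAut.conj (d * k)).toMonoidHom := by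
    rw [map_conj_two, mul_smul, mul_smul, hd, hdb]
  show q ^ (Nat.card (two G (k • a) g)).factorization q = q ^ (Nat.card (two G a b)).factorization q
  rw [h1, Subgroup.card_map_of_injective (MulAut.conj (d * k)).injective]

/-- The standing context for every prime dividing the number of members at a point. -/
theorem ctx {c : Ω} {q : ℕ} (hq : q.Prime) (hdvd : q ∣ (memAt Z c).ncard) : Ctx Ω Z q where
  base := h
  faith := hfaith
  pure := hP
  four := hfour
  trans2 := h.twoTrans hfaith hP hfour
  fix_pair _ _ hab _ hW := h.fix_pair_of_dvd hfaith hP hfour hq hdvd hab hW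
  dvd x := h.ncard_memAt_eq c x ▸ hdvd

/-- An odd `p`-group normal in a point stabiliser centralises the members there. -/
theorem commute_of_normal_pGroup_member {p : ℕ} [hp : Fact p.Prime] {c : Ω} {R : Subgroup G}
    (hodd : Odd (Nat.card R)) (hR : R ≤ stabilizer G c) (hRp : IsPGroup p R)
    (hRn : stabilizer G c ≤ Subgroup.normalizer (R : Set G)) {t : G} (ht : t ∈ memAt Z c) :
    ∀ g ∈ R, Commute g t := by
  intro g hg
  by_cases hd : p ∣ (memAt Z c).ncard
  · have hall : ∀ x : Ω, g • x = x := by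
      intro x
      rcases eq_or_ne x c with rfl | hxc
      · exact hR hg
      obtain ⟨W, hW, -⟩ := exists_sylowOf_ge (p := p) (bot_le : (⊥ : Subgroup G) ≤ two G c x)
        IsPGroup.of_bot
      obtain ⟨-, hS⟩ := h.fix_pair_of_dvd hfaith hP hfour hp.out hd hxc.symm hW
      have hRW : R ⊔ W = W :=
        hS.2.2 _ (sup_le hR hS.1) (hRp.to_sup_of_normal_left' hS.2.1 (hS.1.trans hRn)) le_sup_right
      exact (mem_two_iff.1 (hW.1 (hRW ▸ Subgroup.mem_sup_left hg))).2
    rw [hfaith g hall]
    exact Commute.one_left t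
  · obtain ⟨U, hU, -⟩ := exists_sylowOf_ge (p := p)
      (bot_le : (⊥ : Subgroup G) ≤ stabilizer G c ⊓ Subgroup.centralizer {t}) IsPGroup.of_bot
    have hcls : cls (stabilizer G c) t = memAt Z c := by
      refine Set.Subset.antisymm ?_ fun s hs => ?_
      · rintro _ ⟨d, hd, rfl⟩
        have h1 := h.conj_memAt (g := d) ht
        rwa [(hd : d • c = c)] at h1
      · obtain ⟨d, hd, rfl⟩ := h.exists_conj_memAt ht hs
        exact ⟨d, hd, rfl⟩
    have hcard := ncard_cls_mul (stabilizer G c) t
    rw [hcls] at hcard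
    have hS : SylowOf p U (stabilizer G c) := by
      refine sylowOf_of_card (hU.1.trans inf_le_left) hU.2.1 (le_of_eq ?_)
      rw [card_sylowOf hU, ← hcard, Nat.factorization_mul
        ((Set.ncard_pos (Set.toFinite _)).2 (h.exists_memAt c)).ne' Nat.card_pos.ne',
        Finsupp.add_apply, Nat.factorization_eq_zero_of_not_dvd hd, zero_add]
    have hRU : R ⊔ U = U :=
      hS.2.2 _ (sup_le hR hS.1) (hRp.to_sup_of_normal_left' hS.2.1 (hS.1.trans hRn)) le_sup_right
    exact Subgroup.mem_centralizer_singleton_iff.1 (hU.1 (hRU ▸ Subgroup.mem_sup_left hg)).2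

/-- Odd normal subgroups of point stabilisers centralise the members there. -/
theorem coreCentralZ : CoreCentralZ Ω Z := by
  intro c N
  induction hn : Nat.card N using Nat.strong_induction_on generalizing N with
  | _ n ih =>
  intro hNc hNn hodd t ht g hg
  have hsolv : Group.IsSolvable N := CfsgLib.PF.oddSolvable _ (hn ▸ hodd)
  rcases eq_or_ne N ⊥ with rfl | hne
  · rw [Subgroup.mem_bot.1 hg]; exact Commute.one_left t
  set D := derivedOf N 1 with hD
  have hDle : D ≤ N := derivedOf_le N 1
  have hDlt : Nat.card D < n := by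
    rw [← hn]
    refine Set.ncard_lt_ncard (SetLike.coe_ssubset_coe.2 (hDle.lt_of_ne fun e => hne ?_)) (Set.toFinite _)
    have hall : ∀ k, derivedOf N k = N := by
      intro k
      induction k with
      | zero => rfl
      | succ k ihk =>
        show ⁅derivedOf N k, derivedOf N k⁆ = N
        rw [ihk]; exact e
    obtain ⟨k, hk⟩ := hsolv.solvable
    rw [← hall k, derivedOf_eq, hk, Subgroup.map_bot]
  have hDn : stabilizer G c ≤ Subgroup.normalizer (D : Set G) := fun d hd =>
    mem_normalizer_derivedOf (hNn hd) 1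
  have hDodd : Odd (Nat.card D) := (hn ▸ hodd).of_dvd_nat (Subgroup.card_dvd_of_le hDle)
  have hDt : ∀ y ∈ D, Commute y t :=
    ih _ hDlt D rfl (hDle.trans hNc) hDn hDodd t ht
  set C := N ⊓ Subgroup.centralizer (D : Set G) with hC
  have hCn : stabilizer G c ≤ Subgroup.normalizer (C : Set G) := fun d hd =>
    Coprime.mem_normalizer_of_forall_conj fun x hx =>
      ⟨Coprime.mem_normalizer_conj (hNn hd) hx.1, fun y hy => by
        have h1 := hx.2 _ (Coprime.mem_normalizer_conj' (hDn hd) hy)
        calc y * (d * x * d⁻¹) = d * ((d⁻¹ * y * d) * x) * d⁻¹ := by group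
          _ = d * (x * (d⁻¹ * y * d)) * d⁻¹ := by rw [h1]
          _ = d * x * d⁻¹ * y := by group⟩
  have ht2 := mul_self_eq_one (h.invol t ht.1)
  have htinv := inv_eq_self_of_involution (h.invol t ht.1)
  by_cases hCN : C = N
  · -- nilpotent case
    have hDN : ∀ y ∈ D, ∀ x ∈ N, y * x = x * y := fun y hy x hx => (hCN.ge hx).2 y hy
    have hnil : Group.IsNilpotent N := by
      have hker : (QuotientGroup.mk' (Subgroup.center N)).ker ≤ Subgroup.center N := by
        rw [QuotientGroup.ker_mk']
      have hcomm : ∀ a b : N ⧸ Subgroup.center N, a * b = b * a := by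
        intro a b
        obtain ⟨a, rfl⟩ := QuotientGroup.mk'_surjective _ a
        obtain ⟨b, rfl⟩ := QuotientGroup.mk'_surjective _ b
        have h1 : ⁅a, b⁆ ∈ Subgroup.center N := by
          rw [Subgroup.mem_center_iff]
          intro x
          refine Subtype.ext ?_
          exact (hDN _ (Subgroup.commutator_mem_commutator a.2 b.2) _ x.2).symm
        have h2 : Commute (QuotientGroup.mk' (Subgroup.center N) a)
            (QuotientGroup.mk' (Subgroup.center N) b) := by
          rw [← commutatorElement_eq_one_iff_commute, ← map_commutatorElement]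
          exact (QuotientGroup.eq_one_iff _).2 h1
        exact h2.eq
      let _ : CommGroup (N ⧸ Subgroup.center N) :=
        { (inferInstance : Group (N ⧸ Subgroup.center N)) with mul_comm := hcomm }
      have : Group.IsNilpotent (N ⧸ Subgroup.center N) := CommGroup.isNilpotent
      exact isNilpotent_of_ker_le_center _ hker
    have hle : N ≤ Subgroup.centralizer {t} := by
      refine Coprime.le_of_forall_sylow_le fun p hp Q => ?_
      have : Fact p.Prime := ⟨hp⟩
      have hQn : (Q : Subgroup N).Normal := ((Group.isNilpotent_of_finite_tfae (G := N)).out 0 3 rfl rfl).mp hnil p this Q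
      have hQc := Q.characteristic_of_normal hQn
      have hnorm : stabilizer G c ≤
          Subgroup.normalizer (((Q : Subgroup N).map N.subtype : Subgroup G) : Set G) := by
        intro d hd
        refine Coprime.mem_normalizer_of_forall_conj ?_
        rintro _ ⟨x, hx, rfl⟩
        let e : N ≃* N :=
          { toFun := fun y => ⟨d * y * d⁻¹, Coprime.mem_normalizer_conj (hNn hd) y.2⟩
            invFun := fun y => ⟨d⁻¹ * y * d, Coprime.mem_normalizer_conj' (hNn hd) y.2⟩
            left_inv := fun y => Subtype.ext (by simp [mul_assoc])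
            right_inv := fun y => Subtype.ext (by simp [mul_assoc])
            map_mul' := fun y z => Subtype.ext (by simp [mul_assoc]) }
        have h1 : e x ∈ (Q : Subgroup N).map e.toMonoidHom := ⟨x, hx, rfl⟩
        rw [Subgroup.characteristic_iff_map_eq.1 hQc e] at h1
        exact ⟨e x, h1, rfl⟩
      intro y hy
      exact Subgroup.mem_centralizer_singleton_iff.2
        (h.commute_of_normal_pGroup_member hfaith hP hfour
          ((hn ▸ hodd).of_dvd_nat (Subgroup.card_dvd_of_le (Subgroup.map_subtype_le _)))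
          ((Subgroup.map_subtype_le _).trans hNc) (Q.isPGroup'.map _) hnorm ht y hy).eq
    exact Subgroup.mem_centralizer_singleton_iff.1 (hle hg)
  · have hClt : Nat.card C < n := by
      rw [← hn]
      exact Set.ncard_lt_ncard (SetLike.coe_ssubset_coe.2 (inf_le_left.lt_of_ne hCN)) (Set.toFinite _)
    have hCodd : Odd (Nat.card C) := (hn ▸ hodd).of_dvd_nat (Subgroup.card_dvd_of_le inf_le_left)
    have hCt : ∀ y ∈ C, Commute y t := ih _ hClt C rfl (inf_le_left.trans hNc) hCn hCodd t ht
    have htc : t ∈ stabilizer G c := ht.2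
    set x := g⁻¹ * (t * g * t⁻¹) with hx
    have hxN : x ∈ N := N.mul_mem (N.inv_mem hg) (Coprime.mem_normalizer_conj (hNn htc) hg)
    have hxC : x ∈ C := by
      refine ⟨hxN, fun y hy => ?_⟩
      have hgy : g * y * g⁻¹ ∈ D := Coprime.mem_normalizer_conj (hDn (hNc hg)) hy
      have h1 : t * (g * y * g⁻¹) * t⁻¹ = g * y * g⁻¹ := by
        rw [← (hDt _ hgy).eq, mul_inv_cancel_right]
      have h2 : t⁻¹ * y * t = y := by
        rw [mul_assoc, (hDt y hy).eq, inv_mul_cancel_left]
      have h3 : t * g * t⁻¹ * y * (t * g * t⁻¹)⁻¹ = g * y * g⁻¹ := by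
        calc t * g * t⁻¹ * y * (t * g * t⁻¹)⁻¹ = t * g * (t⁻¹ * y * t) * g⁻¹ * t⁻¹ := by group
          _ = t * (g * y * g⁻¹) * t⁻¹ := by rw [h2]; group
          _ = g * y * g⁻¹ := h1
      have h4 : x * y * x⁻¹ = y := by
        calc x * y * x⁻¹ = g⁻¹ * (t * g * t⁻¹ * y * (t * g * t⁻¹)⁻¹) * g := by rw [hx]; group
          _ = y := by rw [h3]; group
      calc y * x = x * y * x⁻¹ * x := by rw [h4]
        _ = x * y := by rw [inv_mul_cancel_right]
    have hfix : t * x * t = x := by rw [← (hCt x hxC).eq, mul_assoc, ht2, mul_one]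
    have hinv : t * x * t = x⁻¹ := by
      rw [hx, htinv, mul_inv_rev, mul_inv_rev, mul_inv_rev, htinv, inv_inv]
      calc t * (g⁻¹ * (t * g * t)) * t = t * g⁻¹ * t * g * (t * t) := by group
        _ = t * (g⁻¹ * t) * g := by rw [ht2, mul_one]; group
    have hxx : x * x = 1 := by
      nth_rewrite 1 [← hfix]
      rw [hinv, inv_mul_cancel]
    have hx1 := RankOneInvol.eq_one_of_mem_of_sq (hn ▸ hodd) hxN hxx
    show g * t = t * g
    calc g * t = g * x * t := by rw [hx1, mul_one]
      _ = t * g := by rw [hx]; group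

end Setting

end CfsgLib.StrongCrit
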