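import Cfsg.Agent.Lib.StrongCrit.W1.Climb
import Cfsg.Agent.Lib.StrongCrit.W1.Good
import Cfsg.Agent.Lib.BenderTrans.Uniform
import Cfsg.Agent.Lib.OddOrder.TransitivityCriteria
import Cfsg.Agent.Lib.OddOrder.QuadStableProof

/-!
A member centralises every invariant `q`-group of odd prime `q` fixing its centre and a further
point.
-/

set_option autoImplicit false

namespace CfsgLib.StrongCrit.W1

open CfsgLib.Involutions CfsgLib.BenderTrans CfsgLib.OddOrder MulAction
open scoped Pointwise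

universe u

variable {G : Type u} [Group G] {Ω : Type u} [MulAction G Ω] {Z : Set G} {q : ℕ}

/-- A group of `q`-power order on top of the odd core has the same `q'`-core. -/
theorem oPrime_sup_eq [Finite G] [hq : Fact q.Prime] {P W : Subgroup G}
    (hW : W ≤ Subgroup.normalizer (P : Set G)) (hWq : IsPGroup q W) :
    oPrime q (P ⊔ W) = oPrime q P := by
  have hn : P ⊔ W ≤ Subgroup.normalizer (P : Set G) := sup_le Subgroup.le_normalizer hW
  refine le_antisymm ?_ (le_oPrime (p := q) ((oPrime_le P).trans le_sup_left)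
    (fun g hg => mem_normalizer_oPrime (hn hg)) (oPrime_coprime P))
  refine le_oPrime (p := q) (fun x hx => ?_) (le_sup_left.trans (oPrime_normal _))
    (oPrime_coprime _)
  obtain ⟨a, ha, w, hw, rfl⟩ : ∃ a ∈ P, ∃ w ∈ W, x = a * w := by
    have h1 : (x : G) ∈ ((P : Set G) * (W : Set G)) := by
      rw [← Subgroup.coe_mul_of_right_le_normalizer_left _ _ hW]
      exact oPrime_le _ hx
    obtain ⟨a, ha, w, hw, e⟩ := h1
    exact ⟨a, ha, w, hw, e.symm⟩
  -- the image of `a * w` modulo `P` is a `q`-element of order prime to `q`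
  have hP : (P.subgroupOf (P ⊔ W)).Normal :=
    (Subgroup.normal_subgroupOf_iff_le_normalizer le_sup_left).2 hn
  set π := QuotientGroup.mk' (P.subgroupOf (P ⊔ W))
  let x' : (P ⊔ W : Subgroup G) := ⟨a * w, oPrime_le _ hx⟩
  let w' : (P ⊔ W : Subgroup G) := ⟨w, Subgroup.mem_sup_right hw⟩
  let a' : (P ⊔ W : Subgroup G) := ⟨a, Subgroup.mem_sup_left ha⟩
  have he : π x' = π w' := by
    rw [show x' = a' * w' from rfl, map_mul,
      show π a' = 1 from (QuotientGroup.eq_one_iff a').2 ha, one_mul]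
  have h1 : orderOf (π w') ∣ orderOf w := by
    have := orderOf_map_dvd π w'
    rwa [← Subgroup.orderOf_coe w'] at this
  have h2 : orderOf (π w') ∣ Nat.card (oPrime q (P ⊔ W) : Subgroup G) := by
    rw [← he]
    refine (orderOf_map_dvd π x').trans ?_
    rw [← Subgroup.orderOf_coe x']
    exact Subgroup.orderOf_dvd_natCard _ hx
  obtain ⟨k, hk⟩ := IsPGroup.iff_orderOf.1 hWq ⟨w, hw⟩
  rw [← Subgroup.orderOf_coe] at hk
  have h3 : orderOf (π w') = 1 := by
    refine Nat.eq_one_of_dvd_coprimes ((oPrime_coprime (p := q) (P ⊔ W)).pow_right k) h2 ?_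
    exact hk ▸ h1
  have h4 : w ∈ P := (QuotientGroup.eq_one_iff w').1 (orderOf_eq_one_iff.1 h3)
  exact P.mul_mem ha h4

theorem map_conj_pairCore_le [Finite G] (g : G) (a b : Ω) :
    (pairCore G a b).map (MulAut.conj g).toMonoidHom ≤ pairCore G (g • a) (g • b) := by
  have : Fact (Nat.Prime 2) := ⟨Nat.prime_two⟩
  have h1 := oPrime_map_conj_le (q := 2) g (two G a b)
  rwa [map_conj_two] at h1

namespace Ctx

variable [Finite G] [Finite Ω] [hq : Fact q.Prime] (C : Ctx Ω Z q)
include C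

omit [Finite Ω] in
theorem card_oPrime_le {a b a' b' : Ω} (hab : a ≠ b) (hab' : a' ≠ b') :
    Nat.card (oPrime q (pairCore G a b)) ≤ Nat.card (oPrime q (pairCore G a' b')) := by
  obtain ⟨g, rfl, rfl⟩ := C.exists_map_pair hab hab'
  rw [← Subgroup.card_map_of_injective (f := (MulAut.conj g).toMonoidHom)
    (K := oPrime q (pairCore G a b)) (MulAut.conj g).injective]
  refine Subgroup.card_le_of_le ((oPrime_map_conj_le g _).trans (le_of_eq ?_))
  congr 1
  refine Subgroup.eq_of_le_of_card_ge (map_conj_pairCore_le g a b) ?_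
  rw [Subgroup.card_map_of_injective (MulAut.conj g).injective]
  have h2 := Subgroup.card_le_of_le (map_conj_pairCore_le g⁻¹ (g • a) (g • b))
  rwa [Subgroup.card_map_of_injective (MulAut.conj g⁻¹).injective, inv_smul_smul,
    inv_smul_smul] at h2

theorem false_of_top (hcore : CoreCentralZ Ω Z) {M U : Subgroup G} {a₀ b₀ : Ω}
    {W₀ : Subgroup G} (hT : Top Ω Z q M U a₀ b₀ W₀) : False := by
  have h := C.base
  have hp := hT.cfg.pure
  have hUn := hT.cfg.norm
  obtain ⟨c, z, u, hz, hzc, huM, hu', hUle, huU⟩ :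
      ∃ (c z : Ω) (u : G), z ∈ centres Ω M ∧ z ≠ c ∧ u ∈ M ∧ u ∈ invAt G c ∧ U ≤ two G c z ∧
        u ∈ Subgroup.normalizer (U : Set G) := by
    obtain ⟨c, hc, z, hz, hcz⟩ := id hp.multi
    obtain ⟨u, huM, hu⟩ := id hc
    exact ⟨c, z, u, hz, hcz.symm, huM, hu, fun g hg =>
      mem_two_iff.2 ⟨hT.cfg.fix c hc g hg, hT.cfg.fix z hz g hg⟩, hUn huM⟩
  have hu : u ∈ memAt Z c := ⟨hp.invol u huM hu'.1, hu'.2⟩
  have hc : c ∈ centres Ω M := mem_centres huM hu'
  have huz : u • z ∈ centres Ω M := smul_mem_centres huM hz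
  obtain ⟨hne, hsw⟩ := h.swapMem_of_memAt hzc hu
  obtain ⟨t, htM, ht, htu, hut⟩ := C.exists_partner_member hp huM hu'
  obtain ⟨W₁, hW₁, -⟩ := exists_sylowOf_ge (p := q)
    (bot_le : (⊥ : Subgroup G) ≤ M ⊓ two G z (u • z)) IsPGroup.of_bot
  obtain ⟨W₂, hW₂, -⟩ := exists_sylowOf_ge (p := q)
    (bot_le : (⊥ : Subgroup G) ≤ M ⊓ two G z c) IsPGroup.of_bot
  have hS₁ : SylowOf q W₁ (two G z (u • z)) := (hT.change C hz huz hne hW₁).sylowOf_two C
  have hS₂ : SylowOf q W₂ (two G z c) := (hT.change C hz hc hzc hW₂).sylowOf_two C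
  have hU₁ : U ≤ W₁ := hT.le_sylow hz huz hW₁
  have hU₂ : U ≤ W₂ := hT.le_sylow hz hc hW₂
  have hnc := hT.cfg.noncentral u huM hu'.1
  have hUodd := C.odd_card_pGroup hT.cfg.pgroup c
  -- the `q'`-core of the pair fixes the midpoint
  set X := oPrime q (pairCore G z (u • z)) with hXdef
  have hXodd : Odd (Nat.card X) :=
    (odd_pairCore z (u • z)).of_dvd_nat (Subgroup.card_dvd_of_le (oPrime_le _))
  have : Group.IsSolvable X := @CfsgLib.PF.oddSolvable X inferInstance inferInstance hXodd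
  have huX : u ∈ Subgroup.normalizer (X : Set G) :=
    mem_normalizer_oPrime (h.swap_normalizes_pairCore hsw)
  have hUX : U ≤ Subgroup.normalizer (X : Set G) := fun g hg =>
    mem_normalizer_oPrime (two_le_normalizer_pairCore z (u • z) (hS₁.1 (hU₁ hg)))
  have hXc : X ≤ stabilizer G c := by
    refine (le_of_centralizers (A := X) (Q := U) (S := X ⊓ stabilizer G c) hu'.1 hXodd
      hT.cfg.pgroup (oPrime_coprime _) huX hUX huU inf_le_left ?_ ?_ ?_ ?_).trans inf_le_right
    · exact Coprime.mem_normalizer_of_forall_conj fun x hx => ⟨Coprime.mem_normalizer_conj huX hx.1,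
        (stabilizer G c).mul_mem ((stabilizer G c).mul_mem hu.2 hx.2)
          ((stabilizer G c).inv_mem hu.2)⟩
    · exact fun y hy => Coprime.mem_normalizer_of_forall_conj fun x hx =>
        ⟨Coprime.mem_normalizer_conj (hUX hy) hx.1,
          (stabilizer G c).mul_mem ((stabilizer G c).mul_mem (mem_two_iff.1 (hUle hy)).1 hx.2)
            ((stabilizer G c).inv_mem (mem_two_iff.1 (hUle hy)).1)⟩
    · exact fun a ha hau => ⟨ha, h.fix_of_commute hu hau⟩
    · exact inf_le_inf_left _ (centralizer_commSub_le h C.faith C.pure hu ht htu hut huU (hUn htM)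
        (hT.cfg.fix c hc) hUodd hnc)
  have hXP : X ≤ pairCore G z c := fun g hg => by
    have h1 : g ∈ pairCore G z (u • z) ⊓ stabilizer G c := ⟨oPrime_le _ hg, hXc hg⟩
    rw [h.pairCore_inf_stabilizer_eq hne hsw hu.2] at h1
    exact h1.1
  -- the odd group on the pair `z, c`
  obtain ⟨s, hs⟩ : (swapMem Z z c).Nonempty := by
    refine Set.nonempty_of_ncard_ne_zero ?_
    rw [h.ncard_swapMem hzc]
    exact Nat.ne_of_gt ((Set.ncard_pos (Set.toFinite _)).2 (h.exists_memAt z))
  set D := pairCore G z c ⊔ W₂ with hD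
  have hDodd : Odd (Nat.card D) := (h.odd_sup_pairCore (C.ne_two c) hzc hS₂.1 hS₂.2.1 hs).1
  have : Group.IsSolvable D := @CfsgLib.PF.oddSolvable D inferInstance inferInstance hDodd
  have hW₂n : W₂ ≤ Subgroup.normalizer (pairCore G z c : Set G) :=
    hS₂.1.trans (two_le_normalizer_pairCore z c)
  have hDcore : oPrime q D = oPrime q (pairCore G z c) := oPrime_sup_eq hW₂n hS₂.2.1
  have hS₂D : SylowOf q W₂ D :=
    hS₂.mono (sup_le (pairCore_le z c) hS₂.1) le_sup_right
  have hXD : X ≤ D := hXP.trans le_sup_left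
  obtain ⟨T, hTW⟩ := hS₂D.toSylow
  have hTmem : ∀ x : D, x ∈ (T : Subgroup D) → (x : G) ∈ W₂ := fun x hx => hTW ▸ ⟨x, hx, rfl⟩
  have hUT : U.subgroupOf D ≤ (T : Subgroup D) := fun x hx => by
    have h1 : (x : G) ∈ W₂ := hU₂ hx
    rw [← hTW] at h1
    obtain ⟨y, hy, hye⟩ := h1
    obtain rfl : y = x := Subtype.ext hye
    exact hy
  have key : X.subgroupOf D ≤ Cfsg.pPrimeCore q D := by
    refine Criteria.inv_le_core_of_scn (Criteria.quadStable q) hDodd T
      (A := U.subgroupOf D) (W := U.subgroupOf D) le_rfl hUT ?_ Subgroup.le_normalizer ?_ ?_ ?_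
    · refine fun x hx => Coprime.mem_normalizer_of_forall_conj fun y hy => ?_
      have h1 : (x : G) * (y : G) * (x : G)⁻¹ ∈ U :=
        Coprime.mem_normalizer_conj (hT.cfg.norm (hW₂.1 (hTmem x hx)).1) (show (y : G) ∈ U from hy)
      exact h1
    · rintro x ⟨hxT, hxC⟩
      have hxW := hTmem x hxT
      have hUD : ∀ v ∈ U, v ∈ D := fun v hv => Subgroup.mem_sup_right (hU₂ hv)
      have hxk : (x : G) ∈ kerIn Ω M := hp.centralizer_le_kerIn h hUn huM hu'.1 hnc
        ⟨(hW₂.1 hxW).1, fun v hv => congrArg Subtype.val (hxC ⟨v, hUD v hv⟩ hv)⟩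
      exact hT.cfg.max_ker _ (Subgroup.zpowers_le.2 hxk)
        (hW₂.2.1.to_le (Subgroup.zpowers_le.2 hxW)) (Subgroup.mem_zpowers _)
    · rw [Nat.card_congr (Subgroup.subgroupOfEquivOfLe hXD).toEquiv]
      exact oPrime_coprime _
    · refine fun x hx => Coprime.mem_normalizer_of_forall_conj fun y hy => ?_
      have h1 : (x : G) * (y : G) * (x : G)⁻¹ ∈ X :=
        Coprime.mem_normalizer_conj (hUX (show (x : G) ∈ U from hx)) (show (y : G) ∈ X from hy)
      exact h1
  have hXle : X ≤ oPrime q D := fun g hg => ⟨⟨g, hXD hg⟩, key hg, rfl⟩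
  have hXeq : oPrime q (pairCore G z c) = X :=
    (Subgroup.eq_of_le_of_card_ge (hDcore ▸ hXle) (C.card_oPrime_le hzc hne)).symm
  obtain ⟨w, hwM, hw'⟩ := hp.exists_swap_centres h hz hc hzc
  have hw : w ∈ swapMem Z z c := ⟨hp.invol w hwM hw'.1, hw'.2⟩
  -- the common local subgroup
  obtain ⟨R, hRne, hRz, hDR, huR, hwR, hUR⟩ : ∃ R : Subgroup G, R ≠ ⊥ ∧ R ≤ stabilizer G z ∧
      pairCore G z c ≤ Subgroup.normalizer (R : Set G) ∧ u ∈ Subgroup.normalizer (R : Set G) ∧
      w ∈ Subgroup.normalizer (R : Set G) ∧ U ≤ Subgroup.normalizer (R : Set G) := by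
    by_cases hX1 : X = ⊥
    · have hM := hT.zj_normal C
      refine ⟨PLocal.zj 0 W₀, zj_ne_bot hT.syl.2.1 (hT.W_ne_bot C), ?_, ?_, hM huM, hM hwM,
        hT.cfg.le.trans hM⟩
      · rw [← hT.zj_eq C hz hc hzc hW₂]
        exact (PLocal.zj_le 0 W₂).trans (hS₂.1.trans (two_le_stabilizer z c))
      · rw [← hT.zj_eq C hz hc hzc hW₂]
        have h1 := le_sup_normalizer_zj hDodd (C.ne_two c) hS₂D
        rw [hDcore, hXeq, hX1, bot_sup_eq] at h1
        exact (le_sup_left.trans h1).trans inf_le_right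
    · refine ⟨X, hX1, (oPrime_le _).trans ((pairCore_le _ _).trans (two_le_stabilizer z _)), ?_,
        huX, ?_, hUX⟩
      · rw [← hXeq]; exact oPrime_normal _
      · rw [← hXeq]; exact mem_normalizer_oPrime (h.swap_normalizes_pairCore hw)
  set M' := Subgroup.normalizer (R : Set G) with hM'
  have hinv : memAt Z c ⊆ M' := by
    intro x hx
    obtain ⟨d, hd, rfl⟩ : x ∈ cls (pairCore G c z) u :=
      (h.cls_pairCore_memAt hzc.symm hu).symm ▸ hx
    rw [pairCore_comm] at hd
    exact M'.mul_mem (M'.mul_mem (hDR hd) huR) (M'.inv_mem (hDR hd))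
  have hcM' : c ∈ zCentres Ω Z M' := ⟨u, huR, hu.1, hu.2⟩
  have hzM' : z ∈ zCentres Ω Z M' := by
    have h1 := h.conj_memAt (g := w) hu
    rw [h.swap_symm hw] at h1
    exact ⟨_, M'.mul_mem (M'.mul_mem hwR huR) (M'.inv_mem hwR), h1.1, h1.2⟩
  have hne' : M' ≠ ⊤ := by
    intro htop
    refine hRne ((Subgroup.eq_bot_iff_forall R).2 fun x hx => C.faith x fun y => ?_)
    obtain ⟨g, rfl⟩ := h.trans z y
    exact BenderTrans.smul_mem_fixSet (show g ∈ M' from htop ▸ Subgroup.mem_top g)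
      (fun r hr => hRz hr) x hx
  have hMulti : ZMulti Ω Z M' := ⟨z, hzM', c, hcM', hzc⟩
  have hfour : ZFour Z M' := ⟨t, hinv ht, u, huR, ht.1, hu.1, htu, hut.symm⟩
  set M₁ := memIn Z M' ⊔ U with hM₁
  have hp₁ : IsPure Ω Z M₁ := isPure_sup h C.pure hne' hMulti hfour hUodd
    (hUR.trans (Subgroup.le_normalizer.trans (normalizer_le_normalizer_memIn h)))
  have hz₁ : z ∈ centres Ω M₁ := by
    obtain ⟨x, hx, hxZ, hxz⟩ := hzM'
    exact ⟨x, Subgroup.mem_sup_left (mem_memIn hxZ hx), h.invol x hxZ, hxz⟩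
  have hK := hp₁.commSub_le_kerIn h hz₁ hzc (Subgroup.mem_sup_left (mem_memIn hu.1 huR)) hu'
    (le_sup_right : U ≤ M₁) hT.cfg.pgroup hUle huU
  -- the commutator lies in the odd core of the group generated by the members at `c`
  set I := Subgroup.closure (memAt Z c) with hI
  have hIc : I ≤ stabilizer G c := (Subgroup.closure_le _).2 fun _ hx => hx.2
  have hIM : I ≤ M₁ := (Subgroup.closure_le _).2 fun x hx =>
    Subgroup.mem_sup_left (mem_memIn hx.1 (hinv hx))
  have hUc : ∀ g ∈ U, g • c = c := fun g hg => (mem_two_iff.1 (hUle hg)).1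
  have hcoreI : stabilizer G c ≤ Subgroup.normalizer (oPrime 2 I : Set G) := by
    intro d hd
    have : Fact (Nat.Prime 2) := ⟨Nat.prime_two⟩
    refine mem_normalizer_oPrime (q := 2) (Coprime.mem_normalizer_of_forall_conj fun x hx => ?_)
    have hle : I.map (MulAut.conj d).toMonoidHom ≤ I := by
      rw [hI, MonoidHom.map_closure]
      refine Subgroup.closure_mono ?_
      rintro _ ⟨y, hy, rfl⟩
      have := h.conj_memAt (g := d) hy
      rwa [(hd : d • c = c)] at this
    exact hle ⟨x, hx, rfl⟩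
  have hcore' : commSub U u ≤ oPrime 2 I := by
    refine (le_inf hK ((Subgroup.closure_le _).2 ?_)).trans
      (le_oPrime (p := 2) (inf_le_right : kerIn Ω M₁ ⊓ I ≤ I) ?_ ?_)
    · rintro _ ⟨_, ⟨g, hg, rfl⟩, rfl⟩
      refine I.mul_mem (Subgroup.subset_closure ?_) (Subgroup.subset_closure hu)
      have h1 := h.conj_memAt (g := g) hu
      rwa [hUc g hg] at h1
    · exact fun g hg => Coprime.mem_normalizer_of_forall_conj fun x hx =>
        ⟨Coprime.mem_normalizer_conj (le_normalizer_kerIn M₁ (hIM hg)) hx.1,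
          I.mul_mem (I.mul_mem hg hx.2) (I.inv_mem hg)⟩
    · rw [Nat.coprime_comm, Nat.coprime_two_left]
      exact (hp₁.odd_kerIn h).of_dvd_nat (Subgroup.card_dvd_of_le inf_le_left)
  obtain ⟨y, hy, hyu⟩ := hnc
  have hbig := exists_not_commute_commSub hu'.1 huU hUodd ⟨y, hy, hyu⟩
  have hscls : cls (commSub U u) u ⊆ {u} := by
    rintro _ ⟨g, hg, rfl⟩
    have h2 := hcore c (oPrime 2 I) ((oPrime_le _).trans hIc) hcoreI (odd_oPrime_two I) u hu g
      (hcore' hg)
    rw [Set.mem_singleton_iff, h2.eq, mul_inv_cancel_right]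
  exact absurd hbig (not_lt.2 ((Set.ncard_le_ncard hscls (Set.toFinite _)).trans
    (Set.ncard_singleton u).le))

/-- A member centralises every invariant `q`-group at its centre and a further point. -/
theorem centralForZ (hblock : BlockProp Ω Z) (hcore : CoreCentralZ Ω Z) : CentralForZ Ω Z q := by
  intro c z t hzc ht Y hY hYle htY
  by_contra hnc
  push Not at hnc
  obtain ⟨M, U, a₀, b₀, W₀, hT⟩ := C.exists_top hblock hzc ht hY hYle htY hnc
  exact C.false_of_top hcore hT

end Ctx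

/-- If `q` does not divide the number of members at a point, members centralise invariant
`q`-groups. -/
theorem centralForZ_of_not_dvd [Finite G] [Finite Ω] [Fact q.Prime] (h : Setting Ω Z) (hq2 : q ≠ 2)
    (hq : ∀ c : Ω, ¬ q ∣ (memAt Z c).ncard) : CentralForZ Ω Z q := by
  intro c z t hzc ht Y hY hYle htY y hy
  obtain ⟨hne, hsw⟩ := h.swapMem_of_memAt hzc ht
  have hYz : ∀ g ∈ Y, g ∈ two G z (t • z) := fun g hg => mem_two_iff.2 ⟨(mem_two_iff.1 (hYle hg)).2,
    BenderTrans.smul_mem_fixSet htY (fun g hg => (mem_two_iff.1 (hYle hg)).2) g hg⟩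
  obtain ⟨W, hW, hYW, hWn⟩ := h.exists_invariant_sylow_two hq2 hne hsw hYz hY htY
  have h1 := h.ncard_cls_invariant_sylow hq2 hne hsw hW hWn c
  rw [Nat.factorization_eq_zero_of_not_dvd (hq c), pow_zero, Set.ncard_eq_one] at h1
  obtain ⟨w, hw⟩ := h1
  have h2 : t ∈ cls W t := ⟨1, one_mem _, by simp⟩
  have h3 : y * t * y⁻¹ ∈ cls W t := ⟨y, hYW hy, rfl⟩
  rw [hw, Set.mem_singleton_iff] at h2 h3
  calc y * t = (y * t * y⁻¹) * y := by group
    _ = t * y := by rw [h3, ← h2]

end CfsgLib.StrongCrit.W1
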