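import Cfsg.Agent.Lib.StrongCrit.W1.Stable
import Cfsg.Agent.Lib.BenderTrans.Climb

/-!
In a largest configuration the centre of the Thompson subgroup of a pair Sylow subgroup is normal,
and the pair Sylow subgroups are Sylow subgroups of the pair stabilisers.
-/

set_option autoImplicit false

namespace CfsgLib.StrongCrit.W1

open CfsgLib.Involutions CfsgLib.BenderTrans CfsgLib.OddOrder MulAction
open CfsgLib.OddOrder.Quadratic (Quad quad_conj quad_of_commutator)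
open scoped commutatorElement

universe u

variable {G : Type u} [Group G] {Ω : Type u} [MulAction G Ω] {Z : Set G} {q : ℕ}

namespace Top

variable [Finite G] [Finite Ω] [hq : Fact q.Prime] {M U : Subgroup G} {a₀ b₀ : Ω} {W₀ : Subgroup G}
variable (hT : Top Ω Z q M U a₀ b₀ W₀) (C : Ctx Ω Z q)
include hT C

theorem change {a b : Ω} (ha : a ∈ centres Ω M) (hb : b ∈ centres Ω M) (hab : a ≠ b)
    {W : Subgroup G} (hW : SylowOf q W (M ⊓ two G a b)) : Top Ω Z q M U a b W := by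
  have e := hT.card_sylow C ha hb hab hW
  exact ⟨hT.cfg, ha, hb, hab, hW, by rw [e]; exact hT.moves, by rw [e]; exact hT.top⟩

/-- A `q`-subgroup of `M` fixes two centres. -/
theorem exists_fixed_pair {T : Subgroup G} (hTM : T ≤ M) (hTq : IsPGroup q T) :
    ∃ a ∈ centres Ω M, ∃ b ∈ centres Ω M, a ≠ b ∧ T ≤ M ⊓ two G a b := by
  have CS := hT.ctx_sect C
  obtain ⟨a, ha, b, hb, hab⟩ := (Set.one_lt_ncard (Set.toFinite _)).1
    (lt_of_lt_of_le one_lt_two (CS.two_le_ncard_fixSet (T := (T.subgroupOf M).map (sect Ω M))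
      ((hTq.comap_of_injective M.subtype M.subtype_injective).map _)))
  refine ⟨a, a.2, b, b.2, fun e => hab (Subtype.ext e), fun g hg => ⟨hTM hg, mem_two_iff.2
    ⟨congrArg Subtype.val (ha _ (mem_sect_map hg (hTM hg))),
      congrArg Subtype.val (hb _ (mem_sect_map hg (hTM hg)))⟩⟩⟩

theorem sylowOf_self : SylowOf q W₀ M := by
  refine ⟨hT.syl.1.trans inf_le_left, hT.syl.2.1, fun T hTM hTq hle => ?_⟩
  obtain ⟨a, ha, b, hb, hab, hTab⟩ := hT.exists_fixed_pair C hTM hTq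
  obtain ⟨R, hR, hTR⟩ := exists_sylowOf_ge hTab hTq
  exact (Subgroup.eq_of_le_of_card_ge hle (by
    rw [← hT.card_sylow C ha hb hab hR]; exact Subgroup.card_le_of_le hTR)).symm

/-- Normal `q`-subgroups fix all centres. -/
theorem normal_le_kerIn {V : Subgroup G} (hVM : V ≤ M) (hn : M ≤ Subgroup.normalizer (V : Set G))
    (hV : IsPGroup q V) : V ≤ kerIn Ω M := by
  obtain ⟨a, ha, b, -, -, hab⟩ := hT.exists_fixed_pair C hVM hV
  intro g hg
  exact mem_kerIn.2 ⟨hVM hg, fun x hx =>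
    hT.cfg.pure.fix_centres C.base hn ha (fun v hv => (mem_two_iff.1 (hab hv).2).1) x hx g hg⟩

theorem isPStableOn (P : Subgroup M) [P.Normal] (hP : IsPGroup q P) :
    Cfsg.IsPStableOn q P := by
  have h := C.base
  have hp := hT.cfg.pure
  set V := P.map M.subtype with hVdef
  have hVM : V ≤ M := Subgroup.map_subtype_le P
  have hn : M ≤ Subgroup.normalizer (V : Set G) := map_subtype_normalized P
  have hVq : IsPGroup q V := hP.map _
  have hVk := hT.normal_le_kerIn C hVM hn hVq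
  refine PLocal.isPStableOn_of_pElements hP fun a hao ha => ?_
  obtain ⟨k, hk⟩ := hao
  have hquadP : Quad P a := quad_of_commutator ha (Subgroup.mem_zpowers a)
  have hquad : Quad V (a : G) := by
    rintro _ ⟨v, hv, rfl⟩
    exact congrArg Subtype.val (hquadP v hv)
  have haq : IsPGroup q (Subgroup.zpowers (a : G)) :=
    IsPGroup.of_card (n := k) (by rw [Nat.card_zpowers, Subgroup.orderOf_coe, hk])
  rw [PLocal.mem_stabD_iff]
  set CP := Subgroup.centralizer (P : Set M) with hCP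
  by_cases hnc : ∀ i ∈ M, orderOf i = 2 → ∃ v ∈ V, ¬ Commute v i
  · have haU := hT.mem_of_quad C hVM hn hVq hnc a.2 haq hquad
    have hUn : (U.subgroupOf M).Normal :=
      (Subgroup.normal_subgroupOf_iff_le_normalizer hT.cfg.le).2 hT.cfg.norm
    exact PCore.le_pCore (hUn.map _ (QuotientGroup.mk'_surjective CP))
      ((hT.cfg.pgroup.comap_of_injective M.subtype M.subtype_injective).map _)
      ⟨a, haU, rfl⟩
  push Not at hnc
  obtain ⟨i₀, hi₀, hi₀o, hc₀⟩ := hnc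
  have hall : ∀ i ∈ M, orderOf i = 2 → ∀ v ∈ V, Commute v i := by
    intro i hi hio v hv
    obtain ⟨g, hg, rfl⟩ := hp.exists_conj_in h hi₀ hi hi₀o hio
    have h1 := (hc₀ _ (Coprime.mem_normalizer_conj' (hn hg) hv)).map (MulAut.conj g).toMonoidHom
    simpa [mul_assoc] using h1
  set CV := M ⊓ Subgroup.centralizer (V : Set G) with hZ
  have hinZ : ∀ i ∈ M, orderOf i = 2 → i ∈ CV := fun i hi hio => ⟨hi, fun v hv => hall i hi hio v hv⟩
  have hZcen : centres Ω CV = centres Ω M := by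
    ext x
    exact ⟨fun ⟨t, ht, hto, htx⟩ => ⟨t, ht.1, hto, htx⟩,
      fun ⟨t, ht, hto, htx⟩ => ⟨t, hinZ t ht hto, hto, htx⟩⟩
  have hZmulti : Multi Ω CV := by rw [Multi, hZcen]; exact hp.multi
  have hZfour : FourIn CV := by
    obtain ⟨s, hs, t, ht, hso, hto, hne, hco⟩ := hT.cfg.pure.four
    exact ⟨s, hinZ s hs hso, t, hinZ t ht hto, hso, hto, hne, hco⟩
  obtain ⟨p, hpm, p', hp', hpp, haD⟩ := hT.exists_fixed_pair C
    (T := Subgroup.zpowers (a : G)) (Subgroup.zpowers_le.2 a.2) haq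
  set D := M ⊓ two G p p' with hD
  have hDodd : Odd (Nat.card D) := hp.odd_two h hpp
  have : Group.IsSolvable D := @CfsgLib.PF.oddSolvable D inferInstance inferInstance hDodd
  let φ : D →* M ⧸ CP := (QuotientGroup.mk' CP).comp (Subgroup.inclusion inf_le_left)
  have hφ : Function.Surjective φ := by
    intro y
    obtain ⟨m, rfl⟩ := QuotientGroup.mk_surjective y
    obtain ⟨g, hg, hgp, hgp'⟩ := (hp.mono inf_le_left hZmulti hZfour : IsPure Ω Z CV).card_pair_eq h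
      (hZcen.symm ▸ hpm) (hZcen.symm ▸ hp') (hZcen.symm ▸ smul_mem_centres m.2 hpm)
      (hZcen.symm ▸ smul_mem_centres m.2 hp') hpp (fun e => hpp (MulAction.injective _ e))
    have hd : g⁻¹ * (m : G) ∈ D := by
      refine ⟨M.mul_mem (M.inv_mem hg.1) m.2, mem_two_iff.2 ⟨?_, ?_⟩⟩
      · rw [mul_smul, inv_smul_eq_iff, hgp]
      · rw [mul_smul, inv_smul_eq_iff, hgp']
    refine ⟨⟨_, hd⟩, ?_⟩
    show (QuotientGroup.mk (⟨g⁻¹ * (m : G), hd.1⟩ : M) : M ⧸ CP) = QuotientGroup.mk m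
    have e : (⟨g⁻¹ * (m : G), hd.1⟩ : M) = (⟨g, hg.1⟩ : M)⁻¹ * m := rfl
    have hgC : (⟨g, hg.1⟩ : M) ∈ CP := fun v hv => Subtype.ext (hg.2 _ ⟨v, hv, rfl⟩)
    rw [e, QuotientGroup.mk_mul, QuotientGroup.mk_inv, (QuotientGroup.eq_one_iff _).2 hgC, inv_one,
      one_mul]
  have : Group.IsSolvable (M ⧸ CP) := Group.isSolvable_of_surjective hφ
  have haD' : (a : G) ∈ D := haD (Subgroup.mem_zpowers _)
  have hVD : V ≤ D := fun v hv => ⟨hVM hv, kerIn_le_two hpm hp' (hVk hv)⟩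
  refine Quadratic.mem_pCore_of_conj_quotient (m := k) ?_ fun y => ?_
  · rw [← QuotientGroup.mk_pow, ← hk, pow_orderOf_eq_one]
    rfl
  · obtain ⟨d, rfl⟩ := hφ y
    have hn' : ∀ g : D, g ∈ Subgroup.normalizer ((V.subgroupOf D : Subgroup D) : Set D) := fun g => by
      have : (V.subgroupOf D).Normal :=
        (Subgroup.normal_subgroupOf_iff_le_normalizer hVD).2 (inf_le_left.trans hn)
      rw [Subgroup.normalizer_eq_top_iff.mpr this]; trivial
    have hquadD : Quad (V.subgroupOf D) (⟨a, haD'⟩ : D) := fun v hv => Subtype.ext (hquad v hv)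
    obtain ⟨n, hn2⟩ := Quadratic.exists_pow_mem_centralizer hDodd (C.ne_two a₀) (V.subgroupOf D)
      (hVq.comap_of_injective D.subtype D.subtype_injective)
      (a := (⟨a, haD'⟩ : D)) (b := d * ⟨a, haD'⟩ * d⁻¹) (hn' _) (hn' _) hquadD
      (quad_conj (hn' d) hquadD)
    refine ⟨n, ?_⟩
    have h1 : φ (((⟨a, haD'⟩ : D)⁻¹ * (d * ⟨a, haD'⟩ * d⁻¹)) ^ q ^ n) = 1 :=
      (QuotientGroup.eq_one_iff _).2 fun v hv => by
        have h3 := hn2 ⟨(v : G), hVD ⟨v, hv, rfl⟩⟩ ⟨v, hv, rfl⟩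
        exact Subtype.ext (congrArg Subtype.val h3 :)
    rw [map_pow, map_mul, map_inv, map_mul, map_mul, map_inv] at h1
    exact h1

theorem zj_le : PLocal.zj 0 W₀ ≤ U := fun x hx => by
  have hxW : x ∈ W₀ := PLocal.zj_le 0 W₀ hx
  exact hT.mem_of_quad C hT.cfg.le hT.cfg.norm hT.cfg.pgroup hT.cfg.noncentral (hT.syl.1 hxW).1
    (isPGroup_zpowers_of_mem hT.syl.2.1 hxW) (quad_of_zj (hT.le_sylow hT.ha hT.hb hT.syl) hx)

/-- The centre of the Thompson subgroup is normal in `M`. -/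
theorem zj_normal :
    M ≤ Subgroup.normalizer (PLocal.zj 0 W₀ : Set G) := by
  obtain ⟨S, hS⟩ := (hT.sylowOf_self C).toSylow
  have hUn : (U.subgroupOf M).Normal :=
    (Subgroup.normal_subgroupOf_iff_le_normalizer hT.cfg.le).2 hT.cfg.norm
  have h1 := PLocal.inf_zj_normal (e := 0) (C.ne_two a₀) (Or.inl rfl)
    (fun P _ hP => hT.isPStableOn C P hP) S (U.subgroupOf M)
    (hT.cfg.pgroup.comap_of_injective M.subtype M.subtype_injective)
  have e : PLocal.zj 0 W₀ = (PLocal.zj 0 (S : Subgroup M)).map M.subtype := by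
    rw [← PLocal.zj_map M.subtype_injective, hS]
  have h2 : PLocal.zj 0 (S : Subgroup M) ≤ U.subgroupOf M := by
    intro x hx
    exact hT.zj_le C (e ▸ ⟨x, hx, rfl⟩)
  rw [inf_eq_right.2 h2] at h1
  rw [e]
  exact map_subtype_normalized _

/-- Different pairs give the same centre of the Thompson subgroup. -/
theorem zj_eq {a b : Ω} (ha : a ∈ centres Ω M) (hb : b ∈ centres Ω M)
    (hab : a ≠ b) {W : Subgroup G} (hW : SylowOf q W (M ⊓ two G a b)) :
    PLocal.zj 0 W = PLocal.zj 0 W₀ := by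
  obtain ⟨d, hd, rfl⟩ :=
    exists_conj_sylowOf (hT.sylowOf_self C) ((hT.change C ha hb hab hW).sylowOf_self C)
  rw [PLocal.zj_map (MulAut.conj d).injective, map_conj_of_mem_normalizer (hT.zj_normal C hd)]

theorem exists_centre_pair : ∃ (c z : Ω) (u : G), z ∈ centres Ω M ∧ z ≠ c ∧ u ∈ M ∧
    u ∈ invAt G c ∧ U ≤ two G c z ∧ u ∈ Subgroup.normalizer (U : Set G) := by
  obtain ⟨c, hc, z, hz, hcz⟩ := id hT.cfg.pure.multi
  obtain ⟨u, huM, hu⟩ := id hc
  exact ⟨c, z, u, hz, hcz.symm, huM, hu,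
    fun g hg => mem_two_iff.2 ⟨hT.cfg.fix c hc g hg, hT.cfg.fix z hz g hg⟩, hT.cfg.norm huM⟩

theorem W_ne_bot : W₀ ≠ ⊥ := by
  obtain ⟨c, z, u, -, -, huM, hu, -, -⟩ := hT.exists_centre_pair C
  obtain ⟨y, hy, hyu⟩ := hT.cfg.noncentral u huM hu.1
  intro e
  have h1 := hT.le_sylow hT.ha hT.hb hT.syl hy
  rw [e, Subgroup.mem_bot] at h1
  exact hyu (h1 ▸ Commute.one_left u)

/-- Pair Sylow subgroups of `M` are Sylow subgroups of the pair stabilisers. -/
theorem sylowOf_two : SylowOf q W₀ (two G a₀ b₀) := by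
  have h := C.base
  obtain ⟨P, hP, hWP⟩ := exists_sylowOf_ge (hT.syl.1.trans inf_le_right) hT.syl.2.1
  rcases hWP.eq_or_lt with rfl | hlt
  · exact hP
  exfalso
  set ZJ := PLocal.zj 0 W₀ with hZ
  set M' := Subgroup.normalizer (ZJ : Set G) with hM'
  have hMM' : M ≤ M' := hT.zj_normal C
  have hgrow := lt_normalizer_inf hP.2.1 hlt
  have hne : M' ≠ ⊤ := by
    intro htop
    refine zj_ne_bot hT.syl.2.1 (hT.W_ne_bot C) ((Subgroup.eq_bot_iff_forall ZJ).2 fun x hx =>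
      C.faith x fun w => ?_)
    obtain ⟨g, rfl⟩ := h.trans a₀ w
    exact smul_mem_fixSet (show g ∈ M' from htop ▸ Subgroup.mem_top g)
      (fun y hy => (mem_two_iff.1 (hT.syl.1 (PLocal.zj_le 0 W₀ hy)).2).1) x hx
  have hcmono : ∀ x ∈ centres Ω M, x ∈ centres Ω M' := fun x ⟨t, ht, ht'⟩ => ⟨t, hMM' ht, ht'⟩
  have hp := hT.cfg.pure
  have hmem : ∀ t ∈ M, orderOf t = 2 → t ∈ memIn Z M' := fun t ht ht2 =>
    mem_memIn (hp.invol t ht ht2) (hMM' ht)
  have hMulti : ZMulti Ω Z M' := by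
    obtain ⟨a, ⟨s, hs, hs2, hsa⟩, b, ⟨t, ht, ht2, htb⟩, hab⟩ := id hp.multi
    exact ⟨a, ⟨s, hMM' hs, hp.invol s hs hs2, hsa⟩, b, ⟨t, hMM' ht, hp.invol t ht ht2, htb⟩, hab⟩
  have hfour : ZFour Z M' := by
    obtain ⟨s, hs, t, ht, hs2, ht2, hr⟩ := hp.four
    exact ⟨s, hMM' hs, t, hMM' ht, hp.invol s hs hs2, hp.invol t ht ht2, hr⟩
  obtain ⟨W', hW', hTW⟩ := exists_sylowOf_ge (M := M' ⊓ two G a₀ b₀)
    (le_inf (inf_le_left.trans (PLocal.normalizer_le_normalizer_zj 0 W₀)) (inf_le_right.trans hP.1) :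
      Subgroup.normalizer (W₀ : Set G) ⊓ P ≤ _) (hP.2.1.to_le inf_le_right)
  have hW'M : W' ≤ M' := hW'.1.trans inf_le_left
  have hWn' : W' ≤ Subgroup.normalizer (memIn Z M' : Set G) := hW'M.trans
    (Subgroup.le_normalizer.trans (normalizer_le_normalizer_memIn h))
  have hL : IsPure Ω Z (memIn Z M' ⊔ W') :=
    isPure_sup h C.pure hne hMulti hfour (C.odd_card_pGroup hW'.2.1 a₀) hWn'
  set L := memIn Z M' ⊔ W' with hLdef
  have hLM : L ≤ M' := sup_le (memIn_le Z M') hW'M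
  have hcmono : ∀ x ∈ centres Ω M, x ∈ centres Ω L := fun x ⟨t, ht, ht'⟩ =>
    ⟨t, Subgroup.mem_sup_left (hmem t ht ht'.1), ht'⟩
  obtain ⟨c, z, u, hz, hzc, huM, hu, hUle, huU⟩ := hT.exists_centre_pair C
  have hUW : U ≤ W' := (hT.le_sylow hT.ha hT.hb hT.syl).trans
    (le_trans (le_inf Subgroup.le_normalizer hWP) hTW)
  obtain ⟨M'', hcfg, hM''le, hWM'', hcen⟩ := C.config_of hL (hcmono _ hT.ha) (hcmono _ hT.hb)
    (hW'.mono (inf_le_inf_right _ hLM) (le_inf le_sup_right (hW'.1.trans inf_le_right)))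
    (hcmono _ hz) hzc (Subgroup.mem_sup_left (hmem u huM hu.1)) hu (hUW.trans le_sup_right)
    hT.cfg.pgroup hUle huU (hT.cfg.noncentral u huM hu.1)
  have h1 := (hT.top M'' _ a₀ b₀ W' hcfg (hcen.symm ▸ hcmono _ hT.ha) (hcen.symm ▸ hcmono _ hT.hb)
    hT.hne (hW'.mono (inf_le_inf_right _ (hM''le.trans hLM))
      (le_inf hWM'' (hW'.1.trans inf_le_right)))).1
  exact absurd h1 (not_le.2 (Set.ncard_lt_ncard (Set.ssubset_of_ssubset_of_subset
    (SetLike.coe_ssubset_coe.2 hgrow) hTW) (Set.toFinite _)))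

end Top

end CfsgLib.StrongCrit.W1
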