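import Cfsg.Agent.Lib.StrongCrit.W1.Ctx

/-!
Configurations inside pure subgroups.
-/

set_option autoImplicit false

namespace CfsgLib.StrongCrit.W1

open CfsgLib.Involutions CfsgLib.BenderTrans CfsgLib.OddOrder MulAction

universe u

variable {G : Type u} [Group G] {Ω : Type u} [MulAction G Ω] {Z : Set G} {q : ℕ}

namespace IsPure

variable {M : Subgroup G} (hp : IsPure Ω Z M) (h : Setting Ω Z)
include hp h

omit hp h in
/-- Two involutions of a section that commute lift to a four group. -/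
theorem fourIn_of_commute_mod [Finite G] {N : Subgroup G} {i j : G} (hiN : i ∈ N)
    (hjN : j ∈ N) (hi : orderOf i = 2) (hj : orderOf j = 2) (hne : i * j ∉ kerIn Ω M)
    (hc : i * j * (i * j) ∈ kerIn Ω M) : FourIn N := by
  by_cases hij : Commute i j
  · exact ⟨i, hiN, j, hjN, hi, hj, fun e => hne (by
      rw [e, mul_self_eq_one hj]; exact one_mem _), hij⟩
  have heven : Even (orderOf (i * j)) := by
    rw [← Nat.not_odd_iff_even]
    intro ho
    obtain ⟨k, hk⟩ := RankOneInvol.exists_pow_sq_eq ho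
    refine hne ?_
    rw [← hk, ← (Commute.refl (i * j)).mul_pow]
    exact pow_mem hc k
  obtain ⟨hw, hwi, -⟩ := central_involution hi hj heven
  refine ⟨_, pow_mem (N.mul_mem hiN hjN) _, i, hiN, hw, hi, fun e => hij ?_, hwi⟩
  have h1 := ((Commute.refl (i * j)).pow_left (orderOf (i * j) / 2))
  rw [e] at h1
  exact mul_left_cancel (a := i) (h1.eq.trans (mul_assoc i j i))

/-- Commutators with an involution of an invariant `q`-group lie in the kernel. -/
theorem commSub_le_kerIn [Finite G] [Finite Ω] [Fact q.Prime] {c z : Ω} (hz : z ∈ centres Ω M)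
    (hzc : z ≠ c) {u : G} (huM : u ∈ M) (hu : u ∈ invAt G c) {Y : Subgroup G} (hYM : Y ≤ M)
    (hY : IsPGroup q Y) (hYle : Y ≤ two G c z) (huY : u ∈ Subgroup.normalizer (Y : Set G)) :
    commSub Y u ≤ kerIn Ω M := by
  refine (Subgroup.closure_le _).2 ?_
  rintro _ ⟨_, ⟨y, hy, rfl⟩, rfl⟩
  have h1 := hp.centralFor_sect h q ⟨c, mem_centres huM hu⟩ ⟨z, hz⟩ (sect Ω M ⟨u, huM⟩)
    (fun e => hzc (congrArg Subtype.val e)) (hp.sect_mem_invAt h huM hu)
    ((Y.subgroupOf M).map (sect Ω M))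
    ((hY.comap_of_injective M.subtype M.subtype_injective).map _) ?_
    (OneFix.sect_mem_normalizer huM huY) _ (mem_sect_map hy (hYM hy))
  · have h2 := (commute_sect_iff (hYM hy) huM).1 h1
    rwa [inv_eq_self_of_involution hu.1] at h2
  · rintro _ ⟨w, hw, rfl⟩
    exact mem_two_iff.2 ⟨Subtype.ext (mem_two_iff.1 (hYle hw)).1,
      Subtype.ext (mem_two_iff.1 (hYle hw)).2⟩

/-- All pairs of centres of a pure subgroup are conjugate in it. -/
theorem card_pair_eq [Finite G] [Finite Ω] {a b a' b' : Ω} (ha : a ∈ centres Ω M)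
    (hb : b ∈ centres Ω M) (ha' : a' ∈ centres Ω M) (hb' : b' ∈ centres Ω M) (hab : a ≠ b)
    (hab' : a' ≠ b') : ∃ g ∈ M, g • a = a' ∧ g • b = b' := by
  obtain ⟨g0, hg0, hga⟩ : ∃ g ∈ M, g • a = a' := by
    rcases eq_or_ne a a' with rfl | hne
    · exact ⟨1, one_mem _, one_smul G a⟩
    · obtain ⟨r, hrM, hr⟩ := hp.exists_swap_centres h ha ha' hne
      exact ⟨r, hrM, hr.2⟩
  have hne : g0 • b ≠ a' := fun e => hab (MulAction.injective g0 (hga.trans e.symm))
  obtain ⟨d, hda, hdb⟩ := (hp.concl_sect h).trans2 ⟨a', ha'⟩ ⟨g0 • b, smul_mem_centres hg0 hb⟩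
    ⟨b', hb'⟩ (fun e => hne (congrArg Subtype.val e))
    (fun e => hab' (congrArg Subtype.val e).symm)
  obtain ⟨m, rfl⟩ := sect_surjective M d
  exact ⟨(m : G) * g0, M.mul_mem m.2 hg0, by rw [mul_smul, hga]; exact congrArg Subtype.val hda,
    by rw [mul_smul]; exact congrArg Subtype.val hdb⟩

end IsPure

/-- An involution can be moved by a normalised odd group into the normaliser of its Sylow subgroup. -/
theorem exists_mem_normalizer_conj [Finite G] [Fact q.Prime] {D W : Subgroup G}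
    (hodd : Odd (Nat.card D)) (hW : SylowOf q W D) {i : G} (hi : orderOf i = 2)
    (hn : i ∈ Subgroup.normalizer (D : Set G)) {c : Ω} (hc : i • c = c)
    (hDc : c ∈ BenderTrans.fixSet Ω D) :
    ∃ k ∈ D, k * i * k⁻¹ ∈ Subgroup.normalizer (W : Set G) ∧ k * i * k⁻¹ ∈ invAt G c := by
  obtain ⟨k, hk, hkn⟩ := exists_conj_normalizes hodd hi hn hW
  have h1 := conj_mem_invAt (g := k) (show i ∈ invAt G c from ⟨hi, hc⟩)
  rw [hDc k hk] at h1
  exact ⟨k, hk, hkn, h1⟩

namespace Ctx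

variable [Finite G] [Finite Ω] [hq : Fact q.Prime] (C : Ctx Ω Z q)
include C

/-- The configuration obtained from a pure subgroup with a noncentral invariant `q`-group. -/
theorem config_of {M : Subgroup G} (hp : IsPure Ω Z M) {a b : Ω} (ha : a ∈ centres Ω M)
    (hb : b ∈ centres Ω M) {W : Subgroup G} (hW : SylowOf q W (M ⊓ two G a b)) {c z : Ω}
    (hz : z ∈ centres Ω M) (hzc : z ≠ c) {u : G} (huM : u ∈ M) (hu : u ∈ invAt G c)
    {Y : Subgroup G} (hYM : Y ≤ M) (hY : IsPGroup q Y) (hYle : Y ≤ two G c z)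
    (huY : u ∈ Subgroup.normalizer (Y : Set G)) (hnc : ∃ y ∈ Y, ¬ Commute y u) :
    ∃ M' : Subgroup G, Cfg Ω Z q M' (W ⊓ kerIn Ω M) ∧ M' ≤ M ∧ W ≤ M' ∧
      centres Ω M' = centres Ω M := by
  have h := C.base
  set K := kerIn Ω M with hKdef
  set U := W ⊓ K with hUdef
  have hU : SylowOf q U K :=
    sylowOf_inf_normal hW (le_inf (kerIn_le M) (kerIn_le_two ha hb))
      (inf_le_left.trans (le_normalizer_kerIn M))
  have hKodd := hp.odd_kerIn h
  set M' := M ⊓ Subgroup.normalizer (U : Set G) with hM'def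
  have hlift : ∀ i ∈ M, ∀ x : Ω, i ∈ invAt G x →
      ∃ k ∈ K, k * i * k⁻¹ ∈ M' ∧ k * i * k⁻¹ ∈ invAt G x := by
    intro i hiM x hi
    obtain ⟨k, hk, hkn, hkx⟩ := exists_mem_normalizer_conj hKodd hU hi.1
      (le_normalizer_kerIn M hiM) hi.2
      (fun g hg => (mem_kerIn.1 hg).2 x (mem_centres hiM hi))
    exact ⟨k, hk, ⟨M.mul_mem (M.mul_mem hk.1 hiM) (M.inv_mem hk.1), hkn⟩, hkx⟩
  have hcen : centres Ω M' = centres Ω M := by
    ext x
    constructor
    · rintro ⟨t, htM, ht⟩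
      exact ⟨t, htM.1, ht⟩
    · rintro ⟨t, htM, ht⟩
      obtain ⟨k, -, hk1, hk2⟩ := hlift t htM x ht
      exact mem_centres hk1 hk2
  have hMulti' : Multi Ω M' := by rw [Multi, hcen]; exact hp.multi
  have hsect : ∀ k ∈ K, ∀ i (hi : i ∈ M), ∀ hki : k * i * k⁻¹ ∈ M,
      sect Ω M ⟨k * i * k⁻¹, hki⟩ = sect Ω M ⟨i, hi⟩ := by
    intro k hk i hi hki
    have e : (⟨k * i * k⁻¹, hki⟩ : M) = ⟨k, hk.1⟩ * ⟨i, hi⟩ * ⟨k, hk.1⟩⁻¹ := rfl
    rw [e, map_mul, map_mul, map_inv, (sect_eq_one_iff_kerIn hk.1).2 hk]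
    simp
  have h4' : FourIn M' := by
    obtain ⟨s, hsM, t, htM, hs, ht, hst, hcomm⟩ := hp.four
    obtain ⟨x, -, hx⟩ := hp.exists_fix h hsM hs
    obtain ⟨k, hk, hk1, hk2⟩ := hlift s hsM x ⟨hs, hx⟩
    obtain ⟨l, hl, hl1, hl2⟩ := hlift t htM x ⟨ht, hp.fix_of_commute h hsM ⟨hs, hx⟩ hcomm.symm⟩
    have e : sect Ω M (⟨_, hk1.1⟩ * ⟨_, hl1.1⟩) = sect Ω M (⟨s, hsM⟩ * ⟨t, htM⟩) := by
      rw [map_mul, map_mul, hsect k hk s hsM hk1.1, hsect l hl t htM hl1.1]
    have hcomm' : Commute (⟨s, hsM⟩ : M) ⟨t, htM⟩ := Subtype.ext hcomm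
    refine IsPure.fourIn_of_commute_mod (Ω := Ω) (M := M) hk1 hl1 hk2.1 hl2.1 (fun hmem => ?_) ?_
    · have h1 := (sect_eq_one_iff_kerIn (M.mul_mem hk1.1 hl1.1)).2 hmem
      have h2 : s * t ∈ K := by
        rw [hKdef, ← sect_eq_one_iff_kerIn (M.mul_mem hsM htM)]
        exact e.symm.trans h1
      have h3 : orderOf (s * t) = 2 := by
        refine orderOf_eq_two_iff_mul.2 ⟨fun e1 => hst ?_, ?_⟩
        · rw [eq_inv_of_mul_eq_one_left e1, inv_eq_self_of_involution ht]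
        · calc s * t * (s * t) = s * (t * s) * t := by group
            _ = s * s * (t * t) := by rw [← hcomm.eq]; group
            _ = 1 := by rw [mul_self_eq_one hs, mul_self_eq_one ht, one_mul]
      have h4 := hKodd.of_dvd_nat (Subgroup.orderOf_dvd_natCard _ h2)
      rw [h3] at h4
      exact absurd h4 (by decide)
    · rw [← sect_eq_one_iff_kerIn (M.mul_mem (M.mul_mem hk1.1 hl1.1) (M.mul_mem hk1.1 hl1.1))]
      show sect Ω M ((⟨_, hk1.1⟩ * ⟨_, hl1.1⟩) * (⟨_, hk1.1⟩ * ⟨_, hl1.1⟩)) = 1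
      rw [map_mul, e, ← map_mul]
      have : (⟨s, hsM⟩ * ⟨t, htM⟩ : M) * (⟨s, hsM⟩ * ⟨t, htM⟩) = 1 := by
        apply Subtype.ext
        show s * t * (s * t) = 1
        calc s * t * (s * t) = s * (t * s) * t := by group
          _ = s * s * (t * t) := by rw [← hcomm.eq]; group
          _ = 1 := by rw [mul_self_eq_one hs, mul_self_eq_one ht, one_mul]
      rw [this, map_one]
  have hWU : W ≤ Subgroup.normalizer (U : Set G) := fun w hw =>
    Coprime.mem_normalizer_of_forall_conj fun x hx =>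
      ⟨W.mul_mem (W.mul_mem hw hx.1) (W.inv_mem hw),
        Coprime.mem_normalizer_conj (le_normalizer_kerIn M (hW.1 hw).1) hx.2⟩
  have hUK : U ≤ kerIn Ω M := inf_le_right
  have hp' : IsPure Ω Z M' := hp.mono inf_le_left hMulti' h4'
  refine ⟨M', ⟨hp', le_inf (hUK.trans (kerIn_le M)) Subgroup.le_normalizer, inf_le_right,
    hU.2.1, ?_, ?_, ?_⟩, inf_le_left, le_inf (hW.1.trans inf_le_left) hWU, hcen⟩
  · intro x hx g hg
    exact (mem_kerIn.1 (hUK hg)).2 x (hcen ▸ hx)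
  · intro T hT hTq
    have hTK : T ≤ K := fun g hg => mem_kerIn.2
      ⟨((kerIn_le M') (hT hg)).1, fun x hx => (mem_kerIn.1 (hT hg)).2 x (hcen.symm ▸ hx)⟩
    have h1 : IsPGroup q (T ⊔ U : Subgroup G) :=
      hTq.to_sup_of_normal_right' hU.2.1 (fun g hg => ((kerIn_le M') (hT hg)).2)
    exact le_sup_left.trans (hU.2.2 _ (sup_le hTK hUK) h1 le_sup_right).le
  · -- a conjugate of `u` is noncentral on `U`
    have hY1 : commSub Y u ≤ K := hp.commSub_le_kerIn h hz hzc huM hu hYM hY hYle huY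
    have hYodd : Odd (Nat.card Y) :=
      (hp.odd_two h hzc.symm).of_dvd_nat (Subgroup.card_dvd_of_le (le_inf hYM hYle))
    have hbig := exists_not_commute_commSub hu.1 huY hYodd hnc
    obtain ⟨U'', hU'', hYU'', hun⟩ := exists_invariant_sylowOf_ge hKodd hu.1
      (le_normalizer_kerIn M huM) hY1 (hY.to_le (commSub_le hu.1 huY))
      (self_mem_normalizer_commSub hu.1)
    obtain ⟨d, hd, rfl⟩ := exists_conj_sylowOf hU hU''
    set u' := d⁻¹ * u * d with hu'def
    have hdM : d ∈ M := hd.1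
    have hu'M : u' ∈ M' := by
      refine ⟨M.mul_mem (M.mul_mem (M.inv_mem hdM) huM) hdM,
        Coprime.mem_normalizer_of_forall_conj fun x hx => ?_⟩
      obtain ⟨x', hx', e⟩ := Coprime.mem_normalizer_conj hun
        (show d * x * d⁻¹ ∈ U.map (MulAut.conj d).toMonoidHom from ⟨x, hx, rfl⟩)
      have e' : d * x' * d⁻¹ = u * (d * x * d⁻¹) * u⁻¹ := e
      have : u' * x * u'⁻¹ = x' := by
        calc u' * x * u'⁻¹ = d⁻¹ * (u * (d * x * d⁻¹) * u⁻¹) * d := by rw [hu'def]; group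
          _ = x' := by rw [← e']; group
      rw [this]; exact hx'
    have hu'o : orderOf u' = 2 := by
      have := (orderOf_conj_eq d⁻¹ u).trans hu.1
      rwa [inv_inv] at this
    obtain ⟨y0, hy0, hy0'⟩ : ∃ y ∈ U, ¬ Commute y u' := by
      by_contra hall
      push Not at hall
      have hall' : ∀ y ∈ commSub Y u, Commute y u := by
        intro y hy
        obtain ⟨x, hx, rfl⟩ := hYU'' hy
        have h1 := (hall x hx).map (MulAut.conj d).toMonoidHom
        have e : (MulAut.conj d).toMonoidHom u' = u := by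
          show d * (d⁻¹ * u * d) * d⁻¹ = u
          group
        rwa [e] at h1
      have hs : cls (commSub Y u) u ⊆ {u} := by
        rintro _ ⟨y, hy, rfl⟩
        rw [Set.mem_singleton_iff, (hall' y hy).eq, mul_inv_cancel_right]
      exact absurd hbig (not_lt.2 ((Set.ncard_le_ncard hs (Set.toFinite _)).trans
        (Set.ncard_singleton u).le))
    intro i hi hio
    obtain ⟨g, hg, rfl⟩ := hp'.exists_conj_in h hu'M hi hu'o hio
    refine ⟨g * y0 * g⁻¹, Coprime.mem_normalizer_conj hg.2 hy0, fun hc => hy0' ?_⟩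
    have h1 := hc.map (MulAut.conj g⁻¹).toMonoidHom
    simpa [mul_assoc] using h1

end Ctx

end CfsgLib.StrongCrit.W1
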