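import Cfsg.Agent.Lib.StrongCrit.W1.Pure
import Cfsg.Agent.Lib.StrongCrit.W1.Pair

/-!
The standing context for a prime dividing the number of members at a point once transitivity is
known, and configurations: pure subgroups whose largest normal `q`-subgroup fixing all centres is
not centralised by their involutions.
-/

set_option autoImplicit false

namespace CfsgLib.StrongCrit.W1

open CfsgLib.Involutions CfsgLib.BenderTrans CfsgLib.OddOrder MulAction

universe u

variable {G : Type u} [Group G] {Ω : Type u} [MulAction G Ω] {Z : Set G} {q : ℕ}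

/-- A member centralises the `q`-groups it normalises at its centre and a further point. -/
def CentralForZ (Ω : Type u) [MulAction G Ω] (Z : Set G) (q : ℕ) : Prop :=
  ∀ (c z : Ω) (t : G), z ≠ c → t ∈ memAt Z c → ∀ Y : Subgroup G, IsPGroup q Y → Y ≤ two G c z →
    t ∈ Subgroup.normalizer (Y : Set G) → ∀ y ∈ Y, Commute y t

/-- The block statement: if the members normalising `Y` have several centres but no two commute,
some two further points have their common stabiliser in `N(Y)` fixing the centre of a given member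
not centralising `Y`. -/
def BlockProp (Ω : Type u) [MulAction G Ω] (Z : Set G) : Prop :=
  ∀ (Y : Subgroup G) (c : Ω) (u : G), u ∈ memAt Z c → u ∈ Subgroup.normalizer (Y : Set G) →
    (∃ y ∈ Y, ¬ Commute y u) → ZMulti Ω Z (Subgroup.normalizer (Y : Set G)) →
    ¬ ZFour Z (Subgroup.normalizer (Y : Set G)) →
    ∃ z ∈ zCentres Ω Z (Subgroup.normalizer (Y : Set G)), z ≠ c ∧
      two G z (u • z) ⊓ Subgroup.normalizer (Y : Set G) ≤ stabilizer G c

/-- The setting with the conclusions of the transitivity theorem for the prime `q`. -/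
structure Ctx (Ω : Type u) [MulAction G Ω] (Z : Set G) (q : ℕ) : Prop where
  base : Setting Ω Z
  faith : ∀ g : G, (∀ x : Ω, g • x = x) → g = 1
  pure : PureBelow Ω Z
  four : ∀ c : Ω, ∃ s ∈ memAt Z c, ∃ t ∈ memAt Z c, s ≠ t ∧ Commute s t
  trans2 : TwoTrans G Ω
  fix_pair : ∀ a b : Ω, a ≠ b → ∀ W : Subgroup G, SylowOf q W (two G a b) →
    BenderTrans.fixSet Ω W = {a, b} ∧ SylowOf q W (stabilizer G a)
  dvd : ∀ c : Ω, q ∣ (memAt Z c).ncard

/-- A configuration. -/
structure Cfg (Ω : Type u) [MulAction G Ω] (Z : Set G) (q : ℕ) (M U : Subgroup G) : Prop where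
  pure : IsPure Ω Z M
  le : U ≤ M
  norm : M ≤ Subgroup.normalizer (U : Set G)
  pgroup : IsPGroup q U
  fix : ∀ x ∈ centres Ω M, x ∈ BenderTrans.fixSet Ω U
  max_ker : ∀ T : Subgroup G, T ≤ kerIn Ω M → IsPGroup q T → T ≤ U
  noncentral : ∀ i ∈ M, orderOf i = 2 → ∃ y ∈ U, ¬ Commute y i

namespace Ctx

variable [Finite G] [Finite Ω] [hq : Fact q.Prime] (C : Ctx Ω Z q)
include C

omit [Finite G] [Finite Ω] hq in
theorem exists_map_pair {a b a' b' : Ω} (hab : a ≠ b) (hab' : a' ≠ b') :
    ∃ g : G, g • a = a' ∧ g • b = b' := by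
  obtain ⟨g, rfl⟩ := C.base.trans a a'
  have hne : g • b ≠ g • a := fun e => hab (MulAction.injective g e).symm
  obtain ⟨d, hd, hdb⟩ := C.trans2 (g • a) (g • b) b' hne hab'.symm
  exact ⟨d * g, by rw [mul_smul, hd], by rw [mul_smul, hdb]⟩

omit [Finite G] [Finite Ω] hq in
theorem card_two_eq {a b a' b' : Ω} (hab : a ≠ b) (hab' : a' ≠ b') :
    Nat.card (two G a b) = Nat.card (two G a' b') := by
  obtain ⟨g, rfl, rfl⟩ := C.exists_map_pair hab hab'
  rw [← map_conj_two, Subgroup.card_map_of_injective (MulAut.conj g).injective]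

omit [Finite Ω] hq in
theorem ne_two (c : Ω) : q ≠ 2 := C.base.ne_two_of_dvd (C.dvd c)

omit [Finite Ω] in
/-- A `q`-group fixing a point fixes a second one. -/
theorem exists_second {T : Subgroup G} (hT : IsPGroup q T) {a : Ω}
    (ha : a ∈ BenderTrans.fixSet Ω T) : ∃ b, b ≠ a ∧ b ∈ BenderTrans.fixSet Ω T := by
  obtain ⟨y, hy⟩ := C.base.nontriv a
  obtain ⟨P, hP, -⟩ := exists_sylowOf_ge (p := q) (bot_le : (⊥ : Subgroup G) ≤ two G a y)
    IsPGroup.of_bot
  obtain ⟨hfix, hsyl⟩ := C.fix_pair a y hy.symm P hP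
  obtain ⟨Q, hQ, hTQ⟩ := exists_sylowOf_ge (M := stabilizer G a) (Q := T) ha hT
  obtain ⟨d, hd, rfl⟩ := exists_conj_sylowOf hsyl hQ
  have hda : d • a = a := hd
  refine ⟨d • y, fun e => hy (MulAction.injective d (e.trans hda.symm)),
    BenderTrans.fixSet_anti hTQ ?_⟩
  rw [fixSet_map_conj, hfix]
  exact ⟨y, Set.mem_insert_of_mem _ rfl, rfl⟩

omit [Finite G] [Finite Ω] hq in
/-- A Sylow subgroup of a pair moves the centre of a swapper. -/
theorem not_mem_fixSet {a b e : Ω} (hab : a ≠ b) {r : G} (hr : r ∈ swapMem Z a b)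
    (he : r • e = e) {W : Subgroup G} (hW : SylowOf q W (two G a b)) :
    e ∉ BenderTrans.fixSet Ω W := by
  rw [(C.fix_pair a b hab W hW).1]
  obtain ⟨h1, h2⟩ := C.base.swap_ne_centre hab hr he
  rintro (rfl | rfl)
  · exact h1 rfl
  · exact h2 rfl

omit [Finite Ω] hq in
/-- Two commuting members at every point. -/
theorem exists_partner_member {M : Subgroup G} (hM : IsPure Ω Z M) {u : G} {c : Ω} (huM : u ∈ M)
    (hu : u ∈ invAt G c) : ∃ t ∈ M, t ∈ memAt Z c ∧ t ≠ u ∧ Commute u t := by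
  obtain ⟨s, hs, t, ht, hs2, ht2, hne, hcomm⟩ := hM.four
  obtain ⟨g, hg, rfl⟩ := hM.exists_conj_in C.base hs huM hs2 hu.1
  have htM : g * t * g⁻¹ ∈ M := M.mul_mem (M.mul_mem hg ht) (M.inv_mem hg)
  have hc : Commute (g * s * g⁻¹) (g * t * g⁻¹) := hcomm.map (MulAut.conj g).toMonoidHom
  refine ⟨_, htM, ⟨hM.invol _ htM ((orderOf_conj_eq g t).trans ht2), ?_⟩,
    fun e => hne (by simpa using e.symm), hc⟩
  exact hM.fix_of_commute C.base huM hu hc.symm

end Ctx

/-- What centralises `[S,u]` fixes the centre of `u`, if a member commuting with `u` also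
normalises `S`. -/
theorem centralizer_commSub_le [Finite G] (h : Setting Ω Z)
    (hfaith : ∀ g : G, (∀ x : Ω, g • x = x) → g = 1) (hP : PureBelow Ω Z) {S : Subgroup G}
    {c : Ω} {u t : G} (hu : u ∈ memAt Z c) (ht : t ∈ memAt Z c) (htu : t ≠ u) (hut : Commute u t)
    (huS : u ∈ Subgroup.normalizer (S : Set G)) (htS : t ∈ Subgroup.normalizer (S : Set G))
    (hSc : c ∈ BenderTrans.fixSet Ω S) (hodd : Odd (Nat.card S)) (hnc : ∃ y ∈ S, ¬ Commute y u) :
    Subgroup.centralizer (commSub S u : Set G) ≤ stabilizer G c := by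
  have hu2 := h.invol u hu.1
  set Q := commSub S u with hQ
  have hQc : c ∈ BenderTrans.fixSet Ω Q := BenderTrans.fixSet_anti (commSub_le hu2 huS) hSc
  have huQ : u ∈ Subgroup.normalizer (Q : Set G) := self_mem_normalizer_commSub hu2
  have htQ : t ∈ Subgroup.normalizer (Q : Set G) := by
    refine Coprime.mem_normalizer_of_forall_conj fun x hx => ?_
    have h1 : (commSub S u).map (MulAut.conj t).toMonoidHom = commSub S u := by
      have e : t * u * t⁻¹ = u := by rw [← hut.eq, mul_inv_cancel_right]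
      rw [commSub_map_conj, map_conj_of_mem_normalizer htS, e]
    have h2 : (MulAut.conj t).toMonoidHom x ∈ (commSub S u).map (MulAut.conj t).toMonoidHom :=
      ⟨x, hx, rfl⟩
    rw [h1] at h2
    exact h2
  have hQu : ∃ y ∈ Q, ¬ Commute y u := by
    by_contra hall
    push Not at hall
    have hbig := exists_not_commute_commSub hu2 huS hodd hnc
    refine absurd hbig (not_lt.2 ((Set.ncard_le_ncard (t := {u}) ?_ (Set.toFinite _)).trans
      (Set.ncard_singleton u).le))
    rintro _ ⟨y, hy, rfl⟩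
    rw [Set.mem_singleton_iff, (hall y hy).eq, mul_inv_cancel_right]
  intro g hg
  set N := Subgroup.normalizer (Q : Set G)
  have hgN : g ∈ N := Subgroup.centralizer_le_normalizer _ hg
  by_cases hM : ZMulti Ω Z N
  · have hne : N ≠ ⊤ := by
      intro htop
      obtain ⟨y, hy, hyu⟩ := hQu
      refine hyu ?_
      have : y = 1 := hfaith y fun w => by
        obtain ⟨k, rfl⟩ := h.trans c w
        exact BenderTrans.smul_mem_fixSet (show k ∈ N from htop ▸ Subgroup.mem_top k) hQc y hy
      rw [this]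
      exact Commute.one_left u
    exact centralizer_fix h hP hne hM ⟨t, htQ, u, huQ, ht.1, hu.1, htu, hut.symm⟩ hu.1 huQ hQu hg c
      ⟨u, huQ, hu.1, hu.2⟩
  · show g • c = c
    by_contra hgc
    have h1 := h.conj_memAt (g := g) hu
    exact hM ⟨_, ⟨_, N.mul_mem (N.mul_mem hgN huQ) (N.inv_mem hgN), h1.1, h1.2⟩, c,
      ⟨u, huQ, hu.1, hu.2⟩, hgc⟩

end CfsgLib.StrongCrit.W1
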