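import Cfsg.Agent.Lib.StrongCrit.W1.Top
import Cfsg.Agent.Lib.BenderTrans.Stable
import Cfsg.Agent.Lib.PF.OddOrder

/-!
In a largest configuration an element acting quadratically on a noncentral normal `q`-subgroup lies
in the kernel part.
-/

set_option autoImplicit false

namespace CfsgLib.StrongCrit.W1

open CfsgLib.Involutions CfsgLib.BenderTrans CfsgLib.OddOrder MulAction
open CfsgLib.OddOrder.Quadratic (Quad quad_conj)
open scoped commutatorElement

universe u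

variable {G : Type u} [Group G] {Ω : Type u} [MulAction G Ω] {Z : Set G} {q : ℕ}

/-- Involutions in the group generated by two elements quadratic on a noncentral normal subgroup of
a pure subgroup commute with them modulo the kernel. -/
theorem IsPure.commute_sect_of_quad [Finite G] [Finite Ω] [hq : Fact q.Prime] {M V : Subgroup G}
    (hp : IsPure Ω Z M) (h : Setting Ω Z) (hq2 : q ≠ 2) (hVM : V ≤ M)
    (hn : M ≤ Subgroup.normalizer (V : Set G)) (hV : IsPGroup q V)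
    (hnc : ∀ i ∈ M, orderOf i = 2 → ∃ v ∈ V, ¬ Commute v i) {x y j : G} (hx : x ∈ M) (hy : y ∈ M)
    (hqx : Quad V x) (hqy : Quad V y) (hj : j ∈ Subgroup.closure ({x, y} : Set G))
    (hjj : j * j = 1) :
    ⁅j, x⁆ ∈ kerIn Ω M ∧ ⁅j, y⁆ ∈ kerIn Ω M := by
  have hjM : j ∈ M := (Subgroup.closure_le M).2 (by rintro _ (rfl | rfl) <;> assumption) hj
  have hcen : ∀ z : centres Ω M, z ∈ centres (centres Ω M) (⊤ : Subgroup M) := by
    rintro ⟨z, t, htM, ht, htz⟩
    exact mem_centres (Subgroup.mem_top (⟨t, htM⟩ : M))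
      ⟨by rw [← Subgroup.orderOf_coe]; exact ht, Subtype.ext htz⟩
  obtain ⟨a, ha, b, hb, hab⟩ := id hp.multi
  obtain ⟨s, hsM, t, htM, hs, ht, hst, hc⟩ := id hp.four
  have hj' : (⟨j, hjM⟩ : M) ∈ Subgroup.closure ({⟨x, hx⟩, ⟨y, hy⟩} : Set M) := by
    have h1 : j ∈ (Subgroup.closure ({⟨x, hx⟩, ⟨y, hy⟩} : Set M)).map M.subtype := by
      rwa [MonoidHom.map_closure, Set.image_pair]
    obtain ⟨z, hz, e⟩ := h1
    rwa [show (⟨j, hjM⟩ : M) = z from Subtype.ext e.symm]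
  have hnorm : (⊤ : Subgroup M) ≤ Subgroup.normalizer ((V.subgroupOf M : Subgroup M) : Set M) := by
    have : (V.subgroupOf M).Normal := (Subgroup.normal_subgroupOf_iff_le_normalizer hVM).2 hn
    rw [Subgroup.normalizer_eq_top_iff.mpr this]
  have hker : ∀ z : M, z ∈ kerIn (centres Ω M) (⊤ : Subgroup M) → (z : G) ∈ kerIn Ω M := fun z hz =>
    mem_kerIn.2 ⟨z.2, fun w hw => congrArg Subtype.val ((mem_kerIn.1 hz).2 _ (hcen ⟨w, hw⟩))⟩
  obtain ⟨h1, h2⟩ := (hp.oneFix_sub h).commute_sect_of_quad (q := q) hq2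
    (M := ⊤) (V := V.subgroupOf M) ⟨⟨a, ha⟩, hcen _, ⟨b, hb⟩, hcen _, fun e => hab
      (congrArg Subtype.val e)⟩
    ⟨⟨s, hsM⟩, trivial, ⟨t, htM⟩, trivial, by rw [← Subgroup.orderOf_coe]; exact hs,
      by rw [← Subgroup.orderOf_coe]; exact ht, fun e => hst (congrArg Subtype.val e),
      Subtype.ext hc⟩
    le_top hnorm (hV.comap_of_injective M.subtype M.subtype_injective)
    (fun i _ hi => by
      obtain ⟨v, hv, hvi⟩ := hnc i i.2 (by rw [Subgroup.orderOf_coe]; exact hi)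
      exact ⟨⟨v, hVM hv⟩, hv, fun e => hvi (congrArg Subtype.val e)⟩)
    (x := ⟨x, hx⟩) (y := ⟨y, hy⟩) (j := ⟨j, hjM⟩) trivial trivial
    (fun v hv => Subtype.ext (hqx v hv)) (fun v hv => Subtype.ext (hqy v hv)) hj'
    (Subtype.ext hjj)
  exact ⟨hker _ h1, hker _ h2⟩

namespace Top

variable [Finite G] [Finite Ω] [hq : Fact q.Prime] {M U : Subgroup G} {a₀ b₀ : Ω} {W₀ : Subgroup G}
variable (hT : Top Ω Z q M U a₀ b₀ W₀) (C : Ctx Ω Z q)
include hT C

omit hq in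
theorem centralizer_le_kerIn {V : Subgroup G} (hn : M ≤ Subgroup.normalizer (V : Set G))
    (hnc : ∀ i ∈ M, orderOf i = 2 → ∃ v ∈ V, ¬ Commute v i) :
    M ⊓ Subgroup.centralizer (V : Set G) ≤ kerIn Ω M := by
  refine hT.cfg.pure.le_kerIn_of_odd C.base inf_le_left (fun g hg =>
    Coprime.mem_normalizer_of_forall_conj fun x hx => ⟨M.mul_mem (M.mul_mem hg hx.1) (M.inv_mem hg),
      mem_normalizer_centralizer (hn hg) x hx.2⟩) ?_
  rw [← Nat.not_even_iff_odd]
  intro hev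
  obtain ⟨i, hi, hio⟩ := exists_involution_of_even_card _ hev
  obtain ⟨v, hv, hvi⟩ := hnc i hi.1 hio
  exact hvi (hi.2 v hv)

theorem pairQuad {V : Subgroup G} (hVM : V ≤ M) (hn : M ≤ Subgroup.normalizer (V : Set G))
    (hV : IsPGroup q V) (hnc : ∀ i ∈ M, orderOf i = 2 → ∃ v ∈ V, ¬ Commute v i) {x : G}
    (hx : x ∈ M) (hquad : Quad V x) :
    PairQuad q (sect Ω M ⟨x, hx⟩) := by
  have h := C.base
  have hp := hT.cfg.pure
  have hq2 := C.ne_two a₀
  have hlift : ∀ ib : Sect Ω M, orderOf ib = 2 → ∃ (i : G) (hi : i ∈ M), orderOf i = 2 ∧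
      sect Ω M ⟨i, hi⟩ = ib := by
    intro ib hib
    obtain ⟨⟨i, hiM⟩, hi, rfl⟩ := hp.exists_lift h hib
    exact ⟨i, hiM, by rw [← hi]; exact (Subgroup.orderOf_coe (⟨i, hiM⟩ : M)), rfl⟩
  have hodd' : Odd (Nat.card (kerIn Ω M)) := hp.odd_kerIn h
  -- the preimage group
  have hpre : ∀ (i : G) (hi : i ∈ M), orderOf i = 2 →
      let H := Subgroup.closure ({x, i * x * i} : Set G)
      H ≤ M ∧ Quad V (i * x * i) ∧
        (H.subgroupOf M).map (sect Ω M) = Subgroup.closure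
          {sect Ω M ⟨x, hx⟩, sect Ω M ⟨i, hi⟩ * sect Ω M ⟨x, hx⟩ * sect Ω M ⟨i, hi⟩} := by
    intro i hi hio H
    have hy : i * x * i ∈ M := M.mul_mem (M.mul_mem hi hx) hi
    refine ⟨(Subgroup.closure_le M).2 (by rintro _ (rfl | rfl) <;> assumption), ?_, ?_⟩
    · have h1 := quad_conj (hn hi) hquad
      rwa [inv_eq_self_of_involution hio] at h1
    · have h1 : H.subgroupOf M = Subgroup.closure {⟨x, hx⟩, ⟨i * x * i, hy⟩} := by
        refine Subgroup.map_injective M.subtype_injective ?_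
        rw [Subgroup.map_subgroupOf_eq_of_le ((Subgroup.closure_le M).2
          (by rintro _ (rfl | rfl) <;> assumption)), MonoidHom.map_closure, Set.image_pair]
        rfl
      rw [h1, MonoidHom.map_closure, Set.image_pair, ← map_mul, ← map_mul]
      rfl
  constructor
  · intro ib hib hoddH
    obtain ⟨i, hi, hio, rfl⟩ := hlift ib hib
    obtain ⟨hHM, hqy, hmap⟩ := hpre i hi hio
    set H := Subgroup.closure ({x, i * x * i} : Set G)
    rw [← hmap] at hoddH ⊢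
    have hHodd : Odd (Nat.card H) := by
      rw [← Nat.not_even_iff_odd]
      intro hev
      obtain ⟨j, hj, hjo⟩ := exists_involution_of_even_card H hev
      have hj' : orderOf (⟨j, hHM hj⟩ : M) = 2 := by rw [← Subgroup.orderOf_coe]; exact hjo
      have h1 := hoddH.of_dvd_nat (Subgroup.orderOf_dvd_natCard _
        (mem_sect_map (Ω := Ω) hj (hHM hj)))
      rw [hp.invol_sect h hj'] at h1
      exact absurd h1 (by decide)
    -- the odd solvable group generated by `H` and `V`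
    set X := H ⊔ V with hX
    have hXodd : Odd (Nat.card X) := by
      have hHV : H ≤ Subgroup.normalizer (V : Set G) := hHM.trans hn
      have hVodd : Odd (Nat.card V) := by
        obtain ⟨k, hk⟩ := hV.exists_card_eq
        rw [hk]
        exact (hq.out.odd_of_ne_two hq2).pow
      have h1 : Nat.card X ∣ Nat.card H * Nat.card V := Coprime.card_sup_dvd hHV
      exact (hHodd.mul hVodd).of_dvd_nat h1
    have : Group.IsSolvable X := @CfsgLib.PF.oddSolvable X inferInstance inferInstance hXodd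
    have hVn : (V.subgroupOf X).Normal :=
      (Subgroup.normal_subgroupOf_iff_le_normalizer le_sup_right).2
        (sup_le (hHM.trans hn) Subgroup.le_normalizer)
    set CX := Subgroup.centralizer ((V.subgroupOf X : Subgroup X) : Set X) with hCX
    set R := (Cfsg.pCore q (X ⧸ CX)).comap (QuotientGroup.mk' CX) with hR
    have hgen : ∀ z ∈ H, Quad V z → (∃ k, z ^ q ^ k ∈ Subgroup.centralizer (V : Set G)) →
        ∀ hz : z ∈ X, (⟨z, hz⟩ : X) ∈ R := by
      intro z hzH hzq hzk hz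
      obtain ⟨k, hk⟩ := hzk
      have hquad' : Quad (V.subgroupOf X) (⟨z, hz⟩ : X) := fun v hv => Subtype.ext (hzq v hv)
      refine Quadratic.mem_pCore_of_conj_quotient (m := k) ?_ fun y => ?_
      · rw [← map_pow]
        exact (QuotientGroup.eq_one_iff _).2 fun v hv => Subtype.ext (hk v hv)
      · obtain ⟨y, rfl⟩ := QuotientGroup.mk_surjective y
        obtain ⟨n, hn⟩ := Quadratic.exists_pow_mem_centralizer hXodd hq2 (V.subgroupOf X)
          (hV.comap_of_injective X.subtype X.subtype_injective)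
          (a := (⟨z, hz⟩ : X)) (b := y * ⟨z, hz⟩ * y⁻¹)
          (Subgroup.normalizer_eq_top_iff.mpr hVn ▸ Subgroup.mem_top _)
          (Subgroup.normalizer_eq_top_iff.mpr hVn ▸ Subgroup.mem_top _) hquad'
          (quad_conj (Subgroup.normalizer_eq_top_iff.mpr hVn ▸ Subgroup.mem_top _) hquad')
        refine ⟨n, ?_⟩
        exact (QuotientGroup.eq_one_iff _).2 hn
    have hHR : H ≤ R.map X.subtype := by
      have hp : ∀ z : G, z ∈ M → Quad V z → ∃ k, z ^ q ^ k ∈ Subgroup.centralizer (V : Set G) := by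
        intro z hz hzq
        obtain ⟨k, hk⟩ := hV.exists_card_eq
        refine ⟨k, fun v hv => ?_⟩
        set c := ⁅z, v⁆ with hc
        have hcV : c ∈ V := V.mul_mem (Coprime.mem_normalizer_conj (hn hz) hv) (V.inv_mem hv)
        have hcz : Commute z c := hzq v hv
        have h1 : ∀ n : ℕ, z ^ n * v * (z ^ n)⁻¹ = c ^ n * v := by
          intro n
          induction n with
          | zero => simp
          | succ n ih =>
            have e : z * v * z⁻¹ = c * v := by rw [hc, commutatorElement_def]; group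
            calc z ^ (n + 1) * v * (z ^ (n + 1))⁻¹ = z * (z ^ n * v * (z ^ n)⁻¹) * z⁻¹ := by
                  rw [pow_succ']; group
              _ = (z * c ^ n * z⁻¹) * (z * v * z⁻¹) := by rw [ih]; group
              _ = c ^ (n + 1) * v := by
                  rw [(hcz.pow_right n).eq, mul_inv_cancel_right, e, ← mul_assoc, ← pow_succ]
        have h2 := h1 (q ^ k)
        have h3 : c ^ q ^ k = 1 := by
          rw [← hk]
          exact orderOf_dvd_iff_pow_eq_one.1 (Subgroup.orderOf_dvd_natCard V hcV)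
        rw [h3, one_mul] at h2
        calc v * z ^ q ^ k = (z ^ q ^ k * v * (z ^ q ^ k)⁻¹) * z ^ q ^ k := by rw [h2]
          _ = z ^ q ^ k * v := by group
      refine (Subgroup.closure_le _).2 ?_
      have hxH : x ∈ H := Subgroup.subset_closure (Set.mem_insert _ _)
      have hyH : i * x * i ∈ H := Subgroup.subset_closure (Set.mem_insert_of_mem _ rfl)
      rintro _ (rfl | rfl)
      · exact ⟨⟨_, Subgroup.mem_sup_left hxH⟩, hgen _ hxH hquad (hp _ hx hquad) _, rfl⟩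
      · exact ⟨⟨_, Subgroup.mem_sup_left hyH⟩, hgen _ hyH hqy (hp _ (hHM hyH) hqy) _, rfl⟩
    refine isPGroup_map_of_le (sect Ω M) fun g hg => ?_
    obtain ⟨g', hg', hge⟩ := hHR hg
    obtain ⟨k, hk⟩ := (PCore.pCore_isPGroup (p := q) (G := X ⧸ CX)) ⟨_, hg'⟩
    refine ⟨k, ?_⟩
    have h1 : g' ^ q ^ k ∈ CX := by
      rw [← QuotientGroup.eq_one_iff]
      exact congrArg Subtype.val hk
    have h2 : ((g : M) : G) ^ q ^ k ∈ M ⊓ Subgroup.centralizer (V : Set G) := by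
      refine ⟨M.pow_mem g.2 _, fun v hv => ?_⟩
      have h3 := congrArg Subtype.val (h1 ⟨v, Subgroup.mem_sup_right hv⟩ hv)
      change (g' : G) = (g : G) at hge
      simpa [← hge] using h3
    rw [← map_pow]
    exact (sect_eq_one_iff_kerIn (g ^ q ^ k).2).2 (hT.centralizer_le_kerIn C hn hnc h2)
  · intro ib hib jb hjb hjo
    obtain ⟨i, hi, hio, rfl⟩ := hlift ib hib
    obtain ⟨hHM, hqy, hmap⟩ := hpre i hi hio
    rw [← hmap] at hjb
    obtain ⟨g, hgH, hgj⟩ := hjb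
    have hgH' : (g : G) ∈ Subgroup.closure ({x, i * x * i} : Set G) := hgH
    have hk : g * g ∈ (sect Ω M).ker := by
      rw [MonoidHom.mem_ker, map_mul, hgj, mul_self_eq_one hjo]
    obtain ⟨k, hk2⟩ : Odd (orderOf (g * g)) :=
      (hp.odd_card_ker_sect h).of_dvd_nat (Subgroup.orderOf_dvd_natCard _ hk)
    set g' : M := g ^ (2 * k + 1) with hg'
    have hg'g : g' * g' = 1 := by
      rw [hg', ← (Commute.refl g).mul_pow, ← hk2, pow_orderOf_eq_one]
    have hg'j : sect Ω M g' = jb := by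
      rw [hg', map_pow, hgj, pow_succ, pow_mul, pow_two, mul_self_eq_one hjo, one_pow, one_mul]
    obtain ⟨h1, h2⟩ := hp.commute_sect_of_quad h hq2 hVM hn hV hnc hx
      (M.mul_mem (M.mul_mem hi hx) hi) hquad hqy (j := (g' : G))
      (by rw [hg']; exact pow_mem hgH' _) (congrArg Subtype.val hg'g)
    rw [← hg'j]
    refine ⟨(commute_sect_iff g'.2 hx).2 h1, ?_⟩
    rw [← map_mul, ← map_mul]
    exact (commute_sect_iff g'.2 (M.mul_mem (M.mul_mem hi hx) hi)).2 h2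

theorem mem_of_quad {V : Subgroup G} (hVM : V ≤ M)
    (hn : M ≤ Subgroup.normalizer (V : Set G)) (hV : IsPGroup q V)
    (hnc : ∀ i ∈ M, orderOf i = 2 → ∃ v ∈ V, ¬ Commute v i) {x : G} (hx : x ∈ M)
    (hxq : IsPGroup q (Subgroup.zpowers x)) (hquad : Quad V x) : x ∈ U := by
  have h := C.base
  have hp := hT.cfg.pure
  have CS := hT.ctx_sect C
  by_contra hxU
  have hxk : x ∉ kerIn Ω M := fun hk =>
    hxU (hT.cfg.max_ker _ (Subgroup.zpowers_le.2 hk) hxq (Subgroup.mem_zpowers x))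
  set xb := sect Ω M ⟨x, hx⟩ with hxb
  have hxbq : IsPGroup q (Subgroup.zpowers xb) := by
    rw [hxb, ← MonoidHom.map_zpowers]
    refine IsPGroup.map ?_ _
    obtain ⟨k, hk⟩ := hxq.exists_card_eq
    refine IsPGroup.of_card (n := k) ?_
    rw [Nat.card_zpowers, ← Subgroup.orderOf_coe, ← Nat.card_zpowers]
    exact hk
  obtain ⟨a, b, W', Xb, hab, hW', hxX, hXW, hWX, haC, hbC, h4C, hoddX⟩ :=
    CS.exists_normal_line (hp.centralFor_sect h q) hxbq
      (hT.pairQuad C hVM hn hV hnc hx hquad)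
  have habG : (a : Ω) ≠ b := fun e => hab (Subtype.ext e)
  -- lift the Sylow subgroup
  obtain ⟨W1, hW1, rfl⟩ : ∃ W1, SylowOf q W1 (M ⊓ two G (a : Ω) b) ∧
      W' = (W1.subgroupOf M).map (sect Ω M) := by
    obtain ⟨W, hW, -⟩ := exists_sylowOf_ge (p := q) (bot_le : (⊥ : Subgroup G) ≤ M ⊓ two G (a : Ω) b)
      IsPGroup.of_bot
    obtain ⟨d, hd, rfl⟩ := exists_conj_sylowOf (OneFix.sylowOf_sect a b hW) hW'
    rw [OneFix.two_sect] at hd
    obtain ⟨m, hm, rfl⟩ := hd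
    refine ⟨W.map (MulAut.conj (m : G)).toMonoidHom,
      sylowOf_conj hW (Subgroup.le_normalizer ⟨m.2, hm⟩), ?_⟩
    ext s
    constructor
    · rintro ⟨_, ⟨w, hw, rfl⟩, rfl⟩
      exact ⟨m * w * m⁻¹, ⟨w, hw, rfl⟩, by simp⟩
    · rintro ⟨g, ⟨w, hw, hwe⟩, rfl⟩
      refine ⟨sect Ω M ⟨w, (hW.1 hw).1⟩, mem_sect_map hw (hW.1 hw).1, ?_⟩
      have e : g = m * ⟨w, (hW.1 hw).1⟩ * m⁻¹ := Subtype.ext hwe.symm
      rw [e, map_mul, map_mul, map_inv]
      rfl
  set Kt := (Xb.comap (sect Ω M)).map M.subtype with hKt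
  have hKtM : Kt ≤ M := Subgroup.map_subtype_le _
  have hfixKt : ∀ p : centres Ω M, p ∈ fixSet (centres Ω M) Xb → (p : Ω) ∈ fixSet Ω Kt := by
    intro p hp g hg
    obtain ⟨hgM, hgX⟩ := sect_comap_mem.1 hg
    exact congrArg Subtype.val (hp _ hgX)
  have hKtn : ∀ m : M, sect Ω M m ∈ Subgroup.normalizer (Xb : Set (Sect Ω M)) →
      (m : G) ∈ Subgroup.normalizer (Kt : Set G) := by
    intro m hm
    refine Coprime.mem_normalizer_of_forall_conj fun g hg => ?_
    obtain ⟨hgM, hgX⟩ := sect_comap_mem.1 hg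
    refine sect_comap_mem.2 ⟨M.mul_mem (M.mul_mem m.2 hgM) (M.inv_mem m.2), ?_⟩
    have e : (⟨(m : G) * g * (m : G)⁻¹, M.mul_mem (M.mul_mem m.2 hgM) (M.inv_mem m.2)⟩ : M) =
        m * ⟨g, hgM⟩ * m⁻¹ := rfl
    rw [e, map_mul, map_mul, map_inv]
    exact Coprime.mem_normalizer_conj hm hgX
  have hfixX : ∀ p ∈ fixSet (centres Ω M) Xb, p ∈ fixSet (centres Ω M) Xb := fun p hp => hp
  have haX : a ∈ fixSet (centres Ω M) Xb := CS.centres_centralizer_subset Xb haC
  have hbX : b ∈ fixSet (centres Ω M) Xb := CS.centres_centralizer_subset Xb hbC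
  have hKtD : Kt ≤ M ⊓ two G (a : Ω) b := fun g hg =>
    ⟨hKtM hg, mem_two_iff.2 ⟨hfixKt a haX g hg, hfixKt b hbX g hg⟩⟩
  have hW1n : W1 ≤ Subgroup.normalizer (Kt : Set G) := fun w hw =>
    hKtn ⟨w, (hW1.1 hw).1⟩ (hWX (mem_sect_map hw (hW1.1 hw).1))
  set Xt := W1 ⊓ Kt with hXt
  have hXtS : SylowOf q Xt Kt :=
    sylowOf_inf_normal (D := (M ⊓ two G (a : Ω) b) ⊓ Subgroup.normalizer (Kt : Set G))
      (hW1.mono inf_le_left (le_inf hW1.1 hW1n)) (le_inf hKtD Subgroup.le_normalizer) inf_le_right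
  have hKtodd : Odd (Nat.card Kt) :=
    (hp.odd_two h habG).of_dvd_nat (Subgroup.card_dvd_of_le hKtD)
  set M2 := M ⊓ Subgroup.normalizer (Xt : Set G) with hM2
  have hlift : ∀ ib ∈ Subgroup.centralizer (Xb : Set (Sect Ω M)), ∀ p : centres Ω M,
      ib ∈ invAt (Sect Ω M) p → ∃ (i : G) (hiM : i ∈ M),
        i ∈ M2 ∧ i ∈ invAt G (p : Ω) ∧ sect Ω M ⟨i, hiM⟩ = ib := by
    intro ib hibC p hib
    obtain ⟨i, hi, rfl⟩ := hp.exists_lift h hib.1
    have hio : orderOf (i : G) = 2 := by rw [Subgroup.orderOf_coe, hi]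
    have hip : (i : G) • (p : Ω) = p := congrArg Subtype.val hib.2
    have hpX : p ∈ fixSet (centres Ω M) Xb :=
      CS.centres_centralizer_subset Xb (mem_centres hibC hib)
    obtain ⟨k, hk, hkn, hkp⟩ := exists_mem_normalizer_conj hKtodd hXtS hio
      (hKtn i (Subgroup.centralizer_le_normalizer _ hibC)) hip (hfixKt p hpX)
    obtain ⟨hkM, hkX⟩ := sect_comap_mem.1 hk
    refine ⟨_, M.mul_mem (M.mul_mem hkM i.2) (M.inv_mem hkM),
      ⟨M.mul_mem (M.mul_mem hkM i.2) (M.inv_mem hkM), hkn⟩, hkp, ?_⟩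
    have e : (⟨k * (i : G) * k⁻¹, M.mul_mem (M.mul_mem hkM i.2) (M.inv_mem hkM)⟩ : M) =
        ⟨k, hkM⟩ * i * ⟨k, hkM⟩⁻¹ := rfl
    rw [e, map_mul, map_mul, map_inv, (hibC _ hkX), mul_inv_cancel_right]
  have hcenM2 : ∀ p ∈ fixSet (centres Ω M) Xb, p ∈ centres (centres Ω M)
      (Subgroup.centralizer (Xb : Set (Sect Ω M))) → (p : Ω) ∈ centres Ω M2 := by
    rintro p - ⟨ib, hibC, hib⟩
    obtain ⟨i, hiM, hi2, hip, -⟩ := hlift ib hibC p hib
    exact mem_centres hi2 hip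
  have ha2 : (a : Ω) ∈ centres Ω M2 := hcenM2 a haX haC
  have hb2 : (b : Ω) ∈ centres Ω M2 := hcenM2 b hbX hbC
  have hM2multi : Multi Ω M2 := ⟨a, ha2, b, hb2, habG⟩
  have hM2four : FourIn M2 := by
    obtain ⟨sb, hsC, tb, htC, hs, ht, hst, hcomm⟩ := h4C
    obtain ⟨p, hp⟩ := CS.base.exists_fix sb hs
    have htp : tb • p = p := CS.base.fix_of_commute ⟨hs, hp⟩ hcomm.symm
    obtain ⟨i, hiM, hi2, hip, hie⟩ := hlift sb hsC p ⟨hs, hp⟩
    obtain ⟨j, hjM, hj2, hjp, hje⟩ := hlift tb htC p ⟨ht, htp⟩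
    refine IsPure.fourIn_of_commute_mod (Ω := Ω) (M := M) hi2 hj2 hip.1 hjp.1 (fun hk => hst ?_) ?_
    · have h1 : sect Ω M (⟨i, hiM⟩ * ⟨j, hjM⟩) = 1 := (sect_eq_one_iff_kerIn _).2 hk
      rw [map_mul, hie, hje] at h1
      rw [eq_inv_of_mul_eq_one_left h1, inv_eq_self_of_involution ht]
    · rw [← sect_eq_one_iff_kerIn (M.mul_mem (M.mul_mem hiM hjM) (M.mul_mem hiM hjM))]
      show sect Ω M ((⟨i, hiM⟩ * ⟨j, hjM⟩) * (⟨i, hiM⟩ * ⟨j, hjM⟩)) = 1
      rw [map_mul, map_mul, hie, hje]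
      calc sb * tb * (sb * tb) = sb * (tb * sb) * tb := by group
        _ = sb * sb * (tb * tb) := by rw [← hcomm.eq]; group
        _ = 1 := by rw [mul_self_eq_one hs, mul_self_eq_one ht, one_mul]
  have hW12 : W1 ≤ M2 := fun w hw => ⟨(hW1.1 hw).1, Coprime.mem_normalizer_of_forall_conj
    fun g hg => ⟨W1.mul_mem (W1.mul_mem hw hg.1) (W1.inv_mem hw),
      Coprime.mem_normalizer_conj (hW1n hw) hg.2⟩⟩
  have hXtimg : (Xt.subgroupOf M).map (sect Ω M) = Xb := by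
    refine le_antisymm ?_ fun s hs => ?_
    · rintro _ ⟨g, hg, rfl⟩
      obtain ⟨_, hgX⟩ := sect_comap_mem.1 hg.2
      exact hgX
    · obtain ⟨g, hg, rfl⟩ := hXW hs
      exact ⟨g, ⟨hg, sect_comap_mem.2 ⟨g.2, hs⟩⟩, rfl⟩
  have hXtker : Xt ≤ kerIn Ω M2 := by
    intro g hg
    refine mem_kerIn.2 ⟨hW12 hg.1, ?_⟩
    rintro p ⟨i, hi2, hio, hip⟩
    have hib := hp.sect_mem_invAt h (c := ⟨p, mem_centres hi2.1 ⟨hio, hip⟩⟩) hi2.1 ⟨hio, hip⟩
    have hn' : sect Ω M ⟨i, hi2.1⟩ ∈ Subgroup.normalizer (Xb : Set (Sect Ω M)) := by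
      rw [← hXtimg]
      exact OneFix.sect_mem_normalizer hi2.1 hi2.2
    exact hfixKt _ ((CS.base.odd_fixSet_iff hib hn').1 hoddX) g hg.2
  have hUle : U ≤ Xt := by
    refine le_inf (hT.le_sylow a.2 b.2 hW1) fun g hg => sect_comap_mem.2 ⟨hT.cfg.le hg, ?_⟩
    rw [(sect_eq_one_iff_kerIn (hT.cfg.le hg)).2
      (mem_kerIn.2 ⟨hT.cfg.le hg, fun p hp => hT.cfg.fix p hp g hg⟩)]
    exact one_mem _
  obtain ⟨g, hgX, hgx⟩ : ∃ g : M, (g : G) ∈ Xt ∧ sect Ω M g = xb := by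
    obtain ⟨g, hg, hge⟩ := hXtimg.ge hxX
    exact ⟨g, hg, hge⟩
  have hgU : (g : G) ∉ U := by
    intro hgU
    refine hxk ((sect_eq_one_iff_kerIn hx).1 ?_)
    rw [← hxb, ← hgx]
    exact (sect_eq_one_iff_kerIn g.2).2
      (mem_kerIn.2 ⟨g.2, fun p hp => hT.cfg.fix p hp _ hgU⟩)
  -- the larger configuration
  obtain ⟨c, hc, z, hz, hcz⟩ := id hM2multi
  obtain ⟨u, huM2, hu⟩ := hc
  have hUM2 : U ≤ M2 := hUle.trans (inf_le_left.trans hW12)
  have hUfix : ∀ p ∈ centres Ω M2, p ∈ fixSet Ω U := fun p hp =>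
    fixSet_anti hUle fun g hg => (mem_kerIn.1 (hXtker hg)).2 p hp
  obtain ⟨M', hcfg', hM'le, hW1M', hcen'⟩ :=
    C.config_of (hp.mono inf_le_left hM2multi hM2four) ha2 hb2
    (hW1.mono (inf_le_inf_right _ inf_le_left) (le_inf hW12 (hW1.1.trans inf_le_right)))
    hz hcz.symm huM2 hu hUM2 hT.cfg.pgroup
    (fun g hg => mem_two_iff.2 ⟨hUfix c (mem_centres huM2 hu) g hg, hUfix z hz g hg⟩)
    (hT.cfg.norm huM2.1) (hT.cfg.noncentral u huM2.1 hu.1)
  have hW1' : SylowOf q W1 (M' ⊓ two G (a : Ω) b) :=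
    hW1.mono (inf_le_inf_right _ (hM'le.trans inf_le_left)) (le_inf hW1M' (hW1.1.trans inf_le_right))
  have hfin := (hT.top M' _ a b W1 hcfg' (hcen'.symm ▸ ha2) (hcen'.symm ▸ hb2) habG hW1').2
    (hT.card_sylow C a.2 b.2 habG hW1)
  have hlt : Nat.card U < Nat.card (W1 ⊓ kerIn Ω M2 : Subgroup G) := by
    refine Set.ncard_lt_ncard (SetLike.coe_ssubset_coe.2 (lt_of_le_of_ne
      (hUle.trans (le_inf inf_le_left hXtker)) fun e => hgU ?_)) (Set.toFinite _)
    rw [e]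
    exact ⟨hgX.1, hXtker hgX⟩
  exact absurd hfin (not_le.2 hlt)

end Top

end CfsgLib.StrongCrit.W1
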