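import Cfsg.Agent.Lib.StrongCrit.W1.Config

/-!
A configuration with the largest Sylow subgroups exists if centralisation fails.
-/

set_option autoImplicit false

namespace CfsgLib.StrongCrit.W1

open CfsgLib.Involutions CfsgLib.BenderTrans CfsgLib.OddOrder MulAction

universe u

variable {G : Type u} [Group G] {Ω : Type u} [MulAction G Ω] {Z : Set G} {q : ℕ}

/-- A configuration with the largest pair Sylow subgroup and kernel. -/
structure Top (Ω : Type u) [MulAction G Ω] (Z : Set G) (q : ℕ) (M U : Subgroup G) (a₀ b₀ : Ω)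
    (W₀ : Subgroup G) : Prop where
  cfg : Cfg Ω Z q M U
  ha : a₀ ∈ centres Ω M
  hb : b₀ ∈ centres Ω M
  hne : a₀ ≠ b₀
  syl : SylowOf q W₀ (M ⊓ two G a₀ b₀)
  moves : ∀ (c : Ω) (t : G) (T : Subgroup G), t ∈ memAt Z c → IsPGroup q T →
    c ∈ BenderTrans.fixSet Ω T → t ∈ Subgroup.normalizer (T : Set G) →
    (∃ y ∈ T, ¬ Commute y t) → Nat.card T < Nat.card W₀
  top : ∀ (M' U' : Subgroup G) (a b : Ω) (W : Subgroup G), Cfg Ω Z q M' U' → a ∈ centres Ω M' →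
    b ∈ centres Ω M' → a ≠ b → SylowOf q W (M' ⊓ two G a b) →
    Nat.card W ≤ Nat.card W₀ ∧ (Nat.card W = Nat.card W₀ → Nat.card U' ≤ Nat.card U)

namespace Ctx

variable [Finite G] [Finite Ω] [hq : Fact q.Prime] (C : Ctx Ω Z q)
include C

omit [Finite Ω] in
theorem odd_card_pGroup {T : Subgroup G} (hT : IsPGroup q T) (c : Ω) : Odd (Nat.card T) := by
  obtain ⟨k, hk⟩ := hT.exists_card_eq
  rw [hk]
  exact (hq.out.odd_of_ne_two (C.ne_two c)).pow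

omit [Finite Ω] hq in
/-- A group normalised by `M` fixing one centre of members of `M` fixes all of them. -/
theorem fix_zCentres {V M : Subgroup G} (hV : M ≤ Subgroup.normalizer (V : Set G)) {c : Ω}
    (hc : c ∈ zCentres Ω Z M) (hfix : c ∈ BenderTrans.fixSet Ω V) :
    ∀ x ∈ zCentres Ω Z M, x ∈ BenderTrans.fixSet Ω V := by
  intro x hx
  rcases eq_or_ne x c with rfl | hne
  · exact hfix
  · obtain ⟨s, hsM, hsZ, hsc⟩ := hc
    obtain ⟨t, htM, htZ, htx⟩ := hx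
    obtain ⟨g, hg, -, hgc⟩ := C.base.exists_conj_of_ne (x := c) (y := x) ⟨hsZ, hsc⟩ ⟨htZ, htx⟩
      hne.symm
    rw [← hgc]
    exact BenderTrans.smul_mem_fixSet
      (hV ((Subgroup.closure_le M).2 (by rintro z (rfl | rfl) <;> assumption) hg)) hfix

theorem exists_top (hblock : BlockProp Ω Z) {c z : Ω} {u : G} (_hzc : z ≠ c) (hu : u ∈ memAt Z c)
    {Y : Subgroup G} (hY : IsPGroup q Y) (hYle : Y ≤ two G c z)
    (huY : u ∈ Subgroup.normalizer (Y : Set G)) (hnc : ∃ y ∈ Y, ¬ Commute y u) :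
    ∃ (M U : Subgroup G) (a₀ b₀ : Ω) (W₀ : Subgroup G), Top Ω Z q M U a₀ b₀ W₀ := by
  have h := C.base
  let P : Ω × G × Subgroup G → Prop := fun p => p.2.1 ∈ memAt Z p.1 ∧ IsPGroup q p.2.2 ∧
    p.1 ∈ BenderTrans.fixSet Ω p.2.2 ∧ p.2.1 ∈ Subgroup.normalizer (p.2.2 : Set G) ∧
    ∃ y ∈ p.2.2, ¬ Commute y p.2.1
  obtain ⟨⟨c₁, u₁, U₁⟩, ⟨hu₁, hU₁, hcU₁, huU₁, hnc₁⟩, hmax⟩ :=
    Set.exists_max_image {p | P p} (fun p => Nat.card p.2.2) (Set.toFinite _)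
      ⟨(c, u, Y), hu, hY, fun g hg => (mem_two_iff.1 (hYle hg)).1, huY, hnc⟩
  replace hmax : ∀ (c : Ω) (t : G) (T : Subgroup G), t ∈ memAt Z c → IsPGroup q T →
      c ∈ BenderTrans.fixSet Ω T → t ∈ Subgroup.normalizer (T : Set G) →
      (∃ y ∈ T, ¬ Commute y t) → Nat.card T ≤ Nat.card U₁ := fun c t T h1 h2 h3 h4 h5 =>
    hmax (c, t, T) ⟨h1, h2, h3, h4, h5⟩
  have hu₁2 := h.invol u₁ hu₁.1
  obtain ⟨z₁, hz₁, hz₁U⟩ := C.exists_second hU₁ hcU₁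
  set N := Subgroup.normalizer (U₁ : Set G) with hN
  have hgrow : ∀ w : Ω, w ≠ c₁ → w ∈ BenderTrans.fixSet Ω U₁ →
      ∃ T, U₁ < T ∧ IsPGroup q T ∧ T ≤ N ⊓ two G w (u₁ • w) ∧
        u₁ ∈ Subgroup.normalizer (T : Set G) := by
    intro w hw hwU
    obtain ⟨hne, hsw⟩ := h.swapMem_of_memAt hw hu₁
    have hle : U₁ ≤ two G w (u₁ • w) := fun g hg =>
      mem_two_iff.2 ⟨hwU g hg, BenderTrans.smul_mem_fixSet huU₁ hwU g hg⟩
    obtain ⟨W, hW, hUW, hWn⟩ :=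
      h.exists_invariant_sylow_two (C.ne_two c₁) hne hsw hle hU₁ huU₁
    have hlt : U₁ < W := lt_of_le_of_ne hUW fun e =>
      C.not_mem_fixSet hne hsw hu₁.2 hW (e ▸ hcU₁)
    refine ⟨N ⊓ W, lt_normalizer_inf hW.2.1 hlt, hW.2.1.to_le inf_le_right,
      inf_le_inf_left _ hW.1, Coprime.mem_normalizer_of_forall_conj fun g hg =>
        ⟨N.mul_mem (N.mul_mem huU₁ hg.1) (N.inv_mem huU₁), Coprime.mem_normalizer_conj hWn hg.2⟩⟩
  have hnotfix : ∀ T : Subgroup G, U₁ < T → IsPGroup q T → u₁ ∈ Subgroup.normalizer (T : Set G) →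
      ¬ T ≤ stabilizer G c₁ := by
    intro T hlt hT huT hTc
    obtain ⟨y, hy, hyu⟩ := hnc₁
    have h1 := hmax c₁ u₁ T hu₁ hT hTc huT ⟨y, hlt.le hy, hyu⟩
    exact absurd h1 (not_le.2 (Set.ncard_lt_ncard (SetLike.coe_ssubset_coe.2 hlt) (Set.toFinite _)))
  have hc₁N : c₁ ∈ zCentres Ω Z N := ⟨u₁, huU₁, hu₁.1, hu₁.2⟩
  have hM : ZMulti Ω Z N := by
    by_contra hM
    obtain ⟨T, hlt, hT, hTle, huT⟩ := hgrow z₁ hz₁ hz₁U
    refine hnotfix T hlt hT huT fun g hg => ?_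
    show g • c₁ = c₁
    by_contra hgc
    have h1 := h.conj_memAt (g := g) hu₁
    exact hM ⟨_, ⟨_, N.mul_mem (N.mul_mem (hTle hg).1 huU₁) (N.inv_mem (hTle hg).1), h1.1, h1.2⟩,
      c₁, hc₁N, hgc⟩
  have h4 : ZFour Z N := by
    by_contra h4
    obtain ⟨w, hw, hwc, hblk⟩ := hblock U₁ c₁ u₁ hu₁ huU₁ hnc₁ hM h4
    have hwU := C.fix_zCentres (M := N) le_rfl hc₁N hcU₁ w hw
    obtain ⟨T, hlt, hT, hTle, huT⟩ := hgrow w hwc hwU
    refine hnotfix T hlt hT huT (hTle.trans ?_)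
    rw [inf_comm]
    exact hblk
  have hNtop : N ≠ ⊤ := by
    intro htop
    obtain ⟨y, hy, hyu⟩ := hnc₁
    refine hyu ?_
    have : y = 1 := C.faith y fun w => by
      obtain ⟨g, rfl⟩ := h.trans c₁ w
      exact BenderTrans.smul_mem_fixSet (show g ∈ N from htop ▸ Subgroup.mem_top g) hcU₁ y hy
    rw [this]; exact Commute.one_left _
  have hL := isPure_memIn h C.pure hNtop hM h4
  obtain ⟨w, hw, hwc⟩ : ∃ w ∈ zCentres Ω Z N, w ≠ c₁ := by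
    obtain ⟨a, ha, b, hb, hab⟩ := id hM
    by_cases e : a = c₁
    · exact ⟨b, hb, fun e' => hab (e.trans e'.symm)⟩
    · exact ⟨a, ha, e⟩
  have hwU := C.fix_zCentres (M := N) le_rfl hc₁N hcU₁ w hw
  obtain ⟨T, hlt, hT, hTle, -⟩ := hgrow w hwc hwU
  obtain ⟨W, hW, hTW⟩ := exists_sylowOf_ge hTle hT
  obtain ⟨hne, -⟩ := h.swapMem_of_memAt hwc hu₁
  set M₀ := memIn Z N ⊔ W with hM₀
  have hp₀ : IsPure Ω Z M₀ := isPure_sup h C.pure hNtop hM h4 (C.odd_card_pGroup hW.2.1 c₁)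
    (hW.1.trans (inf_le_left.trans (Subgroup.le_normalizer.trans
      (normalizer_le_normalizer_memIn h))))
  have hM₀N : M₀ ≤ N := sup_le (memIn_le Z N) (hW.1.trans inf_le_left)
  have huM₀ : u₁ ∈ M₀ := Subgroup.mem_sup_left (mem_memIn hu₁.1 huU₁)
  have hu₁' : u₁ ∈ invAt G c₁ := ⟨hu₁2, hu₁.2⟩
  have hw₀ : w ∈ centres Ω M₀ := by
    obtain ⟨t, ht, htZ, htw⟩ := hw
    exact ⟨t, Subgroup.mem_sup_left (mem_memIn htZ ht), h.invol t htZ, htw⟩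
  have hW₀ : SylowOf q W (M₀ ⊓ two G w (u₁ • w)) :=
    hW.mono (inf_le_inf_right _ hM₀N) (le_inf le_sup_right (hW.1.trans inf_le_right))
  have hU₁W : U₁ ≤ M₀ := (hlt.le.trans hTW).trans le_sup_right
  obtain ⟨M', hcfg, hM'M, hWM', hcen⟩ := C.config_of hp₀ hw₀ (smul_mem_centres huM₀ hw₀) hW₀ hw₀
    hwc huM₀ hu₁' hU₁W hU₁ (fun g hg => mem_two_iff.2 ⟨hcU₁ g hg, hwU g hg⟩) huU₁ hnc₁
  have hW' : SylowOf q W (M' ⊓ two G w (u₁ • w)) :=
    hW₀.mono (inf_le_inf_right _ hM'M) (le_inf hWM' (hW₀.1.trans inf_le_right))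
  let K := Subgroup G × Subgroup G × Ω × Ω × Subgroup G
  obtain ⟨⟨M, U, a₀, b₀, W₀⟩, ⟨hcfg₀, ha, hb, hab, hW₁⟩, htop⟩ :=
    Set.exists_max_image {p : K | Cfg Ω Z q p.1 p.2.1 ∧ p.2.2.1 ∈ centres Ω p.1 ∧
      p.2.2.2.1 ∈ centres Ω p.1 ∧ p.2.2.1 ≠ p.2.2.2.1 ∧
      SylowOf q p.2.2.2.2 (p.1 ⊓ two G p.2.2.1 p.2.2.2.1)}
      (fun p => Nat.card p.2.2.2.2 * (Nat.card G + 1) + Nat.card p.2.1) (Set.toFinite _)
      ⟨(M', _, w, u₁ • w, W), hcfg, hcen.symm ▸ hw₀, hcen.symm ▸ smul_mem_centres huM₀ hw₀, hne,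
        hW'⟩
  have hbound : ∀ S : Subgroup G, Nat.card S ≤ Nat.card G := fun S => Subgroup.card_le_card_group S
  have hkey : ∀ (M' U' : Subgroup G) (a b : Ω) (W : Subgroup G), Cfg Ω Z q M' U' →
      a ∈ centres Ω M' → b ∈ centres Ω M' → a ≠ b → SylowOf q W (M' ⊓ two G a b) →
      Nat.card W ≤ Nat.card W₀ ∧ (Nat.card W = Nat.card W₀ → Nat.card U' ≤ Nat.card U) := by
    intro M' U' a b W h1 h2 h3 h4 h5
    have h6 : Nat.card W * (Nat.card G + 1) + Nat.card U' ≤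
        Nat.card W₀ * (Nat.card G + 1) + Nat.card U := htop (M', U', a, b, W) ⟨h1, h2, h3, h4, h5⟩
    refine ⟨not_lt.1 fun hlt => ?_, fun e => by rw [e] at h6; omega⟩
    have h7 := Nat.mul_le_mul_right (Nat.card G + 1) (Nat.succ_le_of_lt hlt)
    rw [Nat.succ_mul] at h7
    have := hbound U
    omega
  refine ⟨M, U, a₀, b₀, W₀, hcfg₀, ha, hb, hab, hW₁, fun c t T h1 h2 h3 h4 h5 => ?_, hkey⟩
  have h7 : Nat.card U₁ < Nat.card W :=
    Set.ncard_lt_ncard (Set.ssubset_of_ssubset_of_subset (SetLike.coe_ssubset_coe.2 hlt) hTW)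
      (Set.toFinite _)
  have h8 := (hkey M' _ w (u₁ • w) W hcfg (hcen.symm ▸ hw₀)
    (hcen.symm ▸ smul_mem_centres huM₀ hw₀) hne hW').1
  have h9 := hmax c t T h1 h2 h3 h4 h5
  omega

end Ctx

namespace Top

variable [Finite G] [Finite Ω] [hq : Fact q.Prime] {M U : Subgroup G} {a₀ b₀ : Ω} {W₀ : Subgroup G}

theorem card_sylow (hT : Top Ω Z q M U a₀ b₀ W₀) (C : Ctx Ω Z q) {a b : Ω} (ha : a ∈ centres Ω M)
    (hb : b ∈ centres Ω M) (hab : a ≠ b) {W : Subgroup G} (hW : SylowOf q W (M ⊓ two G a b)) :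
    Nat.card W = Nat.card W₀ := by
  obtain ⟨g, hg, rfl, rfl⟩ := hT.cfg.pure.card_pair_eq C.base hT.ha hT.hb ha hb hT.hne hab
  rw [card_sylowOf hW, card_sylowOf hT.syl]
  congr 2
  have e : (M ⊓ two G a₀ b₀).map (MulAut.conj g).toMonoidHom = M ⊓ two G (g • a₀) (g • b₀) := by
    rw [Subgroup.map_inf _ _ _ (MulAut.conj g).injective, map_conj_two,
      map_conj_of_mem_normalizer (Subgroup.le_normalizer hg)]
  rw [← e, Subgroup.card_map_of_injective (MulAut.conj g).injective]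

omit [Finite Ω] in
theorem le_sylow (hT : Top Ω Z q M U a₀ b₀ W₀) {a b : Ω} (ha : a ∈ centres Ω M)
    (hb : b ∈ centres Ω M) {W : Subgroup G} (hW : SylowOf q W (M ⊓ two G a b)) : U ≤ W :=
  le_of_normal_sylowOf (le_inf hT.cfg.le fun g hg =>
    mem_two_iff.2 ⟨hT.cfg.fix a ha g hg, hT.cfg.fix b hb g hg⟩)
    (inf_le_left.trans hT.cfg.norm) hT.cfg.pgroup hW

theorem ctx_sect (hT : Top Ω Z q M U a₀ b₀ W₀) (C : Ctx Ω Z q) :
    BenderTrans.Ctx (Sect Ω M) (centres Ω M) q := by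
  have h := C.base
  have hp := hT.cfg.pure
  have h' := hp.oneFix_sect h
  refine ⟨h', hfaith_sect M, hp.hasFour_sect h, hp.concl_sect h, ?_,
    fun X i i' hX => @CfsgLib.PF.oddSolvable X i i' hX⟩
  obtain ⟨r, hrM, hr⟩ := hp.exists_swap_centres h hT.ha hT.hb hT.hne
  obtain ⟨e, heM, he⟩ := hp.exists_fix h hrM hr.1
  set D := M ⊓ two G a₀ b₀
  have hodd : Odd (Nat.card D) := hp.odd_two h hT.hne
  have hrn : r ∈ Subgroup.normalizer (D : Set G) := Coprime.mem_normalizer_of_forall_conj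
    fun g hg => ⟨M.mul_mem (M.mul_mem hrM hg.1) (M.inv_mem hrM),
      Coprime.mem_normalizer_conj (OneFix.swap_normalizes hr) hg.2⟩
  obtain ⟨W, hW, -, hWn⟩ := exists_invariant_sylowOf_ge (q := q) hodd hr.1 hrn (U := ⊥) bot_le
    IsPGroup.of_bot (by rw [Subgroup.normalizer_eq_top_iff.mpr inferInstance]; trivial)
  let a' : centres Ω M := ⟨a₀, hT.ha⟩
  let b' : centres Ω M := ⟨b₀, hT.hb⟩
  let e' : centres Ω M := ⟨e, mem_centres hrM ⟨hr.1, he⟩⟩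
  intro c
  rw [h'.ncard_invAt_eq c e']
  by_contra hnd
  have hab' : a' ≠ b' := fun x => hT.hne (congrArg Subtype.val x)
  have hr' : sect Ω M ⟨r, hrM⟩ ∈ swaps (Sect Ω M) a' b' := hp.sect_mem_swaps h hrM hr
  have hcls := h'.qpart_eq_cls hab' hr' (OneFix.sylowOf_sect a' b' hW)
    (OneFix.sect_mem_normalizer hrM hWn) e'
  rw [BenderTrans.qpart, Nat.factorization_eq_zero_of_not_dvd hnd, pow_zero,
    Set.ncard_eq_one] at hcls
  obtain ⟨z, hz⟩ := hcls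
  have hfix : e ∈ BenderTrans.fixSet Ω W := by
    intro w hw
    have h1 : sect Ω M ⟨r, hrM⟩ ∈ cls ((W.subgroupOf M).map (sect Ω M)) (sect Ω M ⟨r, hrM⟩) :=
      ⟨1, one_mem _, by simp⟩
    have h2 : sect Ω M ⟨w, (hW.1 hw).1⟩ * sect Ω M ⟨r, hrM⟩ * (sect Ω M ⟨w, (hW.1 hw).1⟩)⁻¹ ∈
        cls ((W.subgroupOf M).map (sect Ω M)) (sect Ω M ⟨r, hrM⟩) :=
      ⟨_, mem_sect_map hw (hW.1 hw).1, rfl⟩
    rw [hz, Set.mem_singleton_iff] at h1 h2
    have h3 : Commute (sect Ω M ⟨w, (hW.1 hw).1⟩) (sect Ω M ⟨r, hrM⟩) :=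
      mul_inv_eq_iff_eq_mul.1 (h2.trans h1.symm)
    have hre : sect Ω M ⟨r, hrM⟩ ∈ invAt (Sect Ω M) e' := hp.sect_mem_invAt h hrM ⟨hr.1, he⟩
    exact congrArg Subtype.val (h'.fix_of_commute hre h3)
  obtain ⟨y, hy, hyr⟩ := hT.cfg.noncentral r hrM hr.1
  have h5 := hT.moves e r W ⟨hp.invol r hrM hr.1, he⟩ hW.2.1 hfix hWn
    ⟨y, hT.le_sylow hT.ha hT.hb hW hy, hyr⟩
  rw [card_sylowOf hW, card_sylowOf hT.syl] at h5
  exact lt_irrefl _ h5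

end Top

end CfsgLib.StrongCrit.W1
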