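import Cfsg.Agent.Lib.StrongCrit.W1.Pair
import Cfsg.Agent.Lib.StrongCrit.Transfer
import Cfsg.Agent.Lib.BenderTrans.StepA
import Cfsg.Agent.Lib.BenderTrans.StepC
import Cfsg.Agent.Lib.LivWag.KleinFormula

/-!
In the setting of Aschbacher's criterion a good prime dividing the number of members at a point
makes the group doubly transitive.
-/

set_option autoImplicit false

namespace CfsgLib.StrongCrit

open CfsgLib.Involutions CfsgLib.OddOrder CfsgLib.BenderTrans MulAction

universe u v

variable {G : Type u} [Group G] {Ω : Type v} [MulAction G Ω] {Z : Set G}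

variable (G Ω) in
/-- Every Sylow `l`-subgroup of every odd core of a two point stabiliser fixes an even number of
points. -/
def GoodZ (l : ℕ) : Prop :=
  ∀ x y : Ω, x ≠ y → ∀ W : Subgroup G, SylowOf l W (pairCore G x y) →
    Even (BenderTrans.fixSet Ω W).ncard

namespace Setting

variable (h : Setting Ω Z)
include h

/-- An odd subgroup with even fixed point set is normalised by no two commuting members. -/
theorem eq_of_commute_normalizes [Finite G] [Finite Ω] {S : Subgroup G} (hS : Odd (Nat.card S))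
    (heven : Even (BenderTrans.fixSet Ω S).ncard) {s t : G} (hs : s ∈ Z) (ht : t ∈ Z)
    (hsn : s ∈ Subgroup.normalizer (S : Set G)) (htn : t ∈ Subgroup.normalizer (S : Set G))
    (hc : Commute s t) : s = t := by
  by_contra hne
  have hs2 := mul_self_eq_one (h.invol s hs)
  have ht2 := mul_self_eq_one (h.invol t ht)
  obtain ⟨d, hd⟩ := h.exists_fix s hs
  have htd : t • d = d := h.fix_of_commute ⟨hs, hd⟩ hc.symm
  have hnorm : ∀ {r : G}, r ∈ Z → r ∈ Subgroup.normalizer (S : Set G) →
      ∀ w ∈ S, r * w * r ∈ S := fun {r} hr hrn w hw => by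
    have h1 := Coprime.mem_normalizer_conj hrn hw
    rwa [inv_eq_self_of_involution (h.invol r hr)] at h1
  have hcm : ∀ {r : G}, r * r = 1 → ∀ w : G, r * w * r = w → Commute w r := fun {r} hr w hw => by
    show w * r = r * w
    calc w * r = r * w * r * r := by rw [hw]
      _ = r * w := by rw [mul_assoc, hr, mul_one]
  have hle : S ≤ stabilizer G d := by
    refine RankOneInvol.le_of_fourGroup_fixed hS hs2 ht2 hc.eq (hnorm hs hsn) (hnorm ht htn)
      (fun w _ hw => h.fix_of_commute ⟨hs, hd⟩ (hcm hs2 w hw))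
      (fun w _ hw => h.fix_of_commute ⟨ht, htd⟩ (hcm ht2 w hw)) fun w _ hw => ?_
    have hst2 : (s * t) * (s * t) = 1 := by
      calc s * t * (s * t) = s * (t * s) * t := by group
        _ = s * s * (t * t) := by rw [← hc.eq]; group
        _ = 1 := by rw [hs2, ht2, one_mul]
    refine h.pair s hs t ht hc hne (w • d) d ?_ (by rw [mul_smul, htd, hd])
    rw [smul_smul, ← (hcm hst2 w hw).eq, mul_smul, mul_smul, htd, hd]
  exact Nat.not_even_iff_odd.2 ((h.odd_fixSet_iff ⟨hs, hd⟩ hsn).2 hle) heven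

/-- All members normalising such a subgroup lie in one coset of the odd core of its normaliser. -/
theorem mul_mem_coreIn_normalizer [Finite G] [Finite Ω]
    (hfaith : ∀ g : G, (∀ x : Ω, g • x = x) → g = 1) {S : Subgroup G} (hS : Odd (Nat.card S))
    (heven : Even (BenderTrans.fixSet Ω S).ncard) {u w : G} (hu : u ∈ Z) (hw : w ∈ Z)
    (hun : u ∈ Subgroup.normalizer (S : Set G)) (hwn : w ∈ Subgroup.normalizer (S : Set G)) :
    w * u ∈ coreIn (Subgroup.normalizer (S : Set G)) := by
  set N := Subgroup.normalizer (S : Set G) with hN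
  rcases eq_or_ne w u with rfl | hne
  · rw [mul_self_eq_one (h.invol w hw)]; exact one_mem _
  have hiso : Cfsg.IsIsolatedInvolution (⟨u, hun⟩ : N) := by
    refine ⟨by rw [← Subgroup.orderOf_coe]; exact h.invol u hu, fun g hg => Subtype.ext ?_⟩
    show (g : G) * u * (g : G)⁻¹ = u
    exact (h.eq_of_commute_normalizes hS heven hu (h.conj_mem g u hu) hun
      (N.mul_mem (N.mul_mem g.2 hun) (N.inv_mem g.2)) (congrArg Subtype.val hg)).symm
  have hodd : Odd (orderOf (u * w)) := by
    by_contra ho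
    rw [Nat.not_odd_iff_even] at ho
    obtain ⟨he2, heu, hew⟩ := central_involution (h.invol u hu) (h.invol w hw) ho
    have heN : (u * w) ^ (orderOf (u * w) / 2) ∈ N := pow_mem (N.mul_mem hun hwn) _
    obtain ⟨c, hc⟩ := h.exists_fix u hu
    rcases h.mem_or_isBad hfaith he2 (h.fix_of_commute ⟨hu, hc⟩ heu) with hm | hb
    · have e1 := h.eq_of_commute_normalizes hS heven hm hu heN hun heu
      have e2 := h.eq_of_commute_normalizes hS heven hm hw heN hwn hew
      exact hne (e2.symm.trans e1)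
    · obtain ⟨-, p, q, hpq, hp, hq⟩ := hb
      exact hpq (h.mid_unique hu hw ho hp hq)
  obtain ⟨g, hg, hgw⟩ := conj_of_odd_order (h.invol u hu) (h.invol w hw) hodd
  have hgN : g ∈ N := by
    refine (Subgroup.closure_le N).2 ?_ hg
    rintro z (rfl | rfl) <;> assumption
  refine ⟨_, Involutions.zstar N _ hiso ⟨g, hgN⟩, ?_⟩
  show g * u * g⁻¹ * u⁻¹ = w * u
  rw [hgw, inv_eq_self_of_involution (h.invol u hu)]

variable {l : ℕ} [hl : Fact l.Prime] (hgood : GoodZ G Ω l) (hl2 : l ≠ 2)
include hgood hl2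

/-- Sylow subgroups of two point stabilisers fix an even number of points. -/
theorem even_fixSet_sylow_two [Finite G] [Finite Ω] {x y : Ω} (hxy : x ≠ y) {W : Subgroup G}
    (hW : SylowOf l W (two G x y)) : Even (BenderTrans.fixSet Ω W).ncard := by
  obtain ⟨s, hs, hsn⟩ := h.exists_swap_normalizes_sylow hl2 hxy hW
  obtain ⟨c, hc⟩ := h.exists_fix s hs.1
  rw [← Nat.not_odd_iff_even, h.odd_fixSet_iff ⟨hs.1, hc⟩ hsn]
  intro hcW
  obtain ⟨hodd, hn⟩ := h.odd_sup_pairCore hl2 hxy hW.1 hW.2.1 hs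
  have hle : pairCore G x y ⊔ W ≤ two G x y := sup_le (pairCore_le x y) hW.1
  have hW0 : SylowOf l (W ⊓ pairCore G x y) (pairCore G x y) := by
    refine ⟨inf_le_right, hW.2.1.to_le inf_le_left, fun Q hQ hQl hWQ => le_antisymm ?_ hWQ⟩
    have hn' : W ≤ Subgroup.normalizer (pairCore G x y : Set G) :=
      hW.1.trans (two_le_normalizer_pairCore x y)
    obtain ⟨R, hR, hQR⟩ := exists_sylowOf_ge (hQ.trans (pairCore_le x y)) hQl
    obtain ⟨d, hd, hdR⟩ := exists_conj_sylowOf hW hR
    have hcard : Nat.card Q ≤ Nat.card (W ⊓ pairCore G x y : Subgroup G) := by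
      rw [← Subgroup.card_map_of_injective (f := (MulAut.conj d).toMonoidHom)
        (K := W ⊓ pairCore G x y) (MulAut.conj d).injective]
      refine Subgroup.card_le_of_le fun g hg => ?_
      obtain ⟨w, hw, hwg⟩ : g ∈ W.map (MulAut.conj d).toMonoidHom := hdR ▸ hQR hg
      refine ⟨w, ⟨hw, ?_⟩, hwg⟩
      have hwg' : d * w * d⁻¹ = g := hwg
      have h2 := Coprime.mem_normalizer_conj' (two_le_normalizer_pairCore x y hd) (hQ hg)
      rw [← hwg'] at h2
      simpa [mul_assoc] using h2
    exact (Subgroup.eq_of_le_of_card_ge hWQ hcard).ge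
  have hn0 : s ∈ Subgroup.normalizer ((W ⊓ pairCore G x y : Subgroup G) : Set G) :=
    Coprime.mem_normalizer_of_forall_conj fun g hg =>
      ⟨Coprime.mem_normalizer_conj hsn hg.1,
        Coprime.mem_normalizer_conj (h.swap_normalizes_pairCore hs) hg.2⟩
  exact Nat.not_even_iff_odd.2
    ((h.odd_fixSet_iff ⟨hs.1, hc⟩ hn0).2 fun g hg => hcW g hg.1) (hgood x y hxy _ hW0)

variable (hfaith : ∀ g : G, (∀ x : Ω, g • x = x) → g = 1)
include hfaith

/-- A pair with the largest Sylow subgroup fixes two points only and is full. -/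
theorem maxPair_spec_member [Finite G] [Finite Ω] {x y : Ω} (hxy : x ≠ y)
    (hmax : ∀ f g : Ω, f ≠ g → pairCard G l f g ≤ pairCard G l x y) {P : Subgroup G}
    (hP : SylowOf l P (two G x y)) :
    BenderTrans.fixSet Ω P = {x, y} ∧ SylowOf l P (stabilizer G x) := by
  have heven := h.even_fixSet_sylow_two hgood hl2 hxy hP
  have hPodd : Odd (Nat.card P) := by
    obtain ⟨k, hk⟩ := hP.2.1.exists_card_eq
    rw [hk]; exact (hl.out.odd_of_ne_two hl2).pow
  have hx : x ∈ BenderTrans.fixSet Ω P := fun g hg => (mem_two_iff.1 (hP.1 hg)).1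
  have hy : y ∈ BenderTrans.fixSet Ω P := fun g hg => (mem_two_iff.1 (hP.1 hg)).2
  obtain ⟨u, hu, hun⟩ := h.exists_swap_normalizes_sylow hl2 hxy hP
  set N := Subgroup.normalizer (P : Set G) with hN
  set N0 := coreIn N with hN0
  have hF : ∀ f ∈ BenderTrans.fixSet Ω P, f ≠ x → ∃ n ∈ N0, n • y = f := by
    intro f hf hfx
    have hPf : SylowOf l P (two G x f) :=
      sylowOf_of_card (fun g hg => mem_two_iff.2 ⟨hx g hg, hf g hg⟩) hP.2.1
        (by rw [card_sylowOf hP]; exact hmax x f hfx.symm)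
    obtain ⟨w, hw, hwn⟩ := h.exists_swap_normalizes_sylow hl2 hfx.symm hPf
    refine ⟨w * u, h.mul_mem_coreIn_normalizer hfaith hPodd heven hu.1 hw.1 hun hwn, ?_⟩
    rw [mul_smul, h.swap_symm hu, hw.2]
  have hFxy : BenderTrans.fixSet Ω P = {x, y} := by
    refine Set.Subset.antisymm (fun f hf => ?_) ?_
    · by_contra hcon
      rw [Set.mem_insert_iff, Set.mem_singleton_iff, not_or] at hcon
      obtain ⟨n, hn, hnf⟩ := hF f hf hcon.1
      have hn' : u * n * u⁻¹ ∈ N0 := Coprime.mem_normalizer_conj (le_normalizer_coreIn N hun) hn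
      have hu2 := mul_self_eq_one (h.invol u hu.1)
      have h1 : (u * n * u⁻¹) • x = u • f := by
        rw [inv_eq_self_of_involution (h.invol u hu.1), mul_smul, mul_smul, hu.2, hnf]
      have hne : u • f ≠ x := fun e => hcon.2 (by
        rw [← smul_smul_self (h.invol u hu.1) f, e, hu.2])
      obtain ⟨k, hk, hky⟩ := hF (u • f) (BenderTrans.smul_mem_fixSet hun hf) hne
      have hxorb : x ∈ MulAction.orbit N0 y := by
        refine ⟨⟨(u * n * u⁻¹)⁻¹ * k, N0.mul_mem (N0.inv_mem hn') hk⟩, ?_⟩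
        show ((u * n * u⁻¹)⁻¹ * k) • y = x
        rw [mul_smul, hky, ← h1, inv_smul_smul]
      have horb : BenderTrans.fixSet Ω P = MulAction.orbit N0 y := by
        refine Set.Subset.antisymm (fun g hg => ?_) ?_
        · rcases eq_or_ne g x with rfl | hgx
          · exact hxorb
          · obtain ⟨j, hj, hjy⟩ := hF g hg hgx
            exact ⟨⟨j, hj⟩, hjy⟩
        · rintro _ ⟨j, rfl⟩
          exact BenderTrans.smul_mem_fixSet (coreIn_le N j.2) hy
      rw [horb, ← MulAction.index_stabilizer] at heven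
      exact Nat.not_even_iff_odd.2
        ((odd_coreIn N).of_dvd_nat (Subgroup.index_dvd_card _)) heven
    · rintro f (rfl | rfl) <;> assumption
  refine ⟨hFxy, ?_⟩
  obtain ⟨S, hS, hPS⟩ := exists_sylowOf_ge (hP.1.trans (two_le_stabilizer x y)) hP.2.1
  rcases hPS.eq_or_lt with rfl | hlt
  · exact hS
  exfalso
  have hgrow := lt_normalizer_inf hS.2.1 hlt
  have hT : Subgroup.normalizer (P : Set G) ⊓ S ≤ two G x y := by
    intro g hg
    have hgx : g • x = x := hS.1 hg.2
    refine mem_two_iff.2 ⟨hgx, ?_⟩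
    have h1 := BenderTrans.smul_mem_fixSet hg.1 hy
    rw [hFxy, Set.mem_insert_iff, Set.mem_singleton_iff] at h1
    exact h1.resolve_left fun e => hxy ((MulAction.injective g (hgx.trans e.symm)))
  exact hgrow.ne' (hP.2.2 _ hT (hS.2.1.to_le inf_le_right)
    (le_inf Subgroup.le_normalizer hPS))

/-- A Sylow subgroup of a point stabiliser fixes exactly one further point. -/
theorem exists_partner_member [Finite G] [Finite Ω] {a : Ω} {Q : Subgroup G}
    (hQ : SylowOf l Q (stabilizer G a)) :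
    ∃ b : Ω, b ≠ a ∧ BenderTrans.fixSet Ω Q = {a, b} := by
  have : Nonempty {z : Ω × Ω // z.1 ≠ z.2} := by
    obtain ⟨b, hb⟩ := h.nontriv a
    exact ⟨⟨(a, b), hb.symm⟩⟩
  obtain ⟨⟨⟨x, y⟩, hxy⟩, hmax⟩ :=
    Finite.exists_max fun z : {z : Ω × Ω // z.1 ≠ z.2} => pairCard G l z.1.1 z.1.2
  obtain ⟨P, hP, -⟩ := exists_sylowOf_ge (p := l) (bot_le : (⊥ : Subgroup G) ≤ two G x y)
    IsPGroup.of_bot
  obtain ⟨hfix, hsyl⟩ :=
    h.maxPair_spec_member hgood hl2 hfaith hxy (fun f g hfg => hmax ⟨(f, g), hfg⟩) hP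
  obtain ⟨g, hg⟩ := h.trans x a
  have hP' : SylowOf l (P.map (MulAut.conj g).toMonoidHom) (stabilizer G a) := by
    have h1 := sylowOf_map_hom (MulAut.conj g).toMonoidHom hsyl
    rwa [← hg, MulAction.stabilizer_smul_eq_stabilizer_map_conj]
  obtain ⟨d, hd, rfl⟩ := exists_conj_sylowOf hP' hQ
  have hda : d • a = a := hd
  refine ⟨d • g • y, fun e => hxy ?_, ?_⟩
  · have : d • g • y = d • g • x := by rw [e, hg, hda]
    exact (MulAction.injective g (MulAction.injective d this)).symm
  · rw [BenderTrans.fixSet_map_conj, BenderTrans.fixSet_map_conj, hfix, Set.image_pair,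
      Set.image_pair, hg, hda]

/-- An `l`-subgroup fixes at least two points. -/
theorem two_le_ncard_fixSet_member [Finite G] [Finite Ω] {T : Subgroup G} (hT : IsPGroup l T)
    (a : Ω) : 2 ≤ (BenderTrans.fixSet Ω T).ncard := by
  obtain ⟨Q, hQ, -⟩ := exists_sylowOf_ge (p := l) (bot_le : (⊥ : Subgroup G) ≤ stabilizer G a)
    IsPGroup.of_bot
  obtain ⟨b, hb, hfix⟩ := h.exists_partner_member hgood hl2 hfaith hQ
  have h1 := ncard_modEq_fixed hQ.2.1 (Set.univ : Set Ω) (fun _ _ _ _ => Set.mem_univ _)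
  have h2 := ncard_modEq_fixed hT (Set.univ : Set Ω) (fun _ _ _ _ => Set.mem_univ _)
  rw [Set.univ_inter, hfix, Set.ncard_pair hb.symm] at h1
  rw [Set.univ_inter] at h2
  have h3 := h2.symm.trans h1
  have hl3 : 3 ≤ l := by have := hl.out.two_le; omega
  have h4 : (BenderTrans.fixSet Ω T).ncard % l = 2 := by
    rw [h3, Nat.mod_eq_of_lt (by omega)]
  have := Nat.mod_le (BenderTrans.fixSet Ω T).ncard l
  omega

/-- A member normalising an `l`-subgroup has at most the `l`-part of the members at a point as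
conjugates under it. -/
theorem ncard_cls_le_part [Finite G] [Finite Ω] {Q : Subgroup G} (hQ : IsPGroup l Q) {u : G}
    (hu : u ∈ Z) (hn : u ∈ Subgroup.normalizer (Q : Set G)) (c : Ω) :
    (cls Q u).ncard ≤ l ^ (memAt Z c).ncard.factorization l := by
  obtain ⟨e, he⟩ := h.exists_fix u hu
  have h2 := h.two_le_ncard_fixSet_member hgood hl2 hfaith hQ e
  obtain ⟨x, hx, hxe⟩ := Set.exists_ne_of_one_lt_ncard (show 1 < (BenderTrans.fixSet Ω Q).ncard by omega) e
  obtain ⟨hne, hsw⟩ := h.swapMem_of_memAt hxe ⟨hu, he⟩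
  obtain ⟨W, hW, hQW, hWn⟩ := h.exists_invariant_sylow_two hl2 hne hsw
    (U := Q) (fun g hg => mem_two_iff.2 ⟨hx g hg, BenderTrans.smul_mem_fixSet hn hx g hg⟩) hQ hn
  rw [← h.ncard_cls_invariant_sylow hl2 hne hsw hW hWn c]
  exact Set.ncard_le_ncard (cls_mono hQW u) (Set.toFinite _)

/-- A good prime dividing the number of members at a point gives double transitivity. -/
theorem twoTrans_of_goodZ' [Finite G] [Finite Ω] {c₀ : Ω} : TwoTrans G Ω := by
  set qp := l ^ (memAt Z c₀).ncard.factorization l with hqp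
  have hodd : ∀ {X : Subgroup G}, IsPGroup l X → Odd (Nat.card X) := fun hX => by
    obtain ⟨k, hk⟩ := hX.exists_card_eq
    rw [hk]; exact (hl.out.odd_of_ne_two hl2).pow
  have hfull : ∀ a b : Ω, a ≠ b → ∀ W, SylowOf l W (two G a b) →
      SylowOf l W (stabilizer G a) := by
    by_contra hcon
    push Not at hcon
    obtain ⟨a₀, b₀, hab₀, P₀, hP₀, hnot₀⟩ := hcon
    classical
    set 𝓡 : Set (Subgroup G × Ω × G) := {z | IsPGroup l z.1 ∧ z.2.2 ∈ Z ∧
      z.2.2 ∈ Subgroup.normalizer (z.1 : Set G) ∧ (cls z.1 z.2.2).ncard = qp ∧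
      z.2.1 ∈ BenderTrans.fixSet Ω z.1 ∧ ¬ SylowOf l z.1 (stabilizer G z.2.1) ∧
      (SylowOf l z.1 (two G z.2.1 (z.2.2 • z.2.1)) ∨ 2 < (BenderTrans.fixSet Ω z.1).ncard)}
    have hne : 𝓡.Nonempty := by
      obtain ⟨u, hu, hun⟩ := h.exists_swap_normalizes_sylow hl2 hab₀ hP₀
      refine ⟨(P₀, a₀, u), hP₀.2.1, hu.1, hun,
        h.ncard_cls_invariant_sylow hl2 hab₀ hu hP₀ hun c₀,
        fun g hg => (mem_two_iff.1 (hP₀.1 hg)).1, hnot₀, Or.inl ?_⟩
      show SylowOf l P₀ (two G a₀ (u • a₀))
      rw [hu.2]; exact hP₀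
    obtain ⟨⟨R, a, u⟩, ⟨hR, hu, hun, hcls, haR, hnot, halt⟩, hmax⟩ :=
      Set.exists_max_image 𝓡 (fun z => Nat.card z.1) (Set.toFinite _) hne
    simp only at hR hu hun hcls haR hnot halt
    obtain ⟨e, he⟩ := h.exists_fix u hu
    set F := BenderTrans.fixSet Ω R with hF
    -- the fixed set is even
    have heven : Even F.ncard := by
      rw [← Nat.not_odd_iff_even, h.odd_fixSet_iff ⟨hu, he⟩ hun]
      intro heF
      obtain ⟨x, hx, hxe⟩ := Set.exists_ne_of_one_lt_ncard
        (show 1 < F.ncard from h.two_le_ncard_fixSet_member hgood hl2 hfaith hR e) e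
      obtain ⟨hne', hsw⟩ := h.swapMem_of_memAt hxe ⟨hu, he⟩
      obtain ⟨W, hW, hRW, hWn⟩ := h.exists_invariant_sylow_two hl2 hne' hsw
        (U := R) (fun g hg => mem_two_iff.2 ⟨hx g hg, BenderTrans.smul_mem_fixSet hun hx g hg⟩)
        hR hun
      have hWe : e ∈ BenderTrans.fixSet Ω W := by
        intro w hw
        obtain ⟨r, hr, d, -, hdu, rfl⟩ := exists_mul_of_cls hRW
          (((h.ncard_cls_invariant_sylow hl2 hne' hsw hW hWn c₀)).trans hcls.symm).le hw
        rw [mul_smul, h.fix_of_commute ⟨hu, he⟩ hdu, heF r hr]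
      exact Nat.not_even_iff_odd.2 ((h.odd_fixSet_iff ⟨hu, he⟩ hWn).2 hWe)
        (h.even_fixSet_sylow_two hgood hl2 hne' hW)
    have hmem : ∀ {w : G}, w ∈ Z → w ∈ Subgroup.normalizer (R : Set G) → w • a ≠ a := by
      intro w hw hwn hwa
      exact Nat.not_even_iff_odd.2 ((h.odd_fixSet_iff ⟨hw, hwa⟩ hwn).2 haR) heven
    set N := Subgroup.normalizer (R : Set G) with hN
    set N0 := coreIn N with hN0
    set b := u • a with hb
    have hbF : b ∈ F := BenderTrans.smul_mem_fixSet hun haR
    -- members of the normaliser map `a` into the orbit of `b`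
    have hA2 : ∀ {w : G}, w ∈ Z → w ∈ N → w • a ∈ MulAction.orbit N0 b := by
      intro w hw hwn
      refine ⟨⟨w * u, h.mul_mem_coreIn_normalizer hfaith (hodd hR) heven hu hw hun hwn⟩, ?_⟩
      show (w * u) • u • a = w • a
      rw [smul_smul, mul_assoc, mul_self_eq_one (h.invol u hu), mul_one]
    -- overgroups of `R` in the normaliser fix two points only
    have hover : ∀ T : Subgroup G, R < T → IsPGroup l T → T ≤ N → a ∈ BenderTrans.fixSet Ω T →
        ∃ x ∈ MulAction.orbit N0 b, BenderTrans.fixSet Ω T = {a, x} := by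
      intro T hRT hT hTN haT
      set X := N0 ⊔ T with hX
      have hXN : X ≤ N := sup_le (coreIn_le N) hTN
      have hXodd : Odd (Nat.card X) :=
        ((odd_coreIn N).mul (hodd hT)).of_dvd_nat
          (card_sup_dvd_of_normalizes (hTN.trans (le_normalizer_coreIn N)))
      have huX : u ∈ Subgroup.normalizer (X : Set G) := by
        refine Coprime.mem_normalizer_of_forall_conj fun g hg => ?_
        have hgN := hXN hg
        have h1 := h.mul_mem_coreIn_normalizer hfaith (hodd hR) heven hu (h.conj_mem g⁻¹ u hu) hun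
          (N.mul_mem (N.mul_mem (N.inv_mem hgN) hun) (N.inv_mem (N.inv_mem hgN)))
        rw [inv_eq_self_of_involution (h.invol u hu)]
        rw [inv_inv] at h1
        rw [show u * g * u = g * (g⁻¹ * u * g * u) by group]
        exact X.mul_mem hg (Subgroup.mem_sup_left h1)
      obtain ⟨Q, hQ, hRQ, hQn⟩ := exists_invariant_sylowOf_ge hXodd (h.invol u hu) huX
        (hRT.le.trans le_sup_right) hR hun
      obtain ⟨Q₁, hQ₁, hTQ₁⟩ := exists_sylowOf_ge (M := X) (le_sup_right : T ≤ X) hT
      obtain ⟨d, hd, hdQ⟩ := exists_conj_sylowOf hQ₁ hQ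
      have hdN : d ∈ N := hXN hd
      have hclsQ : cls Q u = cls R u := (Set.eq_of_subset_of_ncard_le (cls_mono hRQ u)
        ((h.ncard_cls_le_part hgood hl2 hfaith hQ.2.1 hu hQn c₀).trans hcls.ge)
        (Set.toFinite _)).symm
      set u' := d⁻¹ * u * d with hu'
      have hu'Z : u' ∈ Z := by
        have h1 := h.conj_mem d⁻¹ u hu
        rwa [inv_inv] at h1
      have hu'N : u' ∈ N := N.mul_mem (N.mul_mem (N.inv_mem hdN) hun) hdN
      have hu'T : u' ∈ Subgroup.normalizer (T : Set G) := by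
        refine Coprime.mem_normalizer_of_forall_conj fun t ht => ?_
        have hs : d * t * d⁻¹ ∈ Q := by rw [hdQ]; exact ⟨t, hTQ₁ ht, rfl⟩
        obtain ⟨r, hr, hre⟩ : (d * t * d⁻¹)⁻¹ * u * (d * t * d⁻¹)⁻¹⁻¹ ∈ cls R u :=
          hclsQ ▸ ⟨_, Q.inv_mem hs, rfl⟩
        have hρ : (d * t * d⁻¹)⁻¹ * u * (d * t * d⁻¹) * u ∈ R := by
          rw [inv_inv] at hre
          rw [← hre, show r * u * r⁻¹ * u = r * (u * r⁻¹ * u) by group]
          have h1 := Coprime.mem_normalizer_conj hun (R.inv_mem hr)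
          rw [inv_eq_self_of_involution (h.invol u hu)] at h1
          exact R.mul_mem hr h1
        have hρ' : t⁻¹ * u' * t * u' ∈ T := by
          have h1 : d⁻¹ * ((d * t * d⁻¹)⁻¹ * u * (d * t * d⁻¹) * u) * d ∈ R :=
            Coprime.mem_normalizer_conj' hdN hρ
          have h2 : t⁻¹ * u' * t * u' =
              d⁻¹ * ((d * t * d⁻¹)⁻¹ * u * (d * t * d⁻¹) * u) * d := by rw [hu']; group
          exact hRT.le (h2 ▸ h1)
        have h2 : u' * t * u'⁻¹ = t * (t⁻¹ * u' * t * u') := by
          rw [inv_eq_self_of_involution (h.invol u' hu'Z)]; group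
        exact h2 ▸ T.mul_mem ht hρ'
      have hclsT : (cls T u').ncard = qp := by
        refine le_antisymm (h.ncard_cls_le_part hgood hl2 hfaith hT hu'Z hu'T c₀) ?_
        have h1 := BenderTrans.ncard_cls_map_conj R u d⁻¹
        rw [map_conj_of_mem_normalizer (N.inv_mem hdN), inv_inv, ← hu'] at h1
        rw [← hcls, ← h1]
        exact Set.ncard_le_ncard (cls_mono hRT.le u') (Set.toFinite _)
      refine ⟨u' • a, hA2 hu'Z hu'N, ?_⟩
      have hua : u' • a ≠ a := hmem hu'Z hu'N
      refine (Set.eq_of_subset_of_ncard_le ?_ ?_ (Set.toFinite _)).symm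
      · rintro z (rfl | rfl)
        · exact haT
        · exact BenderTrans.smul_mem_fixSet hu'T haT
      rw [Set.ncard_pair hua.symm]
      by_cases hTs : SylowOf l T (stabilizer G a)
      · obtain ⟨z, hz, hfix⟩ := h.exists_partner_member hgood hl2 hfaith hTs
        rw [hfix, Set.ncard_pair hz.symm]
      · by_contra h3
        have hle := hmax (T, a, u') ⟨hT, hu'Z, hu'T, hclsT, haT, hTs, Or.inr (not_le.1 h3)⟩
        exact absurd hle (not_le.2
          (Set.ncard_lt_ncard (SetLike.coe_ssubset_coe.2 hRT) (Set.toFinite _)))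
    -- every other fixed point lies in the orbit of `b`
    have hcover : ∀ g ∈ F, g ≠ a → g ∈ MulAction.orbit N0 b := by
      intro g hg hga
      obtain ⟨W, hW, hRW⟩ := exists_sylowOf_ge (M := two G a g)
        (fun r hr => mem_two_iff.2 ⟨haR r hr, hg r hr⟩) hR
      rcases hRW.eq_or_lt with rfl | hlt
      · obtain ⟨w, hw, hwn⟩ := h.exists_swap_normalizes_sylow hl2 hga.symm hW
        rw [← hw.2]
        exact hA2 hw.1 hwn
      · obtain ⟨x, hx, hfix⟩ := hover _ (lt_normalizer_inf hW.2.1 hlt)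
          (hW.2.1.to_le inf_le_right) inf_le_left fun t ht => (mem_two_iff.1 (hW.1 ht.2)).1
        have hgT : g ∈ BenderTrans.fixSet Ω (Subgroup.normalizer (R : Set G) ⊓ W : Subgroup G) :=
          fun t ht => (mem_two_iff.1 (hW.1 ht.2)).2
        rw [hfix] at hgT
        rcases hgT with e | e
        · exact absurd e hga
        · exact (Set.mem_singleton_iff.1 e) ▸ hx
    -- so the core fixes `a` and `b`
    have hN0a : ∀ n ∈ N0, n • a = a := by
      intro n hn
      by_contra hna
      obtain ⟨⟨i, hi⟩, hie⟩ := hcover _ (BenderTrans.smul_mem_fixSet (coreIn_le N hn) haR) hna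
      have hie' : i • b = n • a := hie
      set c := n⁻¹ * i with hc
      have hcN : c ∈ N0 := N0.mul_mem (N0.inv_mem hn) hi
      have hca : c • b = a := by rw [hc, mul_smul, hie', inv_smul_smul]
      set w := c * u with hw
      have hwa : w • a = a := by rw [hw, mul_smul, ← hb, hca]
      have hw2 : w * w ∈ N0 := by
        have h1 : u * c * u⁻¹ ∈ N0 := Coprime.mem_normalizer_conj (le_normalizer_coreIn N hun) hcN
        rw [inv_eq_self_of_involution (h.invol u hu)] at h1
        have h2 := N0.mul_mem hcN h1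
        simpa [hw, mul_assoc] using h2
      obtain ⟨j, hj⟩ := (odd_coreIn N).of_dvd_nat (Subgroup.orderOf_dvd_natCard N0 hw2)
      set t := w ^ (2 * j + 1) with ht
      have ht2 : t * t = 1 := by
        rw [ht, ← (Commute.refl w).mul_pow, ← hj, pow_orderOf_eq_one]
      have hta : t • a = a := by
        have h1 : w ∈ stabilizer G a := hwa
        exact pow_mem h1 _
      set c' := (w * w) ^ j * c with hc'
      have hc'N : c' ∈ N0 := N0.mul_mem (pow_mem hw2 j) hcN
      have htc : t = c' * u := by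
        rw [ht, hc', pow_succ, pow_mul, pow_two]
        simp only [hw, mul_assoc]
      have hinv : u * c' * u = c'⁻¹ := by
        refine eq_inv_of_mul_eq_one_right ?_
        rw [← ht2, htc]; group
      obtain ⟨k, hk⟩ := LivWag.exists_sqrt (odd_coreIn N)
      set r := c' ^ k
      have hr2 : r * r = c' := by rw [← pow_two]; exact (hk _ hc'N).1
      have hu2 := mul_self_eq_one (h.invol u hu)
      have hru : u * r * u = r⁻¹ := by rw [LivWag.pow_conj_of_sq hu2, hinv, inv_pow]
      have hconj : r * u * r⁻¹ = t := by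
        calc r * u * r⁻¹ = r * u * (u * r * u) := by rw [hru]
          _ = r * (u * u) * r * u := by group
          _ = t := by rw [hu2, mul_one, hr2, htc]
      have htN : t ∈ N := by
        rw [htc]; exact N.mul_mem (coreIn_le N hc'N) hun
      exact hmem (hconj ▸ h.conj_mem r u hu) htN hta
    have hN0b : ∀ n ∈ N0, n • b = b := by
      intro n hn
      have h1 := hN0a _ (Coprime.mem_normalizer_conj' (le_normalizer_coreIn N hun) hn)
      calc n • b = u • (u⁻¹ * n * u) • a := by
            rw [hb]; simp only [smul_smul]; congr 1; group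
        _ = b := by rw [h1]
    have horb : ∀ z ∈ MulAction.orbit N0 b, z = b := by
      rintro z ⟨i, rfl⟩
      exact hN0b _ i.2
    have hFab : F ⊆ {a, b} := by
      intro g hg
      rcases eq_or_ne g a with rfl | hga
      · exact Set.mem_insert _ _
      · exact Set.mem_insert_of_mem _ (horb g (hcover g hg hga))
    have hRab : SylowOf l R (two G a b) := by
      rcases halt with h1 | h1
      · exact h1
      · have h2 := Set.ncard_le_ncard hFab (Set.toFinite _)
        have h4 : ({a, b} : Set Ω).ncard ≤ 2 := by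
          refine (Set.ncard_insert_le _ _).trans ?_
          rw [Set.ncard_singleton]
        omega
    -- a larger subgroup fixes both points
    obtain ⟨S, hS, hRS⟩ := exists_sylowOf_ge (M := stabilizer G a) (fun r hr => haR r hr) hR
    have hlt : R < S := lt_of_le_of_ne hRS fun e1 => hnot (e1 ▸ hS)
    have hgrow := lt_normalizer_inf hS.2.1 hlt
    obtain ⟨x, hx, hfix⟩ := hover _ hgrow (hS.2.1.to_le inf_le_right) inf_le_left
      fun t ht => hS.1 ht.2
    rw [horb x hx] at hfix
    refine hgrow.ne' (hRab.2.2 _ (fun t ht => mem_two_iff.2 ⟨hS.1 ht.2, ?_⟩)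
      (hS.2.1.to_le inf_le_right) (le_inf Subgroup.le_normalizer hRS))
    exact (hfix.symm ▸ Set.mem_insert_of_mem _ rfl :
      b ∈ BenderTrans.fixSet Ω (Subgroup.normalizer (R : Set G) ⊓ S : Subgroup G)) t ht
  intro a b b' hb hb'
  obtain ⟨W, hW, -⟩ := exists_sylowOf_ge (p := l) (bot_le : (⊥ : Subgroup G) ≤ two G a b)
    IsPGroup.of_bot
  obtain ⟨W', hW', -⟩ := exists_sylowOf_ge (p := l) (bot_le : (⊥ : Subgroup G) ≤ two G a b')
    IsPGroup.of_bot
  obtain ⟨c', hc'a, hfix'⟩ := h.exists_partner_member hgood hl2 hfaith (hfull a b' hb'.symm W' hW')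
  have hbW : b ∈ BenderTrans.fixSet Ω W := fun g hg => (mem_two_iff.1 (hW.1 hg)).2
  have hb'W : b' ∈ BenderTrans.fixSet Ω W' := fun g hg => (mem_two_iff.1 (hW'.1 hg)).2
  obtain ⟨d, hd, rfl⟩ := exists_conj_sylowOf (hfull a b hb.symm W hW) (hfull a b' hb'.symm W' hW')
  have hda : d • a = a := hd
  refine ⟨d, hda, ?_⟩
  rw [hfix'] at hb'W
  have h1 : d • b ∈ BenderTrans.fixSet Ω (W.map (MulAut.conj d).toMonoidHom) := by
    rw [BenderTrans.fixSet_map_conj]; exact ⟨b, hbW, rfl⟩
  rw [hfix'] at h1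
  rcases h1 with e | e
  · exact absurd (MulAction.injective d (e.trans hda.symm)) hb
  · rcases hb'W with e' | e'
    · exact absurd e' hb'
    · exact e.trans e'.symm

omit hl2 in
/-- A good prime dividing the number of members at a point gives double transitivity. -/
theorem twoTrans_of_goodZ [Finite G] [Finite Ω] {c : Ω} (hdvd : l ∣ (memAt Z c).ncard) :
    TwoTrans G Ω :=
  h.twoTrans_of_goodZ' hgood (h.ne_two_of_dvd hdvd) hfaith (c₀ := c)

end Setting

end CfsgLib.StrongCrit
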